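import Cfsg.Agent.Lib.LieTwisted.GraphAut
import Cfsg.Agent.Lib.ChevStructure.Torus
import Mathlib.FieldTheory.Finite.Basic
import Mathlib.FieldTheory.Perfect

/-!
Frobenius powers of a finite field and the endomorphism (graph symmetry) ∘ (field automorphism).
-/

set_option autoImplicit false
set_option linter.unusedSectionVars false

namespace Cfsg.Agent.Lib.LieTwisted.Twist.Frob

open Cfsg.Lie ChevStructure

/-- The facts about `t ↦ t ^ q` on a field with `q ^ n` elements. -/
structure Facts (K : Type*) [Field K] (q n : ℕ) (φ : K ≃+* K) : Prop where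
  apply : ∀ t, φ t = t ^ q
  iterate : ∀ k t, (φ : K → K)^[k] t = t ^ q ^ k
  pow : ∀ t, (φ : K → K)^[n] t = t
  card_fix : Nat.card {t : K // φ t = t} = q
  card_units : Nat.card Kˣ = q ^ n - 1

variable {K : Type*} [Field K] [Fintype K] {q n : ℕ}

theorem exists_frob (hq : IsPrimePow q) (hK : Fintype.card K = q ^ n) (hn : n ≠ 0) :
    ∃ φ : K ≃+* K, Facts K q n φ := by
  obtain ⟨p, a, hp, ha, rfl⟩ := hq
  rw [← Nat.prime_iff] at hp
  obtain ⟨p', hp'⟩ := CharP.exists K
  obtain ⟨m, hprime, hm⟩ := FiniteField.card K p'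
  have hpe : p = p' := by
    have h1 : p ∣ p' ^ (m : ℕ) := by
      rw [← hm, hK, ← pow_mul]
      exact dvd_pow_self p (Nat.mul_ne_zero ha.ne' hn)
    exact (Nat.prime_dvd_prime_iff_eq hp hprime).1 (hp.dvd_of_dvd_pow h1)
  subst hpe
  have : Fact p.Prime := ⟨hp⟩
  have : ExpChar K p := ExpChar.prime hp
  have happ : ∀ t, iterateFrobeniusEquiv K p a t = t ^ p ^ a := fun t => by
    simp [iterateFrobeniusEquiv_apply, iterateFrobenius_def]
  have hit : ∀ k t, (iterateFrobeniusEquiv K p a : K → K)^[k] t = t ^ (p ^ a) ^ k := by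
    intro k
    induction k with
    | zero => simp
    | succ k ih => intro t; rw [Function.iterate_succ_apply', ih, happ, ← pow_mul, ← pow_succ]
  have hu : Nat.card Kˣ = (p ^ a) ^ n - 1 := by
    rw [Nat.card_units, Nat.card_eq_fintype_card, hK]
  refine ⟨iterateFrobeniusEquiv K p a, happ, hit, fun t => ?_, ?_, hu⟩
  · rw [hit, ← hK, FiniteField.pow_card]
  · have hq1 : 1 ≤ p ^ a := Nat.one_le_pow _ _ hp.pos
    have hker : Nat.card (powMonoidHom (p ^ a - 1) : Kˣ →* Kˣ).ker = p ^ a - 1 := by
      rw [IsCyclic.card_powMonoidHom_ker, hu]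
      exact Nat.gcd_eq_right (by simpa using Nat.sub_dvd_pow_sub_pow (p ^ a) 1 n)
    let e : {t : K // iterateFrobeniusEquiv K p a t = t} ≃ Option (powMonoidHom (p ^ a - 1) : Kˣ →* Kˣ).ker :=
      { toFun := fun t => by
          classical
          exact if h : t.1 = 0 then none else some ⟨Units.mk0 t.1 h, by
            have := (happ t.1).symm.trans t.2
            refine Units.ext (mul_right_cancel₀ h ?_)
            simp only [powMonoidHom_apply, Units.val_pow_eq_pow_val, Units.val_mk0, Units.val_one, one_mul]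
            rw [← pow_succ, Nat.sub_add_cancel hq1, this]⟩
        invFun := fun o => match o with
          | none => ⟨0, map_zero _⟩
          | some u => ⟨(u.1 : K), by
              have hu1 : (u.1 : K) ^ (p ^ a - 1) = 1 := by
                have := congrArg Units.val u.2
                simpa using this
              rw [happ]
              calc (u.1 : K) ^ p ^ a = (u.1 : K) ^ (p ^ a - 1) * u.1 := by rw [← pow_succ, Nat.sub_add_cancel hq1]
                _ = _ := by rw [hu1, one_mul]⟩
        left_inv := fun t => by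
          by_cases h : t.1 = 0
          · simp only [dif_pos h]; exact Subtype.ext h.symm
          · simp only [dif_neg h]; rfl
        right_inv := fun o => by
          match o with
          | none => simp
          | some u => simp [Units.ne_zero] }
    rw [Nat.card_congr e, Finite.card_option, hker]
    omega

theorem ne_id {φ : K ≃+* K} (F : Facts K q n φ) (hn : 2 ≤ n) (hq : 1 < q) : ∃ t, φ t ≠ t := by
  by_contra h
  push Not at h
  have h1 := F.card_fix
  rw [Nat.card_congr (Equiv.subtypeUnivEquiv h), Nat.card_eq_fintype_card] at h1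
  have h2 := F.card_units
  rw [Nat.card_units, Nat.card_eq_fintype_card, h1] at h2
  have : q < q ^ n := by
    calc q = q ^ 1 := (pow_one q).symm
      _ < q ^ n := Nat.pow_lt_pow_right hq (by omega)
  omega

variable {D : ChevalleyDatum}

/-- The endomorphism as an automorphism of `GL`. -/
noncomputable def theta {S : GraphAut.Sym} (g : S.Good D) (φ : K ≃+* K) : GL D.Idx K ≃* GL D.Idx K :=
  (Units.mapEquiv (RingEquiv.mapMatrix φ).toMulEquiv).trans (MulAut.conj (GraphAut.monGL K g))

/-- The permutation of the roots. -/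
def rootPerm {S : GraphAut.Sym} (g : S.Good D) : Equiv.Perm (Rt D) where
  toFun r := ⟨S.π r, (g.pi r r.2).1⟩
  invFun r := ⟨S.πi r, (g.pi r r.2).2.1⟩
  left_inv r := Fin.ext (g.pi r r.2).2.2.1
  right_inv r := Fin.ext (g.pi r r.2).2.2.2

/-- The permutation of the simple roots. -/
def nodePerm {S : GraphAut.Sym} (g : S.Good D) : Equiv.Perm (Fin D.rank) where
  toFun i := ⟨S.ρ i, (g.rho i i.2).1⟩
  invFun i := ⟨S.ρi i, (g.rho i i.2).2.2.2⟩
  left_inv i := Fin.ext (g.rho i i.2).2.1
  right_inv i := Fin.ext (g.rho i i.2).2.2.1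

theorem theta_X (C : Core D) {S : GraphAut.Sym} (g : S.Good D) (φ : K ≃+* K) (r : Rt D) (t : K) :
    theta g φ (C.X K r t) = C.X K (rootPerm g r) ((S.ε r : K) * φ t) := by
  have e : (Units.mapEquiv (RingEquiv.mapMatrix φ).toMulEquiv) (C.X K r t) = C.X K r (φ t) := by
    rw [← show Matrix.GeneralLinearGroup.map (φ : K →+* K) (C.X K r t) = C.X K r (φ t) from C.X_map K _ r t]
    rfl
  rw [theta, MulEquiv.trans_apply, e]
  apply Units.ext
  have h1 := C.X_val_x r (φ t)
  have h2 := C.X_val_x (rootPerm g r) ((S.ε r : K) * φ t)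
  simp only [ChevalleyDatum.x, dif_pos r.isLt] at h1
  simp only [ChevalleyDatum.x, dif_pos (rootPerm g r).isLt] at h2
  rw [h2]
  exact GraphAut.conj_root K g _ r (φ t) h1

theorem theta_HT (C : Core D) {S : GraphAut.Sym} (g : S.Good D) (φ : K ≃+* K)
    (hp : ∀ i, rootPerm g (C.p i) = C.p (nodePerm g i)) (hrev : ∀ r : Rt D, rootPerm g r.rev = (rootPerm g r).rev)
    (hε : ∀ i, S.ε (C.p i) = 1 ∧ S.ε (C.p i).rev = 1) (c : Fin D.rank → Kˣ) :
    theta g φ (C.HT K c) = C.HT K fun i => Units.map (φ : K →* K) (c ((nodePerm g).symm i)) := by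
  classical
  have hX : ∀ i t, theta g φ (C.X K (C.p i) t) = C.X K (C.p (nodePerm g i)) (φ t) := fun i t => by
    rw [theta_X, hp, (hε i).1]; simp
  have hXr : ∀ i t, theta g φ (C.X K (C.p i).rev t) = C.X K (C.p (nodePerm g i)).rev (φ t) := fun i t => by
    rw [theta_X, hrev, hp, (hε i).2]; simp
  have hn : ∀ i (u : Kˣ), theta g φ (C.nR K (C.p i) u) =
      C.nR K (C.p (nodePerm g i)) (Units.map (φ : K →* K) u) := fun i u => by
    simp [Core.nR, hX, hXr]
  let τ : (Fin D.rank → Kˣ) →* (Fin D.rank → Kˣ) :=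
    MonoidHom.mk' (fun c i => Units.map (φ : K →* K) (c ((nodePerm g).symm i))) fun a b => funext fun i => by simp
  have e : (theta g φ).toMonoidHom.comp (C.HThom K) = (C.HThom K).comp τ := by
    refine MonoidHom.pi_ext fun i a => ?_
    show theta g φ (C.HT K (Pi.mulSingle i a)) = C.HT K (τ (Pi.mulSingle i a))
    have e2 : τ (Pi.mulSingle i a) = Pi.mulSingle (nodePerm g i) (Units.map (φ : K →* K) a) := by
      funext j
      obtain ⟨j, rfl⟩ := (nodePerm g).surjective j
      by_cases hj : j = i
      · subst hj; simp [τ]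
      · simp [τ, hj]
    rw [e2, C.HT_single, C.HT_single, ← C.hR_eq, ← C.hR_eq, map_mul, hn, hn]
    congr 2
    exact Units.ext (by simp)
  exact DFunLike.congr_fun e c

end Cfsg.Agent.Lib.LieTwisted.Twist.Frob
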