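import Cfsg.Agent.Lib.LieTwisted.Twist.OrthPerfect
import Cfsg.Agent.Lib.LieTwisted.Twist.Frob
import Cfsg.Agent.Lib.LieTwisted.GraphData
import Cfsg.Agent.Lib.ChevStructure.CommAll
import Cfsg.Agent.Lib.Coxeter.Certs
import Cfsg.Prelude.Def_LieTwisted

/-!
The triality twisted groups ³D₄(q) as an instance of the generic theory.
-/

set_option autoImplicit false
set_option maxRecDepth 100000
set_option linter.unusedSectionVars false

namespace Cfsg.Agent.Lib.LieTwisted.Twist.D4

open Cfsg.Lie ChevStructure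
open scoped MatrixGroups

/-- The tables of type D₄. -/
noncomputable def C : Core chevD4 := Cert.D4.core

abbrev g := GraphData.symD4_good

/-- The fundamental roots. -/
def pD : Fin chevD4.rank → Rt chevD4 := ![⟨18, by decide⟩, ⟨14, by decide⟩, ⟨13, by decide⟩, ⟨12, by decide⟩]

theorem p_eq : ∀ i, C.p i = pD i := fun i => Fin.ext <| by
  rw [C, Cert.D4.core, Cert.D4.certified.p_val]
  revert i
  decide +kernel

/-- The orbit representatives. -/
def osD : Fin 2 → Fin chevD4.rank := ![⟨1, by decide⟩, ⟨0, by decide⟩]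

/-- The orbit of a node. -/
def idxD : Fin chevD4.rank → Fin 2 := ![1, 0, 1, 1]

/-- Integral multiple of the inverse Cartan matrix. -/
def invA : Fin chevD4.rank → Fin chevD4.rank → ℤ :=
  ![![2, 2, 1, 1], ![2, 4, 2, 2], ![1, 2, 2, 1], ![1, 2, 1, 2]]

theorem invA_spec : ∀ j k, ∑ m, invA j m * A chevD4 k (pD m) = if k = j then 2 else 0 := by decide +kernel

/-- The Cartan matrix. -/
def cartanD : Fin chevD4.rank → Fin chevD4.rank → ℤ :=
  ![![2, -1, 0, 0], ![-1, 2, -1, -1], ![0, -1, 2, 0], ![0, -1, 0, 2]]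

theorem cartan_vals : ∀ j m, A chevD4 j (pD m) = cartanD j m := by decide +kernel

theorem root_p : ∀ i, Frob.rootPerm g (C.p i) = C.p (Frob.nodePerm g i) := by
  simp only [p_eq]
  decide +kernel

theorem root_rev : ∀ r : Rt chevD4, Frob.rootPerm g r.rev = (Frob.rootPerm g r).rev := by decide +kernel

theorem sign_p : ∀ i, GraphData.symD4.ε (C.p i) = 1 ∧ GraphData.symD4.ε (C.p i).rev = 1 := by
  simp only [p_eq]
  decide +kernel

theorem node_cube : ∀ j, Frob.nodePerm g (Frob.nodePerm g (Frob.nodePerm g j)) = j := by decide +kernel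

variable {K : Type*} [Field K]

theorem chA_one {c : Fin chevD4.rank → Kˣ} (h : C.HT K c = 1) (s : Rt chevD4) : C.chA c s = 1 := by
  have e : C.HT K c = Core.diag K (fun s => C.chA c s) := rfl
  rw [e, ← C.diag_one K] at h
  exact congrFun (C.diag_inj K h) s

theorem ker_sq {c : Fin chevD4.rank → Kˣ} (h : C.HT K c = 1) (j : Fin chevD4.rank) : c j ^ (2 : ℤ) = 1 := by
  have h1 : ∏ m, C.chA c (C.p m) ^ invA j m = c j ^ (2 : ℤ) := by
    simp only [Core.chA, p_eq, ← Finset.prod_zpow, ← zpow_mul]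
    rw [Finset.prod_comm, Finset.prod_eq_single j]
    · rw [← C.zpow_fsum]
      congr 1
      rw [Finset.sum_congr rfl fun m _ => mul_comm _ _, invA_spec, if_pos rfl]
    · intro k _ hk
      rw [← C.zpow_fsum, Finset.sum_congr rfl fun m _ => mul_comm _ _, invA_spec, if_neg hk, zpow_zero]
    · simp
  rw [← h1]
  simp [chA_one h]

section

variable [Fintype K] {q : ℕ} {φ : K ≃+* K} (F : Frob.Facts K q 3 φ) (hq1 : 1 < q) (hK : Fintype.card K = q ^ 3)

/-- The transformation of torus parameters. -/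
noncomputable def τT (φ : K ≃+* K) (c : Fin chevD4.rank → Kˣ) : Fin chevD4.rank → Kˣ :=
  fun i => Units.map (φ : K →* K) (c ((Frob.nodePerm g).symm i))

theorem τT_apply (c : Fin chevD4.rank → Kˣ) (i : Fin chevD4.rank) :
    τT φ c (Frob.nodePerm g i) = Units.map (φ : K →* K) (c i) := by simp [τT]

include F in
theorem τT_pow (c : Fin chevD4.rank → Kˣ) : τT φ (τT φ (τT φ c)) = c := by
  funext i
  obtain ⟨j, rfl⟩ := ((Frob.nodePerm g).trans ((Frob.nodePerm g).trans (Frob.nodePerm g))).surjective i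
  simp only [Equiv.trans_apply, τT_apply]
  rw [node_cube]
  exact Units.ext (F.pow _)

include F in
theorem lang (c : Fin chevD4.rank → Kˣ) (hc : C.HT K (τT φ c) = C.HT K c) :
    ∃ d : Fin chevD4.rank → Kˣ, τT φ d = d ∧ C.HT K d = C.HT K c := by
  set z := τT φ c / c with hz
  have hτmul : ∀ a b, τT φ (a / b) = τT φ a / τT φ b := fun a b => funext fun i => by simp [τT]
  have hzk : C.HT K z = 1 := by
    show C.HThom K (τT φ c / c) = 1
    rw [map_div, div_eq_one]
    exact hc
  have hzsq : z * z = 1 := funext fun j => by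
    have := ker_sq hzk j
    rwa [zpow_two] at this
  have key : ∀ x y u : Fin chevD4.rank → Kˣ, y / x * (u / y) * (x / u) = 1 := fun x y u => by
    rw [mul_comm (y / x), div_mul_div_cancel, div_mul_div_cancel, div_self']
  have hN : z * τT φ z * τT φ (τT φ z) = 1 := by
    have h := key c (τT φ c) (τT φ (τT φ c))
    rw [hz, hτmul, hτmul, τT_pow F]
    exact h
  set w := τT φ z with hw
  have hww : τT φ w = z * w := by
    have h1 : z * w * τT φ w = 1 := hN
    have h2 := eq_inv_of_mul_eq_one_right h1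
    rw [h2, mul_inv]
    have hw2 : w * w = 1 := by
      have hm : ∀ a b : Fin chevD4.rank → Kˣ, τT φ (a * b) = τT φ a * τT φ b := fun a b =>
        funext fun i => map_mul _ _ _
      rw [hw, ← hm, hzsq]
      exact funext fun i => map_one _
    rw [inv_eq_of_mul_eq_one_right hzsq, inv_eq_of_mul_eq_one_right hw2]
  refine ⟨c / w, ?_, ?_⟩
  · show τT φ (c / w) = c / w
    rw [hτmul, hww, hz, div_mul_eq_div_div]
    simp
  · have hwk : C.HT K w = 1 := by
      have h1 : C.HT K (τT φ z) = Frob.theta g φ (C.HT K z) :=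
        (Frob.theta_HT C g φ root_p root_rev sign_p z).symm
      rw [hw, h1, hzk, map_one]
    show C.HThom K (c / w) = _
    rw [map_div, show C.HThom K w = 1 from hwk, div_one]
    rfl

include F hq1 hK in
/-- The twisted data of ³D₄(q). -/
noncomputable def orth : Orth C K where
  comm := Cert.D4.core.commOK_mild mildD4
  Θ := Frob.theta g φ
  φ := φ
  ε r := GraphData.symD4.ε r
  ε_ne r := left_ne_zero_of_mul (a := (GraphData.symD4.ε r : K)) (b := (GraphData.symD4.ε r : K)) (by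
    rw [GraphAut.eps_cast_mul_self K g r.isLt]; exact one_ne_zero)
  π := Frob.rootPerm g
  ρ := Frob.nodePerm g
  Θ_X r t := Frob.theta_X C g φ r t
  π_p := root_p
  π_rev := root_rev
  π_pos := by
    show ∀ r : Rt chevD4, chevD4.nroots ≤ 2 * r.val → chevD4.nroots ≤ 2 * (Frob.rootPerm g r).val
    decide +kernel
  ε_p := sign_p
  n := 3
  two_le := by norm_num
  φ_pow := F.pow
  φ_free j h0 hj := by
    obtain ⟨t, ht⟩ := Frob.ne_id F (by norm_num) hq1
    refine ⟨t, fun h => ?_⟩
    interval_cases j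
    · exact ht h
    · refine ht ?_
      have := congrArg φ h
      rw [← Function.iterate_succ_apply' (f := (φ : K → K)), F.pow] at this
      exact this.symm
  ρ_pow := by decide +kernel
  free := by decide +kernel
  orth := by
    have key : ∀ i : Fin chevD4.rank, ∀ a < 3, ∀ b < 3,
        (Frob.nodePerm g : _ → _)^[a] i ≠ (Frob.nodePerm g : _ → _)^[b] i →
        A chevD4 ((Frob.nodePerm g : _ → _)^[a] i) (pD ((Frob.nodePerm g : _ → _)^[b] i)) = 0 ∧
        chevD4.commTerms (pD ((Frob.nodePerm g : _ → _)^[a] i)).val (pD ((Frob.nodePerm g : _ → _)^[b] i)).val = [] ∧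
        chevD4.commTerms (pD ((Frob.nodePerm g : _ → _)^[a] i)).val (pD ((Frob.nodePerm g : _ → _)^[b] i)).rev.val = [] ∧
        chevD4.commTerms (pD ((Frob.nodePerm g : _ → _)^[a] i)).rev.val
          (pD ((Frob.nodePerm g : _ → _)^[b] i)).rev.val = [] := by decide +kernel
    rintro i a ha b hb i' j' rfl rfl hne
    simp only [p_eq]
    exact key i a ha b hb hne
  nn := 2
  os := osD
  idx := idxD
  idx_os := by decide +kernel
  idx_ρ := by decide +kernel
  cycle := by
    have key : ∀ i : Fin chevD4.rank, ∃ k : Fin 3,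
        k.val < (if Frob.nodePerm g (osD (idxD i)) = osD (idxD i) then 1 else 3) ∧
          (Frob.nodePerm g : _ → _)^[k.val] (osD (idxD i)) = i := by decide +kernel
    intro i
    obtain ⟨k, h1, h2⟩ := key i
    exact ⟨k.val, h1, h2⟩
  q := q
  card_K := by rw [Nat.card_eq_fintype_card, hK]
  card_fix := F.card_fix
  lang := lang F

/-- The orbit of the orbit representative, as lists of nodes. -/
def Js : List (List ℕ) := [[1], [0, 2, 3]]

def reps : List (List (List ℕ)) := [
  [[], [0]],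
  [[], [1], [0, 1], [1, 0, 1], [0, 1, 0, 1], [1, 0, 1, 0, 1]]]

def wits : List (List (List (ℕ × List ℕ))) := [
  [[(1, [])], [(0, [])]],
  [[(0, [0]), (1, [])], [(2, []), (0, [])], [(1, []), (3, [])], [(4, []), (2, [])], [(3, []), (5, [])], [(5, [0]), (4, [])]]]

/-- The input word of a generator. -/
def genWord (φ : K ≃+* K) : Fin 2 → Bool → K → List (ℕ × K)
  | 0, false, t => [(14, t)]
  | 0, true, t => [(9, t)]
  | 1, false, t => [(18, t), (13, φ t), (12, φ (φ t))]
  | 1, true, t => [(5, t), (10, φ t), (11, φ (φ t))]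

theorem node_vals : (Frob.nodePerm g ⟨0, by decide⟩ = (⟨2, by decide⟩ : Fin chevD4.rank)) ∧
    (Frob.nodePerm g ⟨2, by decide⟩ = (⟨3, by decide⟩ : Fin chevD4.rank)) ∧
    (Frob.nodePerm g ⟨1, by decide⟩ = (⟨1, by decide⟩ : Fin chevD4.rank)) ∧
    (Frob.nodePerm g ⟨0, by decide⟩ ≠ (⟨0, by decide⟩ : Fin chevD4.rank)) := by decide +kernel

theorem sz_os : (orth F hq1 hK).sz (osD 0) = 1 ∧ (orth F hq1 hK).sz (osD 1) = 3 :=
  ⟨if_pos node_vals.2.2.1, if_neg node_vals.2.2.2⟩

theorem xS_val (m : Fin 2) (s : Bool) (t : K) :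
    (((orth F hq1 hK).xS s (osD m) t : GL chevD4.Idx K) : Matrix chevD4.Idx chevD4.Idx K) =
      chevD4.wordMat K (genWord φ m s t) := by
  have e : (((orth F hq1 hK).xS s (osD m) t : GL chevD4.Idx K) : Matrix chevD4.Idx chevD4.Idx K) =
      ((List.range ((orth F hq1 hK).sz (osD m))).map fun k =>
        chevD4.x K (sd s (pD ((Frob.nodePerm g : _ → _)^[k] (osD m)))).val ((φ : K → K)^[k] t)).prod := by
    rw [Orth.xS, Orth.oprod, ← Units.coeHom_apply (List.prod _), map_list_prod, List.map_map]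
    refine congrArg List.prod (List.map_congr_left fun k _ => ?_)
    rw [Function.comp_apply, Units.coeHom_apply, C.X_val_x, p_eq]
    rfl
  rw [e]
  obtain ⟨h1, h2⟩ := sz_os F hq1 hK
  fin_cases m
  · cases s <;> simp only [Fin.zero_eta, h1] <;> rfl
  · cases s <;> simp only [Fin.mk_one, h2] <;> rfl

theorem G1_eq : (orth F hq1 hK).G1 = Cfsg.Lie.twistedD4 K q := by
  rw [Cfsg.Lie.twistedD4, ChevalleyDatum.genSubgroup, Orth.G1]
  congr 1
  ext x
  have hval : ∀ i : Fin chevD4.rank, ∀ t, (orth F hq1 hK).sz i = 3 → (orth F hq1 hK).Valid i t := fun i t h => by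
    unfold Orth.Valid; rw [h]; exact F.pow t
  obtain ⟨h1, h2⟩ := sz_os F hq1 hK
  have hv0 : ∀ t, (orth F hq1 hK).Valid (osD 0) t ↔ t ^ q = t := fun t => by
    unfold Orth.Valid; rw [h1]; show φ t = t ↔ _; rw [F.apply]
  have hpow : ∀ t, φ (φ t) = t ^ q ^ 2 := fun t => F.iterate 2 t
  constructor
  · rintro ⟨m, s, t, ht, rfl⟩
    refine ⟨genWord φ m s t, ?_, xS_val F hq1 hK m s t⟩
    have hm : ∀ m : Fin 2, m = 0 ∨ m = 1 := by decide
    rcases hm m with rfl | rfl <;> cases s
    · exact Or.inl ⟨t, (hv0 t).1 ht, d4p2, by simp, rfl⟩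
    · exact Or.inl ⟨t, (hv0 t).1 ht, d4m2, by simp, rfl⟩
    · exact Or.inr ⟨t, (d4p1, d4p3, d4p4), by simp, by simp [genWord, F.apply, d4p1, d4p3, d4p4, ← pow_mul, sq]⟩
    · exact Or.inr ⟨t, (d4m1, d4m3, d4m4), by simp, by simp [genWord, F.apply, d4m1, d4m3, d4m4, ← pow_mul, sq]⟩
  · rintro ⟨w, (⟨t, ht, r, hr, rfl⟩ | ⟨t, rs, hr, rfl⟩), hx⟩
    · simp only [List.mem_cons, List.not_mem_nil, or_false] at hr
      rcases hr with rfl | rfl
      · exact ⟨(0 : Fin 2), false, t, (hv0 t).2 ht, Units.ext (hx.trans (xS_val F hq1 hK 0 false t).symm)⟩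
      · exact ⟨(0 : Fin 2), true, t, (hv0 t).2 ht, Units.ext (hx.trans (xS_val F hq1 hK 0 true t).symm)⟩
    · simp only [List.mem_cons, List.not_mem_nil, or_false] at hr
      rcases hr with rfl | rfl
      · refine ⟨(1 : Fin 2), false, t, hval _ t h2, Units.ext (hx.trans ?_)⟩
        refine Eq.trans ?_ (xS_val F hq1 hK 1 false t).symm
        simp [genWord, F.apply, d4p1, d4p3, d4p4, ← pow_mul, sq]
      · refine ⟨(1 : Fin 2), true, t, hval _ t h2, Units.ext (hx.trans ?_)⟩
        refine Eq.trans ?_ (xS_val F hq1 hK 1 true t).symm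
        simp [genWord, F.apply, d4m1, d4m3, d4m4, ← pow_mul, sq]

theorem node_tf : (Frob.nodePerm g).symm ⟨0, by decide⟩ = (⟨3, by decide⟩ : Fin chevD4.rank) ∧
    (Frob.nodePerm g).symm ⟨1, by decide⟩ = (⟨1, by decide⟩ : Fin chevD4.rank) ∧
    (Frob.nodePerm g).symm ⟨2, by decide⟩ = (⟨0, by decide⟩ : Fin chevD4.rank) ∧
    (Frob.nodePerm g).symm ⟨3, by decide⟩ = (⟨2, by decide⟩ : Fin chevD4.rank) := by decide +kernel

theorem mem_TF (c : Fin chevD4.rank → Kˣ) : c ∈ (orth F hq1 hK).TF ↔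
    Units.map (φ : K →* K) (c ⟨1, by decide⟩) = c ⟨1, by decide⟩ ∧
      Units.map (φ : K →* K) (c ⟨0, by decide⟩) = c ⟨2, by decide⟩ ∧
      Units.map (φ : K →* K) (c ⟨2, by decide⟩) = c ⟨3, by decide⟩ := by
  obtain ⟨a, b, d, e⟩ := node_tf
  constructor
  · intro h
    have h' : ∀ i, Units.map (φ : K →* K) (c ((Frob.nodePerm g).symm i)) = c i := congrFun h
    refine ⟨?_, ?_, ?_⟩
    · simpa only [b] using h' ⟨1, by decide⟩
    · simpa only [d] using h' ⟨2, by decide⟩
    · simpa only [e] using h' ⟨3, by decide⟩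
  · rintro ⟨u1, u2, u3⟩
    refine funext fun i => ?_
    show Units.map (φ : K →* K) (c ((Frob.nodePerm g).symm i)) = c i
    have hi : i = ⟨0, by decide⟩ ∨ i = ⟨1, by decide⟩ ∨ i = ⟨2, by decide⟩ ∨ i = ⟨3, by decide⟩ := by
      revert i; decide
    rcases hi with rfl | rfl | rfl | rfl
    · rw [a]
      refine Units.ext ?_
      rw [← u3, ← u2]
      exact F.pow _
    · rw [b, u1]
    · rw [d, u2]
    · rw [e, u3]

theorem card_TF : Nat.card (orth F hq1 hK).TF = (q - 1) * (q ^ 3 - 1) := by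
  classical
  let e : (orth F hq1 hK).TF ≃ {u : Kˣ // Units.map (φ : K →* K) u = u} × Kˣ :=
    { toFun := fun c => (⟨c.1 ⟨1, by decide⟩, ((mem_TF F hq1 hK c.1).1 c.2).1⟩, c.1 ⟨0, by decide⟩)
      invFun := fun x => ⟨![x.2, x.1.1, Units.map (φ : K →* K) x.2, Units.map (φ : K →* K) (Units.map (φ : K →* K) x.2)],
        (mem_TF F hq1 hK _).2 ⟨x.1.2, rfl, rfl⟩⟩
      left_inv := fun c => Subtype.ext (funext fun i => by
        obtain ⟨_, u2, u3⟩ := (mem_TF F hq1 hK c.1).1 c.2
        have hi : i = ⟨0, by decide⟩ ∨ i = ⟨1, by decide⟩ ∨ i = ⟨2, by decide⟩ ∨ i = ⟨3, by decide⟩ := by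
          revert i; decide
        rcases hi with rfl | rfl | rfl | rfl
        · rfl
        · rfl
        · exact u2
        · exact (congrArg _ u2).trans u3)
      right_inv := fun x => rfl }
  let e2 : Option {u : Kˣ // Units.map (φ : K →* K) u = u} ≃ {t : K // φ t = t} :=
    { toFun := fun o => match o with
        | none => ⟨0, map_zero φ⟩
        | some u => ⟨(u.1 : K), congrArg Units.val u.2⟩
      invFun := fun t => if h : t.1 = 0 then none else some ⟨Units.mk0 t.1 h, Units.ext t.2⟩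
      left_inv := fun o => by
        match o with
        | none => simp
        | some u => simp [Units.ne_zero]
      right_inv := fun t => by
        by_cases h : t.1 = 0
        · simp only [dif_pos h]; exact Subtype.ext h.symm
        · simp only [dif_neg h]; rfl }
  have h1 : Nat.card {u : Kˣ // Units.map (φ : K →* K) u = u} + 1 = q := by
    rw [← Finite.card_option, Nat.card_congr e2, F.card_fix]
  rw [Nat.card_congr e, Nat.card_prod, F.card_units]
  congr 1
  omega

theorem ker_TF : Nat.card ↥((C.HThom K).comp (orth F hq1 hK).TF.subtype).ker = 1 := by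
  rw [Nat.card_eq_one_iff_unique]
  refine ⟨⟨fun a b => ?_⟩, ⟨1⟩⟩
  suffices ∀ c : ↥((C.HThom K).comp (orth F hq1 hK).TF.subtype).ker, c = 1 by rw [this a, this b]
  rintro ⟨⟨c, hc⟩, hk⟩
  have hHT : C.HT K c = 1 := hk
  obtain ⟨u1, u2, u3⟩ := (mem_TF F hq1 hK c).1 hc
  have hsq : ∀ j, c j * c j = 1 := fun j => by have := ker_sq hHT j; rwa [zpow_two] at this
  have hinv : ∀ j, (c j)⁻¹ = c j := fun j => inv_eq_of_mul_eq_one_right (hsq j)
  have hA : ∀ m : Fin chevD4.rank, C.chA c (C.p m) = 1 := fun m => chA_one hHT _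
  have e0 := hA ⟨0, by decide⟩
  have e1 := hA ⟨1, by decide⟩
  simp only [Core.chA, p_eq, cartan_vals] at e0 e1
  have hprod : ∀ f : Fin chevD4.rank → Kˣ,
      ∏ j, f j = f ⟨0, by decide⟩ * f ⟨1, by decide⟩ * f ⟨2, by decide⟩ * f ⟨3, by decide⟩ := fun f =>
    Fin.prod_univ_four f
  rw [hprod] at e0 e1
  have hv : cartanD ⟨0, by decide⟩ ⟨0, by decide⟩ = 2 ∧ cartanD ⟨1, by decide⟩ ⟨0, by decide⟩ = -1 ∧
      cartanD ⟨2, by decide⟩ ⟨0, by decide⟩ = 0 ∧ cartanD ⟨3, by decide⟩ ⟨0, by decide⟩ = 0 ∧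
      cartanD ⟨0, by decide⟩ ⟨1, by decide⟩ = -1 ∧ cartanD ⟨1, by decide⟩ ⟨1, by decide⟩ = 2 ∧
      cartanD ⟨2, by decide⟩ ⟨1, by decide⟩ = -1 ∧ cartanD ⟨3, by decide⟩ ⟨1, by decide⟩ = -1 := by decide +kernel
  obtain ⟨v1, v2, v3, v4, v5, v6, v7, v8⟩ := hv
  simp only [v1, v2, v3, v4, v5, v6, v7, v8, zpow_two, zpow_neg_one, zpow_zero, mul_one, hinv, hsq, one_mul] at e0 e1
  -- e0 : c1 = 1, e1 : c0 c2 c3 = 1
  have h0fix : Units.map (φ : K →* K) (c ⟨0, by decide⟩) = c ⟨0, by decide⟩ := by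
    refine Units.ext ?_
    have h2 : ((c ⟨0, by decide⟩ : Kˣ) : K) * c ⟨0, by decide⟩ = 1 := by rw [← Units.val_mul, hsq]; rfl
    rcases mul_self_eq_one_iff.1 h2 with h | h
    · simp [h]
    · simp [h]
  rw [h0fix] at u2
  rw [← u2, h0fix] at u3
  rw [← u2, ← u3, hsq, one_mul] at e1
  refine Subtype.ext (Subtype.ext (funext fun i => ?_))
  have hi : i = ⟨0, by decide⟩ ∨ i = ⟨1, by decide⟩ ∨ i = ⟨2, by decide⟩ ∨ i = ⟨3, by decide⟩ := by
    revert i; decide
  rcases hi with rfl | rfl | rfl | rfl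
  · exact e1
  · exact e0
  · exact u2.symm.trans e1
  · exact u3.symm.trans e1

theorem Js_spec (m : Fin (orth F hq1 hK).tw.nn) : ((orth F hq1 hK).tw.J m).map Fin.val = Js.getD m.val [] := by
  show ((orth F hq1 hK).Jl m).map Fin.val = _
  obtain ⟨h1, h2⟩ := sz_os F hq1 hK
  have key : ((List.range 1).map fun k => ((Frob.nodePerm g : _ → _)^[k] (osD 0)).val) = Js.getD 0 [] ∧
      ((List.range 3).map fun k => ((Frob.nodePerm g : _ → _)^[k] (osD 1)).val) = Js.getD 1 [] := by decide +kernel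
  show (((List.range ((orth F hq1 hK).sz (osD m))).map fun k =>
    (Frob.nodePerm g : _ → _)^[k] (osD m)).map Fin.val) = _
  rw [List.map_map]
  have hm : m = (0 : Fin 2) ∨ m = (1 : Fin 2) := by
    rcases Nat.lt_or_ge m.val 1 with h | h
    · exact Or.inl (Fin.ext (by simp; omega))
    · refine Or.inr (Fin.ext ?_)
      have : m.val < 2 := m.isLt
      simp; omega
  rcases hm with rfl | rfl
  · show List.map _ (List.range ((orth F hq1 hK).sz (osD 0))) = _
    rw [h1]; exact key.1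
  · show List.map _ (List.range ((orth F hq1 hK).sz (osD 1))) = _
    rw [h2]; exact key.2

theorem levels_ok : ∀ k < 2, levelOK Data.D4.fast Js k (reps.getD k []) (wits.getD k []) = true := by decide +kernel

theorem nodes_nn : (orth F hq1 hK).tw.nn = Js.length := rfl

theorem levelT (k : ℕ) (hk : k < 2) :
    (orth F hq1 hK).tw.LevelT k ((reps.getD k []).map (toFinL (orth F hq1 hK).tw.nn)) :=
  level_of_levelOK Cert.D4.certified (orth F hq1 hK).tw Js (Js_spec F hq1 hK) rfl (levels_ok k hk)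

/-- The commutator expressing a long root element. -/
noncomputable def seed : (orth F hq1 hK).Seed where
  m1 := (1 : Fin 2)
  moved := node_vals.2.2.2
  b := ⟨4, by decide⟩
  r0 := ⟨9, by decide⟩
  c := 1
  c_sq := rfl
  π_b := by
    show (Frob.rootPerm g : _ → _)^[3] _ = _
    decide +kernel
  eps_b := by
    show (orth F hq1 hK).Eps 3 (⟨4, by decide⟩ : Rt chevD4) = 1
    simp only [Orth.Eps]
    show GraphData.symD4.ε ((Frob.rootPerm g : _ → _)^[2] (⟨4, by decide⟩ : Rt chevD4)).val *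
      (GraphData.symD4.ε ((Frob.rootPerm g : _ → _)^[1] (⟨4, by decide⟩ : Rt chevD4)).val *
        (GraphData.symD4.ε ((Frob.rootPerm g : _ → _)^[0] (⟨4, by decide⟩ : Rt chevD4)).val * 1)) = 1
    decide +kernel
  π_r0 := by
    show Frob.rootPerm g _ = _
    decide +kernel
  ε_r0 := by
    show GraphData.symD4.ε (⟨9, by decide⟩ : Rt chevD4).val = 1
    decide +kernel
  ne_b := by
    simp only [p_eq]
    show (⟨4, by decide⟩ : Rt chevD4) ≠ pD (osD 1) ∧ (⟨4, by decide⟩ : Rt chevD4) ≠ (pD (osD 1)).rev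
    decide +kernel
  terms := by
    rw [p_eq]
    show chevD4.commTerms (pD (osD 1)).val 4 = [(9, 1, 1, 1)]
    decide +kernel
  comAB := by
    have key : ∀ k < 3, 0 < k → Orth.Com (pD (osD 1)) ((Frob.rootPerm g : _ → _)^[k] (⟨4, by decide⟩ : Rt chevD4)) := by
      unfold Orth.Com; decide +kernel
    intro k h1 h2
    rw [p_eq]
    exact key k h2 h1
  comBB := by
    show ∀ k < 3, ∀ l < 3, Orth.Com ((Frob.rootPerm g : _ → _)^[k] (⟨4, by decide⟩ : Rt chevD4))
      ((Frob.rootPerm g : _ → _)^[l] (⟨4, by decide⟩ : Rt chevD4))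
    unfold Orth.Com; decide +kernel
  comRA := by
    have key : ∀ k < 3, Orth.Com (⟨9, by decide⟩ : Rt chevD4) (pD ((Frob.nodePerm g : _ → _)^[k] (osD 1))) := by
      unfold Orth.Com; decide +kernel
    intro k hk
    rw [p_eq]
    exact key k hk
  comRB := by
    show ∀ k < 3, Orth.Com (⟨9, by decide⟩ : Rt chevD4) ((Frob.rootPerm g : _ → _)^[k] (⟨4, by decide⟩ : Rt chevD4))
    unfold Orth.Com; decide +kernel
  reach := by
    intro m hm s
    have hm0 : m = (0 : Fin 2) := by
      rcases Nat.lt_or_ge m.val 1 with h | h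
      · exact Fin.ext (by simp; omega)
      · have : m = (1 : Fin 2) := Fin.ext (by have : m.val < 2 := m.isLt; simp; omega)
        subst this
        exact absurd hm node_vals.2.2.2
    subst hm0
    refine ⟨if s then [] else [(0 : Fin 2)], ?_⟩
    cases s
    · simp only [Bool.false_eq_true, if_false]
      refine Fin.ext ?_
      show ((Cert.D4.certified.core.pprod ((orth F hq1 hK).tw.ow [(0 : Fin 2)])) ⟨9, by decide⟩).val = _
      rw [Cert.D4.certified.actW_eq]
      refine (congrArg (fun L => Data.D4.fast.actW L 9)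
        (expand_val Cert.D4.certified (orth F hq1 hK).tw Js (Js_spec F hq1 hK) [(0 : Fin 2)])).trans ?_
      show Data.D4.fast.actW (expand Js [0]) 9 = (C.p (osD 0)).val
      rw [p_eq]
      decide +kernel
    · simp only [if_true]
      show (⟨9, by decide⟩ : Rt chevD4) = (C.p (osD 0)).rev
      rw [p_eq]
      decide +kernel

theorem conn : ∀ M : Finset (Fin (orth F hq1 hK).tw.nn), M.Nonempty → M ≠ Finset.univ →
    ∃ a ∈ M, ∃ b, b ∉ M ∧
      (orth F hq1 hK).tw.wO a * (orth F hq1 hK).tw.wO b ≠ (orth F hq1 hK).tw.wO b * (orth F hq1 hK).tw.wO a := by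
  have key : ∀ M : Finset (Fin 2), M.Nonempty → M ≠ Finset.univ →
      ∃ a ∈ M, ∃ b, b ∉ M ∧ ncOK Data.D4.fast Js a.val b.val = true := by decide +kernel
  intro M h1 h2
  obtain ⟨a, ha, b, hb, h⟩ := key M h1 h2
  exact ⟨a, ha, b, hb, nc_of_ncOK Cert.D4.certified (orth F hq1 hK).tw Js (Js_spec F hq1 hK) h⟩

theorem exists_iso : Nonempty (↥(orth F hq1 hK).tw.WT ≃* (CoxeterMatrix.G₂).Group) := by
  have key : ∀ a b : Fin 2, relOK Data.D4.fast Js a.val b.val (CoxeterMatrix.G₂ a b) = true := by decide +kernel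
  refine (orth F hq1 hK).tw.exists_coxeterIso CoxeterMatrix.G₂ (fun a b =>
    rel_of_relOK Cert.D4.certified (orth F hq1 hK).tw Js (Js_spec F hq1 hK) (key a b)) ?_
  refine (Coxeter.WeylOrder.card_group _ Coxeter.Certs.checkG2).trans ?_
  rw [
    (orth F hq1 hK).tw.card_WT (fun k => (reps.getD k []).map (toFinL (orth F hq1 hK).tw.nn)) (levelT F hq1 hK)]
  simp only [List.length_map]
  show _ = ∏ k ∈ Finset.range 2, (reps.getD k []).length
  decide +kernel


end

end Cfsg.Agent.Lib.LieTwisted.Twist.D4
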