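import Cfsg.Agent.Lib.LieTwisted.Twist.Base
import Mathlib.GroupTheory.Coxeter.Basic

/-!
The Poincaré series of a twisted Weyl group along the chain of its parabolic subgroups, the order
formula, the comparison with a Coxeter group, and Boolean checks on packed tables.
-/

set_option autoImplicit false
set_option linter.unusedSectionVars false

namespace Cfsg.Agent.Lib.LieTwisted.Twist

open Cfsg.Lie ChevStructure

variable {D : ChevalleyDatum}

namespace Tw

variable {C : Core D} {K : Type*} [Field K] (T : Tw C K)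

/-- The parabolic subgroup of the first `k` orbits. -/
def WTk (k : ℕ) : Subgroup (Equiv.Perm (Rt D)) :=
  Subgroup.closure {x | ∃ m : Fin T.nn, (m : ℕ) < k ∧ x = T.wO m}

/-- A word in orbits as a word in simple roots. -/
def ow (L : List (Fin T.nn)) : List (Fin D.rank) := L.flatMap T.J

/-- `R` lists minimal representatives of the cosets of `WTk k` in `WTk (k + 1)`. -/
structure LevelT (k : ℕ) (R : List (List (Fin T.nn))) : Prop where
  le : ∀ L ∈ R, ∀ m ∈ L, (m : ℕ) ≤ k
  nil : [] ∈ R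
  pos : ∀ L ∈ R, ∀ j : Fin D.rank, (T.idx j : ℕ) < k → C.pprod (T.ow L) (C.p j) ∈ C.Pos
  red : ∀ L ∈ R, C.len (C.pprod (T.ow L)) = (T.ow L).length
  closed : ∀ L ∈ R, ∀ m : Fin T.nn, (m : ℕ) ≤ k →
    ∃ L' ∈ R, ∃ y ∈ T.WTk k, T.wO m * C.pprod (T.ow L) = C.pprod (T.ow L') * y
  nodup : (R.map fun L => C.pprod (T.ow L)).Nodup

include T

theorem pprod_ow : ∀ L : List (Fin T.nn), C.pprod (T.ow L) = (L.map T.wO).prod
  | [] => rfl
  | m :: L => by
    rw [List.map_cons, List.prod_cons, ← pprod_ow L, ow, List.flatMap_cons, C.pprod_append]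
    rfl

theorem WTk_le (k : ℕ) : T.WTk k ≤ T.WT :=
  (Subgroup.closure_le _).2 fun _ ⟨m, _, e⟩ => e ▸ T.wO_mem m

theorem WTk_mono {k l : ℕ} (h : k ≤ l) : T.WTk k ≤ T.WTk l :=
  Subgroup.closure_mono fun _ ⟨m, hm, e⟩ => ⟨m, hm.trans_le h, e⟩

theorem wO_mem_WTk {k : ℕ} {m : Fin T.nn} (h : (m : ℕ) < k) : T.wO m ∈ T.WTk k :=
  Subgroup.subset_closure ⟨m, h, rfl⟩

theorem ow_mem_WTk {k : ℕ} {L : List (Fin T.nn)} (h : ∀ m ∈ L, (m : ℕ) < k) : C.pprod (T.ow L) ∈ T.WTk k := by
  rw [T.pprod_ow]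
  refine list_prod_mem fun g hg => ?_
  rw [List.mem_map] at hg
  obtain ⟨m, hm, rfl⟩ := hg
  exact T.wO_mem_WTk (h m hm)

theorem WTk_nn : T.WTk T.nn = T.WT := by
  refine le_antisymm (T.WTk_le _) fun σ hσ => ?_
  refine T.WT_induction (fun σ => σ ∈ T.WTk T.nn) (one_mem _) ?_ σ hσ
  intro σ _ i _ h
  have := mul_mem h (T.wO_mem_WTk (k := T.nn) (T.idx i).2)
  rwa [mul_assoc, show T.wO (T.idx i) * T.wO (T.idx i) = 1 from T.J_inv _, mul_one] at this

theorem WTk_coord {k : ℕ} {y : Equiv.Perm (Rt D)} (hy : y ∈ T.WTk k) :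
    ∀ r : Rt D, ∀ j : Fin D.rank, k ≤ (T.idx j : ℕ) → C.v (y r) j = C.v r j := by
  induction hy using Subgroup.closure_induction with
  | mem x hx =>
    obtain ⟨m, hm, rfl⟩ := hx
    intro r j hj
    exact T.pprod_coord (T.J m) r j fun h => by rw [(T.mem_J j m).1 h] at hj; omega
  | one => intro r j _; rfl
  | mul a b _ _ ha hb => intro r j hj; rw [Equiv.Perm.mul_apply, ha _ j hj, hb _ j hj]
  | inv a _ ha =>
    intro r j hj
    have := ha (a⁻¹ r) j hj
    rw [Equiv.Perm.inv_def, Equiv.apply_symm_apply] at this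
    exact this.symm

theorem dvd_len {σ : Equiv.Perm (Rt D)} (hσ : σ ∈ T.WT) : T.d ∣ C.len σ := by
  refine T.WT_induction (fun σ => T.d ∣ C.len σ) ?_ ?_ σ hσ
  · rw [C.len_one]; exact dvd_zero _
  · intro σ hσ i hi ih
    rw [T.len_split hσ hi]
    exact dvd_add (T.base_dvd _) ih

theorem len_mulT {k : ℕ} {L : List (Fin D.rank)}
    (hx : ∀ j : Fin D.rank, (T.idx j : ℕ) < k → C.pprod L (C.p j) ∈ C.Pos)
    {y : Equiv.Perm (Rt D)} (hy : y ∈ T.WTk k) :
    C.len (C.pprod L * y) = C.len (C.pprod L) + C.len y := by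
  have hsmall : ∀ r ∈ C.Pos, (∀ m : Fin D.rank, k ≤ (T.idx m : ℕ) → C.v r m = 0) → C.pprod L r ∈ C.Pos := by
    intro r hr hz
    by_contra hn
    have hneg := (C.neg_iff_not_pos _).2 hn
    refine C.v_ne_zero (C.pprod L r) (funext fun m => le_antisymm (C.v_nonpos hneg m) ?_)
    rw [C.pprod_v]
    refine Finset.sum_nonneg fun j _ => ?_
    by_cases hj : (T.idx j : ℕ) < k
    · exact mul_nonneg (C.v_nonneg hr j) (C.v_nonneg (hx j hj) m)
    · simp [hz j (not_lt.1 hj)]
  have hinv : ∀ r, r ∈ C.inv' y → ∀ m : Fin D.rank, k ≤ (T.idx m : ℕ) → C.v r m = 0 := by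
    intro r hr m hm
    have h1 := C.v_nonneg hr.1 m
    have h2 := C.v_nonpos hr.2 m
    rw [T.WTk_coord hy r m hm] at h2
    omega
  have hrev : ∀ r, y r.rev = (y r).rev := T.WT_rev (T.WTk_le k hy)
  have e : C.inv' (C.pprod L * y) = C.inv' y ∪ y ⁻¹' C.inv' (C.pprod L) := by
    ext r
    constructor
    · rintro ⟨hr, hn⟩
      by_cases h : y r ∈ C.Pos
      · exact Or.inr ⟨h, hn⟩
      · exact Or.inl ⟨hr, (C.neg_iff_not_pos _).2 h⟩
    · rintro (hr | ⟨hp, hn⟩)
      · refine ⟨hr.1, ?_⟩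
        have h := hsmall (y r).rev (C.rev_pos hr.2) fun m hm => by
          rw [C.v_rev, Pi.neg_apply, T.WTk_coord hy r m hm, hinv r hr m hm, neg_zero]
        rw [C.pprod_rev] at h
        have := C.rev_neg h
        rwa [C.rev_rev] at this
      · refine ⟨?_, hn⟩
        by_contra hc
        have hr' : r.rev ∈ C.inv' y :=
          ⟨C.rev_pos ((C.neg_iff_not_pos r).2 hc), by rw [hrev]; exact C.rev_neg hp⟩
        refine (C.neg_iff_not_pos _).1 hn (hsmall (y r) hp fun m hm => ?_)
        have := hinv _ hr' m hm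
        rw [C.v_rev, Pi.neg_apply, neg_eq_zero] at this
        rw [T.WTk_coord hy r m hm, this]
  have hd : Disjoint (C.inv' y) (y ⁻¹' C.inv' (C.pprod L)) :=
    Set.disjoint_left.2 fun r h1 h2 => (C.neg_iff_not_pos _).1 h1.2 h2.1
  rw [Core.len, Core.len, Core.len, e, Set.ncard_union_eq hd,
    Set.ncard_preimage_of_injective_subset_range y.injective (by rw [y.range_eq_univ]; exact Set.subset_univ _)]
  omega

theorem level_bijective {k : ℕ} {R : List (List (Fin T.nn))} (h : T.LevelT k R) :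
    Function.Bijective (fun x : Fin R.length × T.WTk k =>
      (⟨C.pprod (T.ow R[x.1]) * x.2, mul_mem
        (T.ow_mem_WTk fun m hm => Nat.lt_succ_of_le (h.le _ (List.getElem_mem _) m hm))
        (T.WTk_mono (Nat.le_succ k) x.2.2)⟩ : T.WTk (k + 1))) := by
  constructor
  · rintro ⟨a, y⟩ ⟨b, z⟩ e
    have e' : C.pprod (T.ow R[a]) * (y : Equiv.Perm (Rt D)) = C.pprod (T.ow R[b]) * z := congrArg Subtype.val e
    have hyz : (z : Equiv.Perm (Rt D)) * (y : Equiv.Perm (Rt D))⁻¹ ∈ T.WTk k := mul_mem z.2 (inv_mem y.2)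
    have h1 : C.pprod (T.ow R[a]) = C.pprod (T.ow R[b]) * ((z : Equiv.Perm (Rt D)) * (y : Equiv.Perm (Rt D))⁻¹) := by
      rw [← mul_assoc, ← e', mul_inv_cancel_right]
    have h2 : C.pprod (T.ow R[b]) =
        C.pprod (T.ow R[a]) * ((z : Equiv.Perm (Rt D)) * (y : Equiv.Perm (Rt D))⁻¹)⁻¹ := by
      rw [h1, mul_inv_cancel_right]
    have l1 := T.len_mulT (h.pos R[b] (List.getElem_mem _)) hyz
    have l2 := T.len_mulT (h.pos R[a] (List.getElem_mem _)) (inv_mem hyz)
    rw [← h1] at l1
    rw [← h2] at l2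
    have h0 := C.eq_one_of_len_zero (T.mem_WT.1 (T.WTk_le k hyz)).1 (by omega)
    rw [h0, mul_one] at h1
    have hab : a = b := by
      have := (List.Nodup.getElem_inj_iff h.nodup (i := a.val) (hi := by simp) (j := b.val) (hj := by simp)).1
        (by simpa using h1)
      exact Fin.ext this
    subst hab
    rw [mul_inv_eq_one] at h0
    exact Prod.ext rfl (Subtype.ext h0.symm)
  · rintro ⟨w, hw⟩
    suffices hh : ∃ L ∈ R, ∃ y ∈ T.WTk k, w = C.pprod (T.ow L) * y by
      obtain ⟨L, hL, y, hy, rfl⟩ := hh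
      obtain ⟨a, ha, rfl⟩ := List.getElem_of_mem hL
      exact ⟨(⟨a, ha⟩, ⟨y, hy⟩), rfl⟩
    have step : ∀ (m : Fin T.nn), (m : ℕ) < k + 1 → ∀ w,
        (∃ L ∈ R, ∃ y ∈ T.WTk k, w = C.pprod (T.ow L) * y) →
        ∃ L ∈ R, ∃ y ∈ T.WTk k, T.wO m * w = C.pprod (T.ow L) * y := by
      rintro m hm w ⟨L, hL, y, hy, rfl⟩
      obtain ⟨L', hL', z, hz, e⟩ := h.closed L hL m (Nat.le_of_lt_succ hm)
      exact ⟨L', hL', z * y, mul_mem hz hy, by rw [← mul_assoc, e, mul_assoc]⟩
    induction hw using Subgroup.closure_induction_left with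
    | one => exact ⟨[], h.nil, 1, one_mem _, by simp [ow, C.pprod_nil]⟩
    | mul_left x hx y _ ih =>
      obtain ⟨m, hm, rfl⟩ := hx
      exact step m hm y ih
    | inv_mul_cancel x hx y _ ih =>
      obtain ⟨m, hm, rfl⟩ := hx
      rw [inv_eq_of_mul_eq_one_right (show T.wO m * T.wO m = 1 from T.J_inv m)]
      exact step m hm y ih

open scoped Classical in
theorem sum_WTk (R : ℕ → List (List (Fin T.nn))) (n : ℕ) (h : ∀ k < n, T.LevelT k (R k)) (z : ℕ) :
    ∑ σ : T.WTk n, z ^ (C.len (σ : Equiv.Perm (Rt D)) / T.d) =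
      ∏ k ∈ Finset.range n, ((R k).map fun L => z ^ ((T.ow L).length / T.d)).sum := by
  induction n with
  | zero =>
    have : Subsingleton (T.WTk 0) := by
      have e : T.WTk 0 = ⊥ := by
        rw [eq_bot_iff]
        exact (Subgroup.closure_le _).2 fun _ ⟨m, hm, _⟩ => absurd hm (Nat.not_lt_zero _)
      rw [e]; infer_instance
    rw [Fintype.sum_subsingleton _ (1 : T.WTk 0)]
    simp [C.len_one]
  | succ n ih =>
    have hn := h n (Nat.lt_succ_self n)
    rw [Finset.prod_range_succ, ← ih (fun k hk => h k (Nat.lt_succ_of_lt hk)),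
      ← Fin.sum_univ_fun_getElem, Finset.sum_mul_sum,
      ← (Equiv.ofBijective _ (T.level_bijective hn)).sum_comp, Fintype.sum_prod_type, Finset.sum_comm]
    refine Finset.sum_congr rfl fun a _ => Finset.sum_congr rfl fun b _ => ?_
    simp only [Equiv.ofBijective_apply, Fin.getElem_fin]
    rw [T.len_mulT (hn.pos _ (List.getElem_mem _)) a.2, hn.red _ (List.getElem_mem _),
      Nat.add_div_of_dvd_left (T.dvd_len (T.WTk_le _ a.2)), pow_add, mul_comm]

open scoped Classical in
/-- The order formula. -/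
theorem card_W_eq [Finite K] (R : ℕ → List (List (Fin T.nn))) (h : ∀ k < T.nn, T.LevelT k (R k)) :
    Nat.card T.W = T.q ^ (D.nroots / 2 / T.d) * Nat.card ↥(D.diagonalSubgroup K ⊓ T.W) *
      ∏ k ∈ Finset.range T.nn, ((R k).map fun L => T.q ^ ((T.ow L).length / T.d)).sum := by
  rw [T.card_W, T.card_borel, ← T.sum_WTk R T.nn h]
  congr 1
  exact Fintype.sum_equiv (Equiv.setCongr (congrArg SetLike.coe T.WTk_nn.symm)) _ _ fun σ => rfl

open scoped Classical in
theorem card_WT (R : ℕ → List (List (Fin T.nn))) (h : ∀ k < T.nn, T.LevelT k (R k)) :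
    Nat.card T.WT = ∏ k ∈ Finset.range T.nn, (R k).length := by
  rw [← T.WTk_nn, Nat.card_eq_fintype_card]
  simpa [List.sum_replicate] using T.sum_WTk R T.nn h 1

/-- The twisted Weyl group as a Coxeter group. -/
theorem exists_coxeterIso (M : CoxeterMatrix (Fin T.nn)) (hrel : ∀ a b, (T.wO a * T.wO b) ^ M a b = 1)
    (hcard : Nat.card M.Group = Nat.card T.WT) : Nonempty (↥T.WT ≃* M.Group) := by
  let f : Fin T.nn → ↥T.WT := fun m => ⟨T.wO m, T.wO_mem m⟩
  have hf : M.IsLiftable f := fun a b => Subtype.ext (by simpa [f] using hrel a b)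
  let φ := M.toCoxeterSystem.lift ⟨f, hf⟩
  have hsurj : Function.Surjective φ := by
    rintro ⟨σ, hσ⟩
    have hle : T.WTk T.nn ≤ φ.range.map T.WT.subtype := (Subgroup.closure_le _).2 fun x ⟨m, _, e⟩ =>
      ⟨f m, ⟨M.toCoxeterSystem.simple m, M.toCoxeterSystem.lift_apply_simple hf m⟩, e.symm⟩
    rw [T.WTk_nn] at hle
    obtain ⟨x, ⟨g, hg⟩, hx⟩ := hle hσ
    exact ⟨g, hg.trans (Subtype.ext hx)⟩
  have hne : Nat.card ↥T.WT ≠ 0 := Nat.card_ne_zero.2 ⟨inferInstance, inferInstance⟩
  have : Finite M.Group := Nat.finite_of_card_ne_zero (hcard ▸ hne)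
  exact ⟨(MulEquiv.ofBijective φ ((Nat.bijective_iff_surjective_and_card φ).2 ⟨hsurj, hcard⟩)).symm⟩

end Tw

/-! ### Boolean checks on packed tables -/

section Fast

/-- An orbit word expanded into a word of simple roots. -/
def expand (Js : List (List ℕ)) (L : List ℕ) : List ℕ := L.flatMap fun m => Js.getD m []

/-- Equality of two words on the simple roots. -/
def eqOK (F : Fast) (L M : List ℕ) : Bool := allLt F.l fun j => Nat.beq (F.actW L (F.p j)) (F.actW M (F.p j))

/-- One level: representatives and closure witnesses. -/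
def levelOK (F : Fast) (Js : List (List ℕ)) (k : ℕ) (R : List (List ℕ)) (W : List (List (ℕ × List ℕ))) : Bool :=
  Nat.blt k Js.length && R.any (fun L => L.isEmpty) &&
  allLt R.length (fun a =>
    (R.getD a []).all (fun i => Nat.ble i k) &&
    allLt k (fun m => (Js.getD m []).all fun j => Nat.ble F.half (F.actW (expand Js (R.getD a [])) (F.p j))) &&
    allLt (expand Js (R.getD a [])).length (fun m => Nat.ble F.half
      (F.actW ((expand Js (R.getD a [])).take m) (F.p ((expand Js (R.getD a [])).getD m 0)))) &&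
    allLt (k + 1) (fun i =>
      Nat.blt ((W.getD a []).getD i (0, [])).1 R.length &&
      ((W.getD a []).getD i (0, [])).2.all (fun m => Nat.blt m k) &&
      eqOK F (expand Js (i :: R.getD a []))
        (expand Js (R.getD ((W.getD a []).getD i (0, [])).1 [] ++ ((W.getD a []).getD i (0, [])).2)))) &&
  decide ((R.map fun L => (List.range F.l).map fun j => F.actW (expand Js L) (F.p j)).Nodup)

/-- An orbit pair: a power of the product of the two reflections is trivial. -/
def relOK (F : Fast) (Js : List (List ℕ)) (a b e : ℕ) : Bool :=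
  eqOK F (expand Js (List.replicate e [a, b]).flatten) []

/-- An orbit pair that does not commute. -/
def ncOK (F : Fast) (Js : List (List ℕ)) (a b : ℕ) : Bool := !eqOK F (expand Js [a, b]) (expand Js [b, a])

variable {F : Fast} (H : Fast.Certified F D) {K : Type*} [Field K] (T : Tw H.core K) (Js : List (List ℕ))
  (hJ : ∀ m : Fin T.nn, (T.J m).map Fin.val = Js.getD m.val []) (hnn : T.nn = Js.length)

include hJ

theorem expand_val : ∀ L : List (Fin T.nn), (T.ow L).map Fin.val = expand Js (L.map Fin.val)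
  | [] => rfl
  | m :: L => by
    have ih := expand_val L
    simp only [Tw.ow, expand] at ih ⊢
    rw [List.flatMap_cons, List.map_append, ih, hJ, List.map_cons, List.flatMap_cons]

theorem eq_of_eqOK {L M : List (Fin T.nn)} (h : eqOK F (expand Js (L.map Fin.val)) (expand Js (M.map Fin.val)) = true) :
    H.core.pprod (T.ow L) = H.core.pprod (T.ow M) := by
  simp only [eqOK, allLt_iff] at h
  refine Equiv.ext fun r => H.core.v_inj (funext fun i => ?_)
  rw [H.core.pprod_v, H.core.pprod_v]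
  refine Finset.sum_congr rfl fun j _ => ?_
  congr 2
  refine Fin.ext ?_
  rw [H.actW_eq, H.actW_eq, H.p_val, expand_val H T Js hJ, expand_val H T Js hJ]
  exact Nat.eq_of_beq_eq_true (h j.val (H.lt_l j))

theorem rel_of_relOK {a b : Fin T.nn} {e : ℕ} (h : relOK F Js a.val b.val e = true) :
    (T.wO a * T.wO b) ^ e = 1 := by
  have := eq_of_eqOK H T Js hJ (L := (List.replicate e [a, b]).flatten) (M := [])
    (by simpa [relOK, List.map_flatten, List.map_replicate, expand] using h)
  rw [T.pprod_ow, T.pprod_ow] at this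
  simpa [List.map_flatten, List.map_replicate, List.prod_flatten, List.prod_replicate] using this

theorem nc_of_ncOK {a b : Fin T.nn} (h : ncOK F Js a.val b.val = true) :
    T.wO a * T.wO b ≠ T.wO b * T.wO a := by
  intro e
  simp only [ncOK, Bool.not_eq_true', eqOK] at h
  rw [← Bool.not_eq_true, allLt_iff] at h
  refine h fun j hj => ?_
  have e' : H.core.pprod (T.ow [a, b]) = H.core.pprod (T.ow [b, a]) := by
    rw [T.pprod_ow, T.pprod_ow]; simpa using e
  have hj' : j < D.rank := by have := H.hl; omega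
  have := congrArg (fun σ : Equiv.Perm (Rt D) => (σ (H.core.p ⟨j, hj'⟩)).val) e'
  simp only [H.actW_eq, H.p_val, expand_val H T Js hJ] at this
  simp only [List.map_cons, List.map_nil] at this
  rw [this]; exact Nat.beq_refl _

include hnn

theorem level_of_levelOK {k : ℕ} {R : List (List ℕ)} {W : List (List (ℕ × List ℕ))}
    (h : levelOK F Js k R W = true) :
    T.LevelT k (R.map (toFinL T.nn)) := by
  simp only [levelOK, Bool.and_eq_true, allLt_iff, List.all_eq_true, List.any_eq_true, decide_eq_true_eq,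
    Nat.ble_eq, Nat.blt_eq] at h
  obtain ⟨⟨⟨hk, ⟨L0, hL0, hL0'⟩⟩, hall⟩, hnd⟩ := h
  have hget : ∀ a (ha : a < R.length), R.getD a [] = R[a] := fun a ha => List.getD_eq_getElem _ _ ha
  have hlt : ∀ L ∈ R, ∀ i ∈ L, i < T.nn := by
    intro L hL i hi
    obtain ⟨a, ha, rfl⟩ := List.getElem_of_mem hL
    have := (hall a ha).1.1.1 i (by rwa [hget a ha])
    omega
  have hval : ∀ L ∈ R, (toFinL T.nn L).map Fin.val = L := fun L hL => toFinL_val (hlt L hL)
  refine { le := ?_, nil := ?_, pos := ?_, red := ?_, closed := ?_, nodup := ?_ }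
  · intro L' hL' i hi
    obtain ⟨L, hL, rfl⟩ := List.mem_map.1 hL'
    obtain ⟨a, ha, rfl⟩ := List.getElem_of_mem hL
    exact (hall a ha).1.1.1 _ (by rw [hget a ha, ← hval _ hL]; exact List.mem_map_of_mem hi)
  · refine List.mem_map.2 ⟨L0, hL0, ?_⟩
    rw [List.isEmpty_iff.1 hL0']; rfl
  · intro L' hL' j hj
    obtain ⟨L, hL, rfl⟩ := List.mem_map.1 hL'
    obtain ⟨a, ha, rfl⟩ := List.getElem_of_mem hL
    refine H.pos_half ?_
    rw [H.actW_eq, expand_val H T Js hJ, hval _ hL, H.p_val, ← hget a ha]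
    refine (hall a ha).1.1.2 (T.idx j).val hj j.val ?_
    rw [← hJ]
    exact List.mem_map_of_mem ((T.mem_J j _).2 rfl)
  · intro L' hL'
    obtain ⟨L, hL, rfl⟩ := List.mem_map.1 hL'
    obtain ⟨a, ha, rfl⟩ := List.getElem_of_mem hL
    have hv : (T.ow (toFinL T.nn R[a])).map Fin.val = expand Js R[a] := by
      rw [expand_val H T Js hJ, hval _ hL]
    generalize T.ow (toFinL T.nn R[a]) = M at hv
    suffices hh : ∀ m ≤ M.length, H.core.len (H.core.pprod (M.take m)) = m by
      simpa using hh M.length le_rfl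
    intro m hm
    induction m with
    | zero => rw [List.take_zero, Core.pprod_nil]; exact H.core.len_one
    | succ m ih =>
      rw [List.take_succ_eq_append_getElem (by omega), Core.pprod_concat,
        H.core.len_mul_sref_pos (H.core.pprod_rev _) ?_, ih (by omega)]
      refine H.pos_half ?_
      have hlen : (expand Js R[a]).length = M.length := by rw [← hv, List.length_map]
      rw [H.actW_eq, H.p_val, List.map_take, hv]
      have h3 := (hall a ha).1.2 m (by rw [hget a ha, hlen]; omega)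
      rw [hget a ha, List.getD_eq_getElem _ _ (by omega)] at h3
      convert h3 using 4
      simp only [← hv, List.getElem_map]
  · intro L' hL' i hi
    obtain ⟨L, hL, rfl⟩ := List.mem_map.1 hL'
    obtain ⟨a, ha, rfl⟩ := List.getElem_of_mem hL
    obtain ⟨⟨hb, hM⟩, heq⟩ := (hall a ha).2 i.val (Nat.lt_succ_of_le hi)
    set e := (W.getD a []).getD i.val (0, [])
    have hbR : R.getD e.1 [] ∈ R := by rw [hget _ hb]; exact List.getElem_mem _
    have he2 : (toFinL T.nn e.2).map Fin.val = e.2 := toFinL_val fun j hj => by have := hM j hj; omega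
    refine ⟨toFinL T.nn (R.getD e.1 []), List.mem_map_of_mem hbR, H.core.pprod (T.ow (toFinL T.nn e.2)), ?_, ?_⟩
    · refine T.ow_mem_WTk fun m hm => hM m.val ?_
      rw [← he2]
      exact List.mem_map_of_mem hm
    · have := eq_of_eqOK H T Js hJ (L := i :: toFinL T.nn R[a])
        (M := toFinL T.nn (R.getD e.1 []) ++ toFinL T.nn e.2)
        (by rw [List.map_cons, List.map_append, hval _ hL, hval _ hbR, he2, ← hget a ha]; exact heq)
      rw [T.pprod_ow, T.pprod_ow, List.map_append, List.prod_append, List.map_cons, List.prod_cons] at this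
      rw [T.pprod_ow, T.pprod_ow, T.pprod_ow]
      exact this
  · rw [List.map_map]
    refine List.Nodup.map_on ?_ (List.Nodup.of_map _ hnd)
    intro L hL L' hL' e
    refine List.inj_on_of_nodup_map hnd hL hL' (List.map_congr_left fun j hj => ?_)
    rw [List.mem_range, ← H.hl] at hj
    have := congrArg (fun σ : Equiv.Perm (Rt D) => (σ (H.core.p ⟨j, hj⟩)).val) e
    simp only [Function.comp_apply] at this
    rwa [H.actW_eq, H.actW_eq, expand_val H T Js hJ, expand_val H T Js hJ, H.p_val, hval _ hL, hval _ hL'] at this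

end Fast

end Cfsg.Agent.Lib.LieTwisted.Twist
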