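import Cfsg.Agent.Lib.LieTwisted.Twist.Base
import Cfsg.Agent.S0319

/-!
The (B,N)-pair of a twisted subgroup, the quotient N¹/H¹, trivial core of B¹ and the simplicity
criterion.
-/

set_option autoImplicit false
set_option linter.unusedSectionVars false

namespace Cfsg.Agent.Lib.LieTwisted.Twist

open Cfsg.Lie ChevStructure DoubleCoset
open scoped MatrixGroups Pointwise

variable {D : ChevalleyDatum} {C : Core D} {K : Type*} [Field K]

namespace Tw

variable (T : Tw C K)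

/-- `B¹` inside `G¹`. -/
def B1 : Subgroup ↥T.W := (D.borelSubgroup K ⊓ T.W).subgroupOf T.W

/-- `N¹` inside `G¹`. -/
def N1 : Subgroup ↥T.W := (D.monomialSubgroup K ⊓ T.W).subgroupOf T.W

/-- The distinguished generator of an orbit. -/
def nS (m : Fin T.nn) : ↥T.W := ⟨T.nO m, T.nO_mem m⟩

include T

theorem mem_B1 {g : ↥T.W} : g ∈ T.B1 ↔ (g : GL D.Idx K) ∈ D.borelSubgroup K := by
  simp [B1, Subgroup.mem_subgroupOf]

theorem mem_N1 {g : ↥T.W} : g ∈ T.N1 ↔ (g : GL D.Idx K) ∈ D.monomialSubgroup K := by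
  simp [N1, Subgroup.mem_subgroupOf]

theorem acts_eq_of_mem {n : GL D.Idx K} (_hn : n ∈ D.monomialSubgroup K) {m : GL D.Idx K}
    {σ σ' : Equiv.Perm (Rt D)} (ha : C.Acts n σ) (hb : C.Acts m σ') (h : n⁻¹ * m ∈ D.diagonalSubgroup K) :
    σ = σ' :=
  inv_mul_eq_one.1 (C.acts_unique K (C.acts_mul K (C.acts_inv K ha) hb) (C.acts_diagonal h))

theorem wO_inj : Function.Injective T.wO := fun a b h => by
  obtain ⟨j, hj⟩ := List.exists_mem_of_ne_nil _ (T.J_ne a)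
  have h1 : C.p j ∈ C.inv' (T.wO b) := ⟨C.p_pos j, by rw [← h]; exact T.J_neg a j hj⟩
  have h2 := T.inv'_supp b h1 (j := j) (by simp [C.v_p])
  rw [← (T.mem_J j a).1 hj, h2]

theorem nS_inj {a b : Fin T.nn} (h : (T.nS a)⁻¹ * T.nS b ∈ T.B1) : a = b := by
  refine T.wO_inj (T.acts_eq_of_mem (T.nO_mono a) (T.nO_acts a) (T.nO_acts b) ?_)
  rw [← C.borel_inf_monomial]
  exact Subgroup.mem_inf.2 ⟨T.mem_B1.1 h, mul_mem (inv_mem (T.nO_mono a)) (T.nO_mono b)⟩

theorem steps : ∀ (L : List (Fin D.rank)) {n b : GL D.Idx K}, n ∈ D.monomialSubgroup K →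
    b ∈ D.borelSubgroup K → ∀ {σ : Equiv.Perm (Rt D)}, C.Acts n σ →
    ∃ L' : List (Fin D.rank), (∀ i ∈ L', i ∈ L) ∧ ∃ n' ∈ D.monomialSubgroup K,
      C.Acts n' (C.pprod L' * σ) ∧
      C.wprod K L * b * n ∈ doubleCoset n' (D.borelSubgroup K : Set (GL D.Idx K)) (D.borelSubgroup K)
  | [], n, b, hn, hb, σ, ha => ⟨[], by simp, n, hn, by simpa [C.pprod_nil] using ha,
      mem_doubleCoset.2 ⟨b, hb, 1, one_mem _, by simp [Core.wprod]⟩⟩
  | i :: L, n, b, hn, hb, σ, ha => by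
    obtain ⟨L', hL', n', hn', ha', h⟩ := steps L hn hb ha
    obtain ⟨x, hx, y, hy, e⟩ := mem_doubleCoset.1 h
    have e' : C.wprod K (i :: L) * b * n = C.P K i * x * n' * y := by
      rw [C.wprod_cons, mul_assoc (C.P K i * x), mul_assoc (C.P K i), mul_assoc (C.P K i), mul_assoc (C.P K i), e,
        mul_assoc x]
    have hs : ∀ {z : GL D.Idx K}, C.P K i * x * n' ∈ doubleCoset z (D.borelSubgroup K : Set (GL D.Idx K)) (D.borelSubgroup K) →
        C.wprod K (i :: L) * b * n ∈ doubleCoset z (D.borelSubgroup K : Set (GL D.Idx K)) (D.borelSubgroup K) := by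
      intro z hz
      obtain ⟨p, hp, r, hr, ez⟩ := mem_doubleCoset.1 hz
      exact mem_doubleCoset.2 ⟨p, hp, r * y, mul_mem hr hy, by rw [e', ez, mul_assoc]⟩
    rcases T.comm.step i hn' hx with h1 | h1
    · refine ⟨i :: L', fun j hj => ?_, C.P K i * n', mul_mem (C.P_mem_monomial i) hn', ?_, hs h1⟩
      · rcases List.mem_cons.1 hj with rfl | hj
        · exact List.mem_cons_self
        · exact List.mem_cons_of_mem _ (hL' j hj)
      · have hP : C.Acts (C.P K i) (C.sref i) := by simpa [Core.wprod, Core.pprod] using C.acts_wprod K [i]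
        rw [C.pprod_cons, mul_assoc]
        exact C.acts_mul K hP ha'
    · exact ⟨L', fun j hj => List.mem_cons_of_mem _ (hL' j hj), n', hn', ha', hs h1⟩

/-- A twisted Weyl element supported on one orbit is trivial or its reflection. -/
theorem small_WT {m : Fin T.nn} {L : List (Fin D.rank)} (hL : ∀ i ∈ L, i ∈ T.J m)
    (hσ : C.pprod L ∈ T.WT) : C.pprod L = 1 ∨ C.pprod L = T.wO m := by
  have desc : ∀ M : List (Fin D.rank), (∀ i ∈ M, i ∈ T.J m) → C.pprod M ≠ 1 →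
      ∃ i, T.idx i = m ∧ C.pprod M (C.p i) ∈ C.Neg := by
    intro M hM hne
    obtain ⟨i, hi⟩ := C.exists_descent hne
    refine ⟨i, (T.mem_J i m).1 ?_, hi⟩
    by_contra hn
    have e := T.pprod_coord M (C.p i) i fun h => hn (hM i h)
    have := C.v_nonpos hi i
    rw [e, C.v_p, Pi.single_eq_same] at this
    omega
  by_cases h : C.pprod L = 1
  · exact Or.inl h
  obtain ⟨i, him, hi⟩ := desc L hL h
  right
  have hx : C.pprod (L ++ T.J m) = 1 := by
    by_contra hne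
    obtain ⟨k, hkm, hk⟩ := desc (L ++ T.J m) (fun j hj => (List.mem_append.1 hj).elim (hL j) id) hne
    rw [C.pprod_append, Equiv.Perm.mul_apply] at hk
    have hkJ : k ∈ T.J m := (T.mem_J k m).2 hkm
    have hrneg : C.pprod (T.J m) (C.p k) ∈ C.Neg := T.J_neg m k hkJ
    have h1 : C.pprod L (C.pprod (T.J m) (C.p k)).rev ∈ C.Neg := by
      refine T.neg_of_simple (T.mem_WT.1 hσ).1 (C.rev_pos hrneg) fun j hj => ?_
      have hjm : T.idx j = m := by
        rw [← T.mem_J]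
        by_contra hn
        rw [C.v_rev, Pi.neg_apply, neg_ne_zero, T.pprod_coord _ _ _ hn, C.v_p] at hj
        exact hn (by
          rw [Pi.single_apply] at hj
          split_ifs at hj with h2
          · exact h2 ▸ hkJ
          · exact absurd rfl hj)
      exact T.descent_orbit hσ hi (hjm.trans him.symm)
    rw [C.pprod_rev] at h1
    have h2 := C.rev_pos h1
    rw [C.rev_rev] at h2
    exact (C.neg_iff_not_pos _).1 hk h2
  rw [C.pprod_append] at hx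
  rw [eq_inv_of_mul_eq_one_left hx, wO]
  exact inv_eq_of_mul_eq_one_right (T.J_inv m)

theorem exists_closure_rep {σ : Equiv.Perm (Rt D)} (hσ : σ ∈ T.WT) :
    ∃ n ∈ Subgroup.closure (Set.range T.nS), n ∈ T.N1 ∧ C.Acts (n : GL D.Idx K) σ := by
  refine T.WT_induction (fun σ => ∃ n ∈ Subgroup.closure (Set.range T.nS), n ∈ T.N1 ∧ C.Acts (n : GL D.Idx K) σ)
    ⟨1, one_mem _, one_mem _, fun r => ⟨1, fun t => by simp⟩⟩ ?_ σ hσ
  rintro σ - i - ⟨n, hn, hnN, hna⟩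
  refine ⟨n * T.nS (T.idx i), mul_mem hn (Subgroup.subset_closure ⟨_, rfl⟩),
    mul_mem hnN (T.mem_N1.2 (T.nO_mono _)), ?_⟩
  have := C.acts_mul K hna (T.nO_acts (T.idx i))
  rwa [mul_assoc, show T.wO (T.idx i) * C.pprod (T.J (T.idx i)) = 1 from T.J_inv _, mul_one] at this

theorem mem_B1_inf_N1 {g : ↥T.W} (h : (g : GL D.Idx K) ∈ D.diagonalSubgroup K) : g ∈ T.B1 ⊓ T.N1 :=
  ⟨T.mem_B1.2 (C.diagonal_le_borel h), T.mem_N1.2 (Subgroup.mem_sup_left h)⟩

section Finite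

variable [Finite K] (hq : 1 < T.q)

theorem exists_base_ne (hq : 1 < T.q) (m : Fin T.nn) :
    ∃ u ∈ C.US K (C.inv' (T.wO m)), T.τ u = u ∧ u ≠ 1 := by
  by_contra hall
  push Not at hall
  have hc := T.base_card m
  have : Subsingleton {u : GL D.Idx K // u ∈ C.US K (C.inv' (C.pprod (T.J m))) ∧ T.τ u = u} :=
    ⟨fun a b => Subtype.ext ((hall _ a.2.1 a.2.2).trans (hall _ b.2.1 b.2.2).symm)⟩
  have h1 := Finite.card_le_one_iff_subsingleton.2 this
  have hpos : 0 < C.len (C.pprod (T.J m)) / T.d :=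
    Nat.div_pos (Nat.le_of_dvd (T.len_wO_pos m) (T.base_dvd m)) (Nat.pos_of_ne_zero fun h0 => by
      have := T.base_dvd m
      rw [h0, zero_dvd_iff] at this
      exact absurd this (T.len_wO_pos m).ne')
  rw [hc] at h1
  exact absurd h1 (not_le.2 (Nat.one_lt_pow hpos.ne' hq))

/-- The (B,N)-pair of the twisted group. -/
def bnPair : Cfsg.BNPair ↥T.W where
  B := T.B1
  N := T.N1
  S := Set.range T.nS
  sup_eq_top := by
    rw [eq_top_iff]
    rintro ⟨g, hg⟩ -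
    obtain ⟨σ, hσ, h⟩ := T.exists_nf (T.W_le hg) (T.W_fix g hg)
    obtain ⟨n, hn, hnN, hna⟩ := T.exists_closure_rep hσ
    obtain ⟨b, hb, hbf, u, hu, huf, e⟩ := h n n.2 (T.mem_N1.1 hnN) hna
    have hbW := T.borel_fix_mem hb hbf
    have huW : u ∈ T.W := (T.U_spec hσ).1 ⟨hu, C.US_le_group _ hu, huf⟩
    have e' : (⟨g, hg⟩ : ↥T.W) = ⟨b, hbW⟩ * n * ⟨u, huW⟩ := Subtype.ext e
    rw [e']
    exact mul_mem (mul_mem (Subgroup.mem_sup_left (T.mem_B1.2 hb)) (Subgroup.mem_sup_right hnN))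
      (Subgroup.mem_sup_left (T.mem_B1.2 (C.posUS_le_borel (C.US_mono K (fun _ h => h.1) hu))))
  conj_mem := by
    rintro n hn t ⟨htB, htN⟩
    have hd : (t : GL D.Idx K) ∈ D.diagonalSubgroup K := by
      rw [← C.borel_inf_monomial]; exact ⟨T.mem_B1.1 htB, T.mem_N1.1 htN⟩
    exact T.mem_B1.2 (C.diagonal_le_borel (C.conj_diagonal (T.mem_N1.1 hn) hd))
  subset := by
    rintro _ ⟨m, rfl⟩
    exact T.mem_N1.2 (T.nO_mono m)
  sq_mem := by
    rintro _ ⟨m, rfl⟩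
    refine T.mem_B1.2 (C.diagonal_le_borel (C.mem_diagonal_of_acts_one (mul_mem (T.nO_mono m) (T.nO_mono m)) ?_))
    have := C.acts_mul K (T.nO_acts m) (T.nO_acts m)
    rwa [T.J_inv] at this
  inj := by
    rintro _ ⟨a, rfl⟩ _ ⟨b, rfl⟩ h
    rw [T.nS_inj h]
  closure_sup := by
    refine le_antisymm (sup_le ((Subgroup.closure_le _).2 ?_) inf_le_right) fun g hg => ?_
    · rintro _ ⟨m, rfl⟩
      exact T.mem_N1.2 (T.nO_mono m)
    · obtain ⟨σ, -, hσa⟩ := C.exists_acts (T.mem_N1.1 hg)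
      obtain ⟨n, hn, hnN, hna⟩ := T.exists_closure_rep (T.mem_WT_of_acts (T.mem_N1.1 hg) (T.W_fix _ g.2) hσa)
      rw [← mul_inv_cancel_left n g]
      refine mul_mem (Subgroup.mem_sup_left hn) (Subgroup.mem_sup_right (T.mem_B1_inf_N1 ?_))
      refine C.mem_diagonal_of_acts_one (mul_mem (inv_mem (T.mem_N1.1 hnN)) (T.mem_N1.1 hg)) ?_
      simpa using C.acts_mul K (C.acts_inv K hna) hσa
  mul_mem_union := by
    rintro _ ⟨m, rfl⟩ n hn b hb
    have hnm := T.mem_N1.1 hn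
    obtain ⟨σ, -, hσa⟩ := C.exists_acts hnm
    have hσ := T.mem_WT_of_acts hnm (T.W_fix _ n.2) hσa
    obtain ⟨L, hL, n', hn', ha', hcell⟩ := T.steps (T.J m) hnm (T.mem_B1.1 hb) hσa
    obtain ⟨x, hx, y, hy, exy⟩ := mem_doubleCoset.1 hcell
    have hh : T.nO m * (C.wprod K (T.J m))⁻¹ ∈ D.diagonalSubgroup K := by
      refine C.mem_diagonal_of_acts_one (mul_mem (T.nO_mono m) (inv_mem (C.wprod_mem_monomial _))) ?_
      simpa using C.acts_mul K (T.nO_acts m) (C.acts_inv K (C.acts_wprod K (T.J m)))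
    set g : ↥T.W := T.nS m * b * n with hgdef
    have hg : (g : GL D.Idx K) = T.nO m * (C.wprod K (T.J m))⁻¹ * x * n' * y := by
      rw [hgdef, mul_assoc _ x, mul_assoc _ (x * n'), ← exy]
      simp [nS, mul_assoc]
    obtain ⟨ω, hω, h⟩ := T.exists_nf (T.W_le g.2) (T.W_fix _ g.2)
    have hωσ : ω = C.pprod L * σ := by
      obtain ⟨r, hrW, hrN, hra⟩ := T.exists_rep hω
      obtain ⟨b', hb', -, u, hu, -, e⟩ := h r hrW hrN hra
      have huB : u ∈ D.borelSubgroup K := C.posUS_le_borel (C.US_mono K (fun _ h => h.1) hu)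
      refine T.acts_eq_of_mem hrN hra ha' (T.comm.bruhat_unique hrN hn'
        (mul_mem (inv_mem (mul_mem (C.diagonal_le_borel hh) hx)) hb') (mul_mem huB (inv_mem hy)) ?_)
      calc n' = (T.nO m * (C.wprod K (T.J m))⁻¹ * x)⁻¹ * (g : GL D.Idx K) * y⁻¹ := by rw [hg]; group
        _ = _ := by rw [e]; group
    have hLT : C.pprod L ∈ T.WT := by
      have := mul_mem hω (inv_mem hσ)
      rwa [hωσ, mul_inv_cancel_right] at this
    have fin : ∀ z : ↥T.W, z ∈ T.N1 → C.Acts (z : GL D.Idx K) ω →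
        g ∈ doubleCoset z (T.B1 : Set ↥T.W) T.B1 := by
      intro z hz hza
      obtain ⟨b', hb', hbf, u, hu, huf, e⟩ := h z z.2 (T.mem_N1.1 hz) hza
      exact mem_doubleCoset.2 ⟨⟨b', T.borel_fix_mem hb' hbf⟩, T.mem_B1.2 hb',
        ⟨u, (T.U_spec hω).1 ⟨hu, C.US_le_group _ hu, huf⟩⟩,
        T.mem_B1.2 (C.posUS_le_borel (C.US_mono K (fun _ h => h.1) hu)), Subtype.ext e⟩
    rcases T.small_WT hL hLT with h1 | h1
    · rw [h1, one_mul] at hωσ
      exact Or.inr (fin n hn (hωσ ▸ hσa))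
    · rw [h1] at hωσ
      refine Or.inl (fin (T.nS m * n) (mul_mem (T.mem_N1.2 (T.nO_mono m)) hn) ?_)
      rw [hωσ]
      exact C.acts_mul K (T.nO_acts m) hσa
  conj_ne := by
    rintro _ ⟨m, rfl⟩ he
    obtain ⟨u, hu, huf, hu1⟩ := T.exists_base_ne hq m
    have huW : u ∈ T.W := T.base_mem m u hu huf
    have huB : (⟨u, huW⟩ : ↥T.W) ∈ T.B1 :=
      T.mem_B1.2 (C.posUS_le_borel (C.US_mono K (fun _ h => h.1) hu))
    have h2 : T.nS m * (⟨u, huW⟩ : ↥T.W) * T.nS m ∈ (T.B1 : Set ↥T.W) := by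
      rw [← he]; exact ⟨_, huB, rfl⟩
    have h3 : T.nO m * u * T.nO m ∈ D.borelSubgroup K := T.mem_B1.1 h2
    have hsq : T.nO m * T.nO m ∈ D.borelSubgroup K := by
      refine C.diagonal_le_borel (C.mem_diagonal_of_acts_one (mul_mem (T.nO_mono m) (T.nO_mono m)) ?_)
      have := C.acts_mul K (T.nO_acts m) (T.nO_acts m)
      rwa [T.J_inv] at this
    have h4 : T.nO m * u * (T.nO m)⁻¹ ∈ D.borelSubgroup K ⊓ C.US K C.Neg := by
      refine ⟨?_, C.conj_mem_US K (T.nO_acts m) (fun r hr => hr.2) hu⟩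
      have := mul_mem h3 (inv_mem hsq)
      rwa [show T.nO m * u * T.nO m * (T.nO m * T.nO m)⁻¹ = T.nO m * u * (T.nO m)⁻¹ by group] at this
    rw [C.borel_inf_negUS, Subgroup.mem_bot, conj_eq_one_iff] at h4
    exact hu1 h4

include hq in
theorem bnPair_irreducible
    (hconn : ∀ M : Finset (Fin T.nn), M.Nonempty → M ≠ Finset.univ →
      ∃ a ∈ M, ∃ b, b ∉ M ∧ T.wO a * T.wO b ≠ T.wO b * T.wO a) :
    (T.bnPair hq).Irreducible := by
  classical
  intro J hJ hne hco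
  let M : Finset (Fin T.nn) := Finset.univ.filter fun m => T.nS m ∈ J
  have hM : M.Nonempty := by
    obtain ⟨x, hx⟩ := hne
    obtain ⟨m, rfl⟩ := hJ hx
    exact ⟨m, by simp [M, hx]⟩
  have hM' : M ≠ Finset.univ := by
    obtain ⟨x, ⟨m, rfl⟩, hx⟩ := hco
    intro h
    have := h ▸ Finset.mem_univ m
    simp [M, hx] at this
  obtain ⟨a, ha, b, hb, hab⟩ := hconn M hM hM'
  simp only [M, Finset.mem_filter, Finset.mem_univ, true_and] at ha hb
  refine ⟨_, ha, _, ⟨⟨b, rfl⟩, hb⟩, fun h => hab ?_⟩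
  have hN : T.nO a * T.nO b * (T.nO a)⁻¹ * (T.nO b)⁻¹ ∈ D.monomialSubgroup K :=
    mul_mem (mul_mem (mul_mem (T.nO_mono a) (T.nO_mono b)) (inv_mem (T.nO_mono a))) (inv_mem (T.nO_mono b))
  have hd : T.nO a * T.nO b * (T.nO a)⁻¹ * (T.nO b)⁻¹ ∈ D.diagonalSubgroup K := by
    rw [← C.borel_inf_monomial]
    exact ⟨T.mem_B1.1 h, hN⟩
  have hact := C.acts_mul K (C.acts_mul K (C.acts_mul K (T.nO_acts a) (T.nO_acts b))
    (C.acts_inv K (T.nO_acts a))) (C.acts_inv K (T.nO_acts b))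
  have := C.acts_unique K hact (C.acts_diagonal hd)
  rw [mul_inv_eq_one, mul_inv_eq_iff_eq_mul] at this
  exact this

/-- The core of `B¹` is trivial once `H¹` acts faithfully on the simple orbit groups. -/
theorem core_trivial (hsep : ∀ h ∈ D.diagonalSubgroup K, T.τ h = h →
      (∀ m, ∀ u ∈ C.US K (C.inv' (T.wO m)), T.τ u = u → h * u = u * h) → h = 1) :
    T.B1.normalCore = ⊥ := by
  obtain ⟨σ, hσ, hσP⟩ := T.exists_longest
  obtain ⟨n, hn, hnm, hna⟩ := T.exists_rep hσ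
  have hdiag : ∀ g ∈ T.B1.normalCore, (g : GL D.Idx K) ∈ D.diagonalSubgroup K := by
    intro g hg
    have hconj : (⟨n, hn⟩ : ↥T.W) * g * (⟨n, hn⟩ : ↥T.W)⁻¹ ∈ T.B1 := hg _
    obtain ⟨v, hv, k, hk, e, -, -⟩ :=
      T.borel_fix (T.mem_B1.1 (Subgroup.normalCore_le _ hg)) (T.W_fix _ g.2)
    have h1 : n * (g : GL D.Idx K) * n⁻¹ ∈ D.borelSubgroup K := T.mem_B1.1 hconj
    rw [e, show n * (v * k) * n⁻¹ = n * v * n⁻¹ * (n * k * n⁻¹) by group] at h1
    have h2 : n * v * n⁻¹ ∈ D.borelSubgroup K ⊓ C.US K C.Neg := by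
      refine ⟨?_, C.conj_mem_US K hna (fun r hr => ?_) hv⟩
      · have := mul_mem h1 (inv_mem (C.diagonal_le_borel (C.conj_diagonal hnm hk)))
        rwa [mul_inv_cancel_right] at this
      · exact (hσP.symm ▸ hr : r ∈ C.inv' σ).2
    rw [C.borel_inf_negUS, Subgroup.mem_bot, conj_eq_one_iff] at h2
    rw [e, h2, one_mul]
    exact hk
  rw [Subgroup.eq_bot_iff_forall]
  intro g hg
  refine Subtype.ext (hsep _ (hdiag g hg) (T.W_fix _ g.2) fun m u hu huf => ?_)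
  have huW : u ∈ T.W := T.base_mem m u hu huf
  have huP : u ∈ C.US K C.Pos := C.US_mono K (fun _ h => h.1) hu
  have h1 := hdiag _ ((Subgroup.normalCore_normal T.B1).conj_mem g hg ⟨u, huW⟩)
  change u * (g : GL D.Idx K) * u⁻¹ ∈ D.diagonalSubgroup K at h1
  have hk := hdiag g hg
  have h2 : (g : GL D.Idx K)⁻¹ * u * g * u⁻¹ ∈ C.US K C.Pos ⊓ D.diagonalSubgroup K := by
    refine Subgroup.mem_inf.2 ⟨mul_mem ?_ (inv_mem huP), ?_⟩
    · have := (Subgroup.mem_normalizer_iff.1 (C.diag_le_normalizer C.Pos (inv_mem hk)) u).1 huP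
      rwa [inv_inv] at this
    · rw [show (g : GL D.Idx K)⁻¹ * u * g * u⁻¹ = (g : GL D.Idx K)⁻¹ * (u * g * u⁻¹) by group]
      exact mul_mem (inv_mem hk) h1
  rw [C.US_inf_diagonal, Subgroup.mem_bot, mul_inv_eq_one, mul_assoc, inv_mul_eq_iff_eq_mul] at h2
  exact h2.symm

theorem B1_solvable : Group.IsSolvable ↥T.B1 := by
  have := C.borel_isSolvable (F := K)
  let f : ↥T.B1 →* ↥(D.borelSubgroup K) :=
    (T.W.subtype.comp T.B1.subtype).codRestrict _ fun x => T.mem_B1.1 x.2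
  exact Group.isSolvable_of_isSolvable_injective (f := f) fun a b h =>
    Subtype.ext (Subtype.ext (congrArg (fun z : ↥(D.borelSubgroup K) => (z : GL D.Idx K)) h))

include hq in
theorem nontrivial_W [NeZero T.nn] : Nontrivial ↥T.W := by
  obtain ⟨u, hu, huf, hu1⟩ := T.exists_base_ne hq 0
  exact ⟨⟨⟨u, T.base_mem _ u hu huf⟩, 1, fun h => hu1 (congrArg Subtype.val h)⟩⟩

include hq in
/-- Simplicity from perfectness. -/
theorem simple_of_perfect [NeZero T.nn]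
    (hconn : ∀ M : Finset (Fin T.nn), M.Nonempty → M ≠ Finset.univ →
      ∃ a ∈ M, ∃ b, b ∉ M ∧ T.wO a * T.wO b ≠ T.wO b * T.wO a)
    (hsep : ∀ h ∈ D.diagonalSubgroup K, T.τ h = h →
      (∀ m, ∀ u ∈ C.US K (C.inv' (T.wO m)), T.τ u = u → h * u = u * h) → h = 1)
    (hperf : commutator ↥T.W = ⊤) :
    IsSimpleGroup ↥T.W ∧ ¬ IsMulCommutative ↥T.W := by
  have := T.nontrivial_W hq
  refine ⟨Cfsg.Agent.S0319.result (T.bnPair hq) (T.bnPair_irreducible hq hconn) T.B1_solvable hperf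
    (T.core_trivial hsep), fun h => ?_⟩
  have h1 : commutator ↥T.W = ⊥ := by
    rw [commutator_def, Subgroup.commutator_eq_bot_iff_le_centralizer]
    intro a _
    rw [Subgroup.mem_centralizer_iff]
    intro b _
    exact h.is_comm.comm b a
  exact bot_ne_top (h1.symm.trans hperf)

end Finite

/-- The map `N¹ → W¹`. -/
noncomputable def wT : ↥(D.monomialSubgroup K ⊓ T.W) →* ↥T.WT :=
  ((C.WG.subtype.comp (C.wHom (F := K))).comp (Subgroup.inclusion (inf_le_left : D.monomialSubgroup K ⊓ T.W ≤ _))).codRestrict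
    T.WT fun g => T.mem_WT_of_acts g.2.1 (T.W_fix _ g.2.2) (C.acts_wOf ⟨g.1, g.2.1⟩)

theorem acts_wT (g : ↥(D.monomialSubgroup K ⊓ T.W)) : C.Acts (g : GL D.Idx K) (T.wT g : Equiv.Perm (Rt D)) :=
  C.acts_wOf ⟨g.1, g.2.1⟩

theorem wT_surjective : Function.Surjective T.wT := by
  rintro ⟨σ, hσ⟩
  obtain ⟨n, hn, hnm, hna⟩ := T.exists_rep hσ
  exact ⟨⟨n, hnm, hn⟩, Subtype.ext (C.acts_unique K (T.acts_wT ⟨n, hnm, hn⟩) hna)⟩

theorem wT_ker : T.wT.ker = (D.diagonalSubgroup K ⊓ T.W).subgroupOf (D.monomialSubgroup K ⊓ T.W) := by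
  ext g
  rw [MonoidHom.mem_ker, Subgroup.mem_subgroupOf, Subgroup.mem_inf]
  have ha := T.acts_wT g
  refine ⟨fun h => ⟨C.mem_diagonal_of_acts_one g.2.1 ?_, g.2.2⟩, fun h => Subtype.ext ?_⟩
  · rwa [h] at ha
  · exact C.acts_unique K ha (C.acts_diagonal h.1)

/-- `N¹/H¹` is the group of any isomorphism type of `W¹`. -/
theorem exists_N_quot {G : Type*} [Group G] (e : ↥T.WT ≃* G) :
    ∃ φ : ↥(D.monomialSubgroup K ⊓ T.W) →* G, Function.Surjective φ ∧
      φ.ker = (D.diagonalSubgroup K ⊓ T.W).subgroupOf (D.monomialSubgroup K ⊓ T.W) :=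
  ⟨e.toMonoidHom.comp T.wT, e.surjective.comp T.wT_surjective, by
    rw [← T.wT_ker]
    ext g
    simp [MonoidHom.mem_ker]⟩

end Tw

end Cfsg.Agent.Lib.LieTwisted.Twist
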