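import Cfsg.Agent.Lib.LieTwisted.Twist.TorusNorm
import Mathlib.FieldTheory.Finite.Extension

/-!
The untwisted Chevalley groups as twisted groups with trivial twist, and their change of field.
-/

set_option autoImplicit false
set_option linter.unusedSectionVars false

namespace Cfsg.Agent.Lib.LieTwisted.Twist

open Cfsg.Lie ChevStructure
open scoped MatrixGroups

variable {D : ChevalleyDatum}

/-- The Chevalley group itself, twisted trivially. -/
noncomputable def Tw.split (C : Core D) (H : CommOK C) (K : Type*) [Field K] [Finite K] : Tw C K where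
  comm := H
  τ g := g
  τ_mul _ _ _ _ := rfl
  π := 1
  ρ := 1
  f _ t := t
  f_ne _ _ h := h
  τ_X _ _ := rfl
  π_p _ := rfl
  π_rev _ := rfl
  π_pos _ h := h
  τ_P _ := rfl
  τ_HT c := ⟨c, rfl⟩
  W := D.group K
  W_le := le_rfl
  W_fix _ _ := rfl
  nn := D.rank
  J m := [m]
  idx := id
  mem_J i m := by simp
  idx_ρ _ := rfl
  cycle i j h := ⟨0, h⟩
  J_ne _ := List.cons_ne_nil _ _
  J_inv m := by simp [C.pprod_cons, C.pprod_nil, C.sref_mul_self]
  J_neg m j hj := by
    rw [List.mem_singleton] at hj
    subst hj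
    rw [C.pprod_cons, C.pprod_nil, mul_one, C.sref_apply, C.w_p]
    exact C.rev_neg (C.p_pos j)
  nO m := C.P K m
  nO_mem m := C.monomial_le_group (C.P_mem_monomial m)
  nO_mono m := C.P_mem_monomial m
  nO_acts m := by
    have h := C.acts_wprod K [m]
    rwa [C.wprod_cons, show C.wprod K [] = 1 from rfl, mul_one] at h
  d := 1
  q := Nat.card K
  base_mem _ _ hu _ := C.US_le_group _ hu
  base_dvd _ := one_dvd _
  base_card m := by
    rw [Nat.div_one, ← H.card_US_inv' (R := K) ⟨_, C.pprod_mem_WG [m]⟩]
    exact Nat.card_congr (Equiv.subtypeEquivRight fun u => and_iff_left rfl)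
  diag_mem _ hh _ := C.diagonal_le_group hh

variable (C : Core D) (H : CommOK C) (K : Type*) [Field K] [Finite K]

theorem Tw.split_WT : (Tw.split C H K).WT = C.WG :=
  inf_eq_left.2 fun σ _ => Subgroup.mem_centralizer_iff.2 fun g hg => by
    rw [Set.mem_singleton_iff] at hg
    subst hg
    show (1 : Equiv.Perm (Rt D)) * σ = σ * 1
    rw [one_mul, mul_one]

/-- If `ℓ` divides `q - 1` but neither `q` nor the order of the Weyl group, the torus contains a Sylow
`ℓ`-subgroup. -/
theorem Tw.split_factorization {ℓ : ℕ} (hℓ : ℓ.Prime) (hW : ¬ ℓ ∣ Nat.card C.WG) (hq : Nat.card K ≡ 1 [MOD ℓ]) :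
    (Nat.card ↥(Tw.split C H K).W).factorization ℓ = (Nat.card ↥(Tw.split C H K).H1).factorization ℓ := by
  classical
  set T := Tw.split C H K
  have hH : Nat.card ↥T.H1 = Nat.card (D.diagonalSubgroup K) := by
    rw [Tw.H1, ← Subgroup.inf_subgroupOf_right]
    refine (Nat.card_congr (Subgroup.subgroupOfEquivOfLe inf_le_right).toEquiv).trans ?_
    rw [inf_eq_left.2 (show D.diagonalSubgroup K ≤ T.W from C.diagonal_le_group)]
  have hc : Nat.card ↥T.W = Nat.card (D.diagonalSubgroup K) *
      (Nat.card K ^ (D.nroots / 2) * ∑ σ : C.WG, Nat.card K ^ C.len (σ : Equiv.Perm (Rt D))) := by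
    show Nat.card (D.group K) = _
    rw [H.card_group, H.card_borel]
    ring
  have hco : ¬ ℓ ∣ Nat.card K ^ (D.nroots / 2) * ∑ σ : C.WG, Nat.card K ^ C.len (σ : Equiv.Perm (Rt D)) := by
    refine hℓ.not_dvd_mul (fun h => ?_) fun h => hW ?_
    · exact hℓ.not_dvd_one ((Nat.ModEq.dvd_iff (hq.pow (D.nroots / 2)) dvd_rfl).1 h |>.trans (one_pow _).dvd)
    · refine (Nat.ModEq.dvd_iff ?_ dvd_rfl).1 h
      rw [Nat.card_eq_fintype_card (α := C.WG), Fintype.card_eq_sum_ones, ← (ZMod.natCast_eq_natCast_iff _ _ _), Nat.cast_sum,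
        Nat.cast_sum]
      refine Finset.sum_congr rfl fun σ _ => ?_
      rw [(ZMod.natCast_eq_natCast_iff _ _ _).2 (hq.pow _), one_pow]
  rw [hc, hH, Nat.factorization_mul Nat.card_pos.ne' (fun h => hco (by rw [h]; exact dvd_zero _)),
    Finsupp.add_apply, Nat.factorization_eq_zero_of_not_dvd hco, add_zero]

include C in
/-- A homomorphism of fields maps one Chevalley group into the other. -/
theorem map_group_le {F F' : Type*} [Field F] [Field F'] (f : F →+* F') {g : GL D.Idx F} (hg : g ∈ D.group F) :
    Matrix.GeneralLinearGroup.map f g ∈ D.group F' := by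
  have hle : D.group F ≤ (D.group F').comap (Matrix.GeneralLinearGroup.map (n := D.Idx) f) := by
    refine (Subgroup.closure_le _).2 ?_
    rintro x ⟨r, t, hx⟩
    have e : x = C.X F r t := C.eq_X (hx.trans (by simp [ChevalleyDatum.x]))
    rw [SetLike.mem_coe, Subgroup.mem_comap, e, C.X_map]
    exact C.X_mem_group _ _
  exact hle hg

/-- The embedding of Chevalley groups along a homomorphism of fields. -/
noncomputable def groupMap {F F' : Type*} [Field F] [Field F'] (f : F →+* F') : ↥(D.group F) →* ↥(D.group F') :=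
  ((Matrix.GeneralLinearGroup.map (n := D.Idx) f).comp (D.group F).subtype).codRestrict _
    fun g => map_group_le C f g.2

theorem groupMap_injective {F F' : Type*} [Field F] [Field F'] (f : F →+* F') :
    Function.Injective (groupMap C f) := fun _ _ h => Subtype.ext (Units.ext (Matrix.ext fun i j =>
  f.injective (congrFun (congrFun (congrArg (fun x : ↥(D.group F') => ((x : GL D.Idx F') : Matrix D.Idx D.Idx F')) h) i) j)))

include C in
/-- A finite extension of the field with many roots of unity. -/
theorem exists_groupMap (F : Type*) [Field F] [Finite F] (p : ℕ) [Fact p.Prime] [CharP F p] {n : ℕ} (hn : 0 < n) :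
    ∃ (F' : Type) (_ : Field F') (_ : Finite F') (φ : ↥(D.group F) →* ↥(D.group F')),
      Function.Injective φ ∧ Nat.card F' = Nat.card F ^ n := by
  have : NeZero n := ⟨hn.ne'⟩
  exact ⟨FiniteField.Extension F p n, inferInstance, inferInstance,
    groupMap C (algebraMap F (FiniteField.Extension F p n)), groupMap_injective C _,
    FiniteField.natCard_extension F p n⟩

end Cfsg.Agent.Lib.LieTwisted.Twist
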