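import Cfsg.Agent.Lib.LieTwisted.Twist.TorusNorm

/-!
The root characters of elements of the torus and their transport by monomial elements.
-/

set_option autoImplicit false
set_option linter.unusedSectionVars false

namespace Cfsg.Agent.Lib.LieTwisted.Twist

open Cfsg.Lie ChevStructure
open scoped MatrixGroups

variable {D : ChevalleyDatum} (C : Core D) {K : Type*} [Field K]

theorem HT_eq_diag (c : Fin D.rank → Kˣ) : C.HT K c = Core.diag K fun s => C.chA c s := rfl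

theorem HT_eq_one_of_chA {c : Fin D.rank → Kˣ} (h : ∀ s, C.chA c s = 1) : C.HT K c = 1 := by
  rw [HT_eq_diag, ← C.diag_one K]
  exact congrArg _ (funext h)

/-- Transport of the root characters. -/
theorem chA_conj {n : GL D.Idx K} {σ : Equiv.Perm (Rt D)} (hn : C.Acts n σ) {c c' : Fin D.rank → Kˣ}
    (h : n * C.HT K c * n⁻¹ = C.HT K c') (r : Rt D) : C.chA c' (σ r) = C.chA c r := by
  obtain ⟨e, he⟩ := hn r
  have h1 : n * (C.HT K c * C.X K r 1 * (C.HT K c)⁻¹) * n⁻¹ =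
      C.HT K c' * C.X K (σ r) ((e : K) * 1) * (C.HT K c')⁻¹ := by
    rw [← h, ← he]
    group
  rw [C.HT_X_conj, C.HT_X_conj, he] at h1
  have h2 := C.X_eq_one (mul_inv_eq_one.2 h1 |> (C.X_inv K _ _ ▸ ·) |> (C.X_add K _ _ _ ▸ ·))
  rw [mul_one, mul_one, ← sub_eq_add_neg, sub_eq_zero, mul_comm] at h2
  exact Units.ext ((mul_right_cancel₀ e.ne_zero h2).symm)

/-- If the roots of every `τ`-orbit add to zero, an element of the torus times its two conjugates is trivial. -/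
theorem orbit_prod_eq_one {n : GL D.Idx K} {τ : Equiv.Perm (Rt D)} (hn : C.Acts n τ)
    (hz : ∀ r m, C.v r m + C.v (τ r) m + C.v (τ (τ r)) m = 0) {x : GL D.Idx K}
    (hx : x ∈ D.diagonalSubgroup K) (hx1 : n * x * n⁻¹ ∈ D.diagonalSubgroup K)
    (hx2 : n * (n * x * n⁻¹) * n⁻¹ ∈ D.diagonalSubgroup K) :
    x * (n * x * n⁻¹) * (n * (n * x * n⁻¹) * n⁻¹) = 1 := by
  obtain ⟨a, rfl⟩ := C.mem_diagonal_iff.1 hx
  obtain ⟨b, hb⟩ := C.mem_diagonal_iff.1 hx1
  obtain ⟨c, hc⟩ := C.mem_diagonal_iff.1 hx2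
  rw [hc, hb, C.HT_mul, C.HT_mul]
  refine HT_eq_one_of_chA C fun s => ?_
  obtain ⟨r', rfl⟩ := τ.surjective s
  obtain ⟨r, rfl⟩ := τ.surjective r'
  rw [hb] at hc
  have e1 : ∀ r, C.chA b (τ r) = C.chA a r := chA_conj C hn hb
  have e2 : ∀ r, C.chA c (τ r) = C.chA b r := chA_conj C hn hc
  have hsplit : C.chA (a * b * c) (τ (τ r)) = C.chA a (τ (τ r)) * C.chA b (τ (τ r)) * C.chA c (τ (τ r)) := by
    simp only [Core.chA, ← Finset.prod_mul_distrib, Pi.mul_apply, mul_zpow]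
  rw [hsplit, e1, e2, e1]
  simp only [Core.chA, ← Finset.prod_mul_distrib]
  refine Finset.prod_eq_one fun j _ => ?_
  rw [← zpow_add, ← zpow_add, C.A_lin j r, C.A_lin j (τ r), C.A_lin j (τ (τ r)), ← Finset.sum_add_distrib,
    ← Finset.sum_add_distrib, Finset.sum_eq_zero fun m _ => ?_, zpow_zero]
  have := hz r m
  linear_combination (A D j (C.p m)) * this

end Cfsg.Agent.Lib.LieTwisted.Twist
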