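import Cfsg.Agent.Lib.LieTwisted.Twist.D4

/-!
Order, (B,N)-pair, Weyl group, perfectness and simplicity of ³D₄(q).
-/

set_option autoImplicit false
set_option maxRecDepth 100000

namespace Cfsg.Agent.Lib.LieTwisted.Twist.D4

open Cfsg.Lie ChevStructure
open scoped MatrixGroups

variable {K : Type*} [Field K] [Fintype K] {q : ℕ} (hq : IsPrimePow q) (hK : Fintype.card K = q ^ 3)

include hq hK

theorem exists_model : ∃ (φ : K ≃+* K) (F : Frob.Facts K q 3 φ),
    (orth F hq.one_lt hK).tw.W = Cfsg.Lie.twistedD4 K q := by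
  obtain ⟨φ, F⟩ := Frob.exists_frob hq hK (by norm_num)
  exact ⟨φ, F, G1_eq F hq.one_lt hK⟩

theorem card_posU : Nat.card ↥(chevD4.posUnipotent K ⊓ Cfsg.Lie.twistedD4 K q) = q ^ 12 := by
  obtain ⟨φ, F, e⟩ := exists_model hq hK
  rw [C.posUnipotent_eq, ← e, Tw.card_posU]
  show q ^ (24 / 2 / 1) = q ^ 12
  norm_num

theorem card_H : Nat.card ↥(chevD4.diagonalSubgroup K ⊓ Cfsg.Lie.twistedD4 K q) =
    (q - 1) ^ 2 * (q ^ 2 + q + 1) := by
  obtain ⟨φ, F, e⟩ := exists_model hq hK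
  have h := (orth F hq.one_lt hK).card_diag
  rw [ker_TF, mul_one, card_TF] at h
  rw [← e]
  refine h.trans ?_
  have h1 : 1 ≤ q := hq.one_lt.le
  have h3 : 1 ≤ q ^ 3 := Nat.one_le_pow _ _ (by omega)
  zify [h1, h3]
  ring

theorem card_twisted : Nat.card ↥(Cfsg.Lie.twistedD4 K q) =
    q ^ 12 * (q ^ 2 - 1) * (q ^ 6 - 1) * (q ^ 8 + q ^ 4 + 1) := by
  obtain ⟨φ, F, e⟩ := exists_model hq hK
  have hH := card_H hq hK
  rw [← e] at hH ⊢
  set T := (orth F hq.one_lt hK).tw with hT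
  have h := T.card_W_eq (fun k => (reps.getD k []).map (toFinL T.nn)) (levelT F hq.one_lt hK)
  have hl : ∀ L : List ℕ, (∀ i ∈ L, i < T.nn) → (T.ow (toFinL T.nn L)).length = (expand Js L).length := by
    intro L hL
    have := congrArg List.length (expand_val Cert.D4.certified T Js (Js_spec F hq.one_lt hK) (toFinL T.nn L))
    rw [List.length_map, toFinL_val hL] at this
    exact this
  have hreps : ∀ R ∈ reps, ∀ L ∈ R, ∀ i ∈ L, i < 2 := by decide +kernel
  have hprod : (∏ k ∈ Finset.range T.nn,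
      (((reps.getD k []).map (toFinL T.nn)).map fun L => T.q ^ ((T.ow L).length / T.d)).sum) =
      ∏ k ∈ Finset.range 2, (((reps.getD k []).map fun L => (expand Js L).length).map fun n => q ^ n).sum := by
    refine Finset.prod_congr rfl fun k hk => ?_
    rw [List.map_map, List.map_map]
    refine congrArg List.sum (List.map_congr_left fun L hL => ?_)
    have hk' : k < reps.length := Finset.mem_range.1 hk
    rw [List.getD_eq_getElem _ _ hk'] at hL
    show q ^ ((T.ow (toFinL T.nn L)).length / 1) = q ^ (expand Js L).length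
    rw [Nat.div_one, hl L (hreps _ (List.getElem_mem hk') L hL)]
  have hlens : (reps.getD 0 []).map (fun L => (expand Js L).length) = [0, 1] ∧
      (reps.getD 1 []).map (fun L => (expand Js L).length) = [0, 3, 4, 7, 8, 11] := by decide +kernel
  rw [hprod, Finset.prod_range_succ, Finset.prod_range_succ, Finset.prod_range_zero, one_mul, hlens.1, hlens.2,
    hH] at h
  simp only [List.map_cons, List.map_nil, List.sum_cons, List.sum_nil] at h
  have hN : T.q ^ (chevD4.nroots / 2 / T.d) = q ^ 12 := by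
    show q ^ (24 / 2 / 1) = q ^ 12
    norm_num
  rw [h, hN]
  have h1 : 1 ≤ q := hq.one_lt.le
  have h2 : 1 ≤ q ^ 2 := Nat.one_le_pow _ _ (by omega)
  have h6 : 1 ≤ q ^ 6 := Nat.one_le_pow _ _ (by omega)
  zify [h1, h2, h6]
  ring

theorem exists_bnPair : ∃ P : Cfsg.BNPair ↥(Cfsg.Lie.twistedD4 K q),
    P.B = (chevD4.borelSubgroup K ⊓ Cfsg.Lie.twistedD4 K q).subgroupOf (Cfsg.Lie.twistedD4 K q) ∧
    P.N = (chevD4.monomialSubgroup K ⊓ Cfsg.Lie.twistedD4 K q).subgroupOf (Cfsg.Lie.twistedD4 K q) := by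
  obtain ⟨φ, F, e⟩ := exists_model hq hK
  rw [← e]
  exact ⟨(orth F hq.one_lt hK).tw.bnPair hq.one_lt, rfl, rfl⟩

theorem exists_N_quot : ∃ φ : ↥(chevD4.monomialSubgroup K ⊓ Cfsg.Lie.twistedD4 K q) →* (CoxeterMatrix.G₂).Group,
    Function.Surjective φ ∧ φ.ker = (chevD4.diagonalSubgroup K ⊓ Cfsg.Lie.twistedD4 K q).subgroupOf
      (chevD4.monomialSubgroup K ⊓ Cfsg.Lie.twistedD4 K q) := by
  obtain ⟨φ, F, e⟩ := exists_model hq hK
  obtain ⟨i⟩ := exists_iso F hq.one_lt hK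
  rw [← e]
  exact (orth F hq.one_lt hK).tw.exists_N_quot i

theorem perfect : commutator ↥(Cfsg.Lie.twistedD4 K q) = ⊤ := by
  obtain ⟨φ, F, e⟩ := exists_model hq hK
  rw [← e]
  exact (orth F hq.one_lt hK).perfect (seed F hq.one_lt hK)

theorem core_trivial :
    ((chevD4.borelSubgroup K ⊓ Cfsg.Lie.twistedD4 K q).subgroupOf (Cfsg.Lie.twistedD4 K q)).normalCore = ⊥ := by
  obtain ⟨φ, F, e⟩ := exists_model hq hK
  rw [← e]
  exact (orth F hq.one_lt hK).tw.core_trivial (orth F hq.one_lt hK).faithful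

theorem simple : IsSimpleGroup ↥(Cfsg.Lie.twistedD4 K q) ∧ ¬ IsMulCommutative ↥(Cfsg.Lie.twistedD4 K q) := by
  obtain ⟨φ, F, e⟩ := exists_model hq hK
  rw [← e]
  have : NeZero (orth F hq.one_lt hK).tw.nn := ⟨(by decide : (2 : ℕ) ≠ 0)⟩
  exact (orth F hq.one_lt hK).tw.simple_of_perfect hq.one_lt (conn F hq.one_lt hK)
    (orth F hq.one_lt hK).faithful ((orth F hq.one_lt hK).perfect (seed F hq.one_lt hK))

end Cfsg.Agent.Lib.LieTwisted.Twist.D4
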