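import Cfsg.Agent.Lib.LieTwisted.Twist.OrthPerfect
import Cfsg.Agent.Lib.LieTwisted.Twist.Frob
import Cfsg.Agent.Lib.LieTwisted.GraphData
import Cfsg.Agent.Lib.ChevStructure.CommAll
import Cfsg.Agent.Lib.Coxeter.Certs
import Cfsg.Prelude.Def_LieTwisted

/-!
The twisted groups ²E₆(q) as an instance of the generic theory.
-/

set_option autoImplicit false
set_option maxRecDepth 100000
set_option linter.unusedSectionVars false

namespace Cfsg.Agent.Lib.LieTwisted.Twist.E6

open Cfsg.Lie ChevStructure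
open scoped MatrixGroups

/-- The tables of type E₆. -/
noncomputable def C : Core chevE6 := Cert.E6.core

abbrev g := GraphData.symE6_good

/-- The fundamental roots. -/
def pD : Fin chevE6.rank → Rt chevE6 := ![⟨56, by decide⟩, ⟨46, by decide⟩, ⟨42, by decide⟩, ⟨39, by decide⟩,
  ⟨37, by decide⟩, ⟨36, by decide⟩]

theorem p_eq : ∀ i, C.p i = pD i := fun i => Fin.ext <| by
  rw [C, Cert.E6.core, Cert.E6.certified.p_val]
  revert i
  decide +kernel

/-- The orbit representatives. -/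
def osD : Fin 4 → Fin chevE6.rank := ![⟨1, by decide⟩, ⟨3, by decide⟩, ⟨2, by decide⟩, ⟨0, by decide⟩]

/-- The orbit of a node. -/
def idxD : Fin chevE6.rank → Fin 4 := ![3, 0, 2, 1, 2, 3]

/-- Integral multiple of the inverse Cartan matrix. -/
def invA : Fin chevE6.rank → Fin chevE6.rank → ℤ :=
  ![![4, 3, 5, 6, 4, 2], ![3, 6, 6, 9, 6, 3], ![5, 6, 10, 12, 8, 4], ![6, 9, 12, 18, 12, 6],
    ![4, 6, 8, 12, 10, 5], ![2, 3, 4, 6, 5, 4]]

theorem invA_spec : ∀ j k, ∑ m, invA j m * A chevE6 k (pD m) = if k = j then 3 else 0 := by decide +kernel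

/-- The Cartan matrix. -/
def cartanE : Fin chevE6.rank → Fin chevE6.rank → ℤ :=
  ![![2, 0, -1, 0, 0, 0], ![0, 2, 0, -1, 0, 0], ![-1, 0, 2, -1, 0, 0], ![0, -1, -1, 2, -1, 0],
    ![0, 0, 0, -1, 2, -1], ![0, 0, 0, 0, -1, 2]]

theorem cartan_vals : ∀ j m, A chevE6 j (pD m) = cartanE j m := by decide +kernel

/-- The kernel of the torus map is generated by this vector modulo three. -/
def kerVec : Fin chevE6.rank → ℤ := ![1, 0, 2, 0, 1, 2]

theorem kerVec_spec : ∀ s : Rt chevE6, (∑ j, kerVec j * A chevE6 j s) % 3 = 0 := by decide +kernel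

theorem root_p : ∀ i, Frob.rootPerm g (C.p i) = C.p (Frob.nodePerm g i) := by
  simp only [p_eq]
  decide +kernel

theorem root_rev : ∀ r : Rt chevE6, Frob.rootPerm g r.rev = (Frob.rootPerm g r).rev := by decide +kernel

theorem sign_p : ∀ i, GraphData.symE6.ε (C.p i) = 1 ∧ GraphData.symE6.ε (C.p i).rev = 1 := by
  simp only [p_eq]
  decide +kernel

theorem node_sq : ∀ j, Frob.nodePerm g (Frob.nodePerm g j) = j := by decide +kernel

theorem node_cases : ∀ i : Fin chevE6.rank, i = ⟨0, by decide⟩ ∨ i = ⟨1, by decide⟩ ∨ i = ⟨2, by decide⟩ ∨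
    i = ⟨3, by decide⟩ ∨ i = ⟨4, by decide⟩ ∨ i = ⟨5, by decide⟩ := by decide

variable {K : Type*} [Field K]

theorem chA_one {c : Fin chevE6.rank → Kˣ} (h : C.HT K c = 1) (s : Rt chevE6) : C.chA c s = 1 := by
  have e : C.HT K c = Core.diag K (fun s => C.chA c s) := rfl
  rw [e, ← C.diag_one K] at h
  exact congrFun (C.diag_inj K h) s

theorem HT_one {c : Fin chevE6.rank → Kˣ} (h : ∀ s, C.chA c s = 1) : C.HT K c = 1 := by
  have e : C.HT K c = Core.diag K (fun s => C.chA c s) := rfl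
  rw [e, ← C.diag_one K]
  exact congrArg (Core.diag K) (funext h)

theorem ker_cube {c : Fin chevE6.rank → Kˣ} (h : C.HT K c = 1) (j : Fin chevE6.rank) : c j ^ (3 : ℤ) = 1 := by
  have h1 : ∏ m, C.chA c (C.p m) ^ invA j m = c j ^ (3 : ℤ) := by
    simp only [Core.chA, p_eq, ← Finset.prod_zpow, ← zpow_mul]
    rw [Finset.prod_comm, Finset.prod_eq_single j]
    · rw [← C.zpow_fsum]
      congr 1
      rw [Finset.sum_congr rfl fun m _ => mul_comm _ _, invA_spec, if_pos rfl]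
    · intro k _ hk
      rw [← C.zpow_fsum, Finset.sum_congr rfl fun m _ => mul_comm _ _, invA_spec, if_neg hk, zpow_zero]
    · simp
  rw [← h1]
  simp [chA_one h]

theorem ker_pow3 {c : Fin chevE6.rank → Kˣ} (h : C.HT K c = 1) (j : Fin chevE6.rank) : c j ^ 3 = 1 := by
  have := ker_cube h j
  rwa [show (3 : ℤ) = ((3 : ℕ) : ℤ) from rfl, zpow_natCast] at this

section

variable [Fintype K] {q : ℕ} {φ : K ≃+* K} (F : Frob.Facts K q 2 φ) (hq1 : 1 < q) (hK : Fintype.card K = q ^ 2)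

/-- The transformation of torus parameters. -/
noncomputable def τT (φ : K ≃+* K) (c : Fin chevE6.rank → Kˣ) : Fin chevE6.rank → Kˣ :=
  fun i => Units.map (φ : K →* K) (c ((Frob.nodePerm g).symm i))

theorem τT_apply (c : Fin chevE6.rank → Kˣ) (i : Fin chevE6.rank) :
    τT φ c (Frob.nodePerm g i) = Units.map (φ : K →* K) (c i) := by simp [τT]

include F in
theorem τT_pow (c : Fin chevE6.rank → Kˣ) : τT φ (τT φ c) = c := by
  funext i
  obtain ⟨j, rfl⟩ := ((Frob.nodePerm g).trans (Frob.nodePerm g)).surjective i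
  simp only [Equiv.trans_apply, τT_apply]
  rw [node_sq]
  exact Units.ext (F.pow _)

include F in
theorem lang (c : Fin chevE6.rank → Kˣ) (hc : C.HT K (τT φ c) = C.HT K c) :
    ∃ d : Fin chevE6.rank → Kˣ, τT φ d = d ∧ C.HT K d = C.HT K c := by
  set z := τT φ c / c with hz
  have hτdiv : ∀ a b, τT φ (a / b) = τT φ a / τT φ b := fun a b => funext fun i => by simp [τT]
  have hzk : C.HT K z = 1 := by
    show C.HThom K (τT φ c / c) = 1
    rw [map_div, div_eq_one]
    exact hc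
  have hz3 : z * z * z = 1 := funext fun j => by
    have := ker_pow3 hzk j
    rwa [pow_succ, sq] at this
  have hτz : τT φ z = z⁻¹ := by
    rw [hz, hτdiv, τT_pow F, inv_div]
  refine ⟨c / z, ?_, ?_⟩
  · rw [hτdiv, hτz, div_inv_eq_mul]
    have h1 : τT φ c = z * c := by rw [hz, div_mul_cancel]
    rw [h1, eq_div_iff_mul_eq']
    calc z * c * z * z = (z * z * z) * c := by ac_rfl
      _ = c := by rw [hz3, one_mul]
  · show C.HThom K (c / z) = _
    rw [map_div, show C.HThom K z = 1 from hzk, div_one]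
    rfl

include F hq1 hK in
/-- The twisted data of ²E₆(q). -/
noncomputable def orth : Orth C K where
  comm := Cert.E6.core.commOK_mild mildE6
  Θ := Frob.theta g φ
  φ := φ
  ε r := GraphData.symE6.ε r
  ε_ne r := left_ne_zero_of_mul (a := (GraphData.symE6.ε r : K)) (b := (GraphData.symE6.ε r : K)) (by
    rw [GraphAut.eps_cast_mul_self K g r.isLt]; exact one_ne_zero)
  π := Frob.rootPerm g
  ρ := Frob.nodePerm g
  Θ_X r t := Frob.theta_X C g φ r t
  π_p := root_p
  π_rev := root_rev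
  π_pos := by
    show ∀ r : Rt chevE6, chevE6.nroots ≤ 2 * r.val → chevE6.nroots ≤ 2 * (Frob.rootPerm g r).val
    decide +kernel
  ε_p := sign_p
  n := 2
  two_le := le_rfl
  φ_pow := F.pow
  φ_free j h0 hj := by
    obtain ⟨t, ht⟩ := Frob.ne_id F (by norm_num) hq1
    refine ⟨t, fun h => ?_⟩
    interval_cases j
    exact ht h
  ρ_pow := by decide +kernel
  free := by decide +kernel
  orth := by
    have key : ∀ i : Fin chevE6.rank, ∀ a < 2, ∀ b < 2,
        (Frob.nodePerm g : _ → _)^[a] i ≠ (Frob.nodePerm g : _ → _)^[b] i →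
        A chevE6 ((Frob.nodePerm g : _ → _)^[a] i) (pD ((Frob.nodePerm g : _ → _)^[b] i)) = 0 ∧
        chevE6.commTerms (pD ((Frob.nodePerm g : _ → _)^[a] i)).val (pD ((Frob.nodePerm g : _ → _)^[b] i)).val = [] ∧
        chevE6.commTerms (pD ((Frob.nodePerm g : _ → _)^[a] i)).val (pD ((Frob.nodePerm g : _ → _)^[b] i)).rev.val = [] ∧
        chevE6.commTerms (pD ((Frob.nodePerm g : _ → _)^[a] i)).rev.val
          (pD ((Frob.nodePerm g : _ → _)^[b] i)).rev.val = [] := by decide +kernel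
    rintro i a ha b hb i' j' rfl rfl hne
    simp only [p_eq]
    exact key i a ha b hb hne
  nn := 4
  os := osD
  idx := idxD
  idx_os := by decide +kernel
  idx_ρ := by decide +kernel
  cycle := by
    have key : ∀ i : Fin chevE6.rank, ∃ k : Fin 2,
        k.val < (if Frob.nodePerm g (osD (idxD i)) = osD (idxD i) then 1 else 2) ∧
          (Frob.nodePerm g : _ → _)^[k.val] (osD (idxD i)) = i := by decide +kernel
    intro i
    obtain ⟨k, h1, h2⟩ := key i
    exact ⟨k.val, h1, h2⟩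
  q := q
  card_K := by rw [Nat.card_eq_fintype_card, hK]
  card_fix := F.card_fix
  lang := lang F

/-- The orbits, as lists of nodes. -/
def Js : List (List ℕ) := [[1], [3], [2, 4], [0, 5]]

/-- The minimal coset representatives of the levels. -/
def reps : List (List (List ℕ)) := [
  [[], [0]],
  [[], [1], [0, 1]],
  [[], [2], [1, 2], [0, 1, 2], [2, 1, 2], [2, 0, 1, 2], [1, 2, 0, 1, 2], [2, 1, 2, 0, 1, 2]],
  [[], [3], [2, 3], [1, 2, 3], [0, 1, 2, 3], [2, 1, 2, 3], [2, 0, 1, 2, 3], [1, 2, 0, 1, 2, 3], [3, 2, 1, 2, 3], [3, 2, 0, 1, 2, 3], [2, 1, 2, 0, 1, 2, 3], [3, 1, 2, 0, 1, 2, 3], [2, 3, 1, 2, 0, 1, 2, 3], [3, 2, 1, 2, 0, 1, 2, 3], [1, 2, 3, 1, 2, 0, 1, 2, 3], [0, 1, 2, 3, 1, 2, 0, 1, 2, 3], [3, 2, 3, 1, 2, 0, 1, 2, 3], [3, 1, 2, 3, 1, 2, 0, 1, 2, 3], [3, 0, 1, 2, 3, 1, 2, 0, 1, 2, 3], [2, 3, 1, 2, 3, 1, 2, 0, 1, 2, 3], [2, 3, 0, 1, 2, 3, 1, 2, 0, 1, 2, 3], [1, 2, 3, 0, 1, 2, 3, 1, 2, 0, 1, 2, 3], [2, 1, 2, 3, 0, 1, 2, 3, 1, 2,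 0, 1, 2, 3], [3, 2, 1, 2, 3, 0, 1, 2, 3, 1, 2, 0, 1, 2, 3]]]

/-- The transition witnesses. -/
def wits : List (List (List (ℕ × List ℕ))) := [
  [[(1, [])], [(0, [])]],
  [[(0, [0]), (1, [])], [(2, []), (0, [])], [(1, []), (2, [0])]],
  [[(0, [0]), (0, [1]), (1, [])], [(1, [0]), (2, []), (0, [])], [(3, []), (1, []), (4, [])], [(2, []), (3, [0]), (5, [])], [(5, []), (4, [1]), (2, [])], [(4, []), (6, []), (3, [])], [(6, [1]), (5, []), (7, [])], [(7, [1]), (7, [0]), (6, [])]],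
  [[(0, [0]), (0, [1]), (0, [2]), (1, [])], [(1, [0]), (1, [1]), (2, []), (0, [])], [(2, [0]), (3, []), (1, []), (2, [2])], [(4, []), (2, []), (5, []), (3, [2])], [(3, []), (4, [0]), (6, []), (4, [2])], [(6, []), (5, [1]), (3, []), (8, [])], [(5, []), (7, []), (4, []), (9, [])], [(7, [1]), (6, []), (10, []), (11, [])], [(9, []), (8, [1]), (8, [2]), (5, [])], [(8, []), (11, []), (9, [2]), (6, [])], [(10, [1]), (10, [0]), (7, []), (13, [])], [(11, [1]), (9, []), (12, []), (7, [])], [(12, [1]), (14, []), (11, []), (16, [])], [(13, [1]), (13, [0]), (16, []), (10, [])], [(15, []), (12, []), (14, [2]), (17, [])], [(14, []), (15, [1]), (15, [2]), (18, [])], [(16, [1]), (17, []), (13, []), (12, [])], [(18, []), (16, []), (19, []), (14, [])], [(17, []), (18, [1]), (20, []), (15, [])], [(20, []), (19, [0]), (17, []), (19, [2])], [(19, []), (21, []), (18, []), (20, [2])], [(21, [0]), (20, []), (22, []), (21, [2])], [(22, [0]), (22, [1]), (21, []),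 (23, [])], [(23, [0]), (23, [1]), (23, [2]), (22, [])]]]

/-- The input word of a generator. -/
def genWord (φ : K ≃+* K) : Fin 4 → Bool → K → List (ℕ × K)
  | 0, false, t => [(46, t)]
  | 0, true, t => [(25, t)]
  | 1, false, t => [(39, t)]
  | 1, true, t => [(32, t)]
  | 2, false, t => [(42, t), (37, φ t)]
  | 2, true, t => [(29, t), (34, φ t)]
  | 3, false, t => [(56, t), (36, φ t)]
  | 3, true, t => [(15, t), (35, φ t)]

theorem node_vals : ∀ m : Fin 4, Frob.nodePerm g (osD m) = osD m ↔ m.val < 2 := by decide +kernel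

theorem sz_os (m : Fin 4) : (orth F hq1 hK).sz (osD m) = if m.val < 2 then 1 else 2 := by
  by_cases h : m.val < 2
  · rw [if_pos h]; exact if_pos ((node_vals m).2 h)
  · rw [if_neg h]; exact if_neg fun e => h ((node_vals m).1 e)

theorem xS_val (m : Fin 4) (s : Bool) (t : K) :
    (((orth F hq1 hK).xS s (osD m) t : GL chevE6.Idx K) : Matrix chevE6.Idx chevE6.Idx K) =
      chevE6.wordMat K (genWord φ m s t) := by
  have e : (((orth F hq1 hK).xS s (osD m) t : GL chevE6.Idx K) : Matrix chevE6.Idx chevE6.Idx K) =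
      ((List.range ((orth F hq1 hK).sz (osD m))).map fun k =>
        chevE6.x K (sd s (pD ((Frob.nodePerm g : _ → _)^[k] (osD m)))).val ((φ : K → K)^[k] t)).prod := by
    rw [Orth.xS, Orth.oprod, ← Units.coeHom_apply (List.prod _), map_list_prod, List.map_map]
    refine congrArg List.prod (List.map_congr_left fun k _ => ?_)
    rw [Function.comp_apply, Units.coeHom_apply, C.X_val_x, p_eq]
    rfl
  rw [e, sz_os]
  have hm : ∀ m : Fin 4, m = 0 ∨ m = 1 ∨ m = 2 ∨ m = 3 := by decide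
  rcases hm m with rfl | rfl | rfl | rfl <;> cases s <;> rfl

theorem G1_eq : (orth F hq1 hK).G1 = Cfsg.Lie.twistedE6 K q := by
  rw [Cfsg.Lie.twistedE6, ChevalleyDatum.genSubgroup, Orth.G1]
  congr 1
  ext x
  have hv2 : ∀ m : Fin 4, ¬ m.val < 2 → ∀ t, (orth F hq1 hK).Valid (osD m) t := fun m h t => by
    unfold Orth.Valid; rw [sz_os, if_neg h]; exact F.pow t
  have hv1 : ∀ m : Fin 4, m.val < 2 → ∀ t, ((orth F hq1 hK).Valid (osD m) t ↔ t ^ q = t) := fun m h t => by
    unfold Orth.Valid; rw [sz_os, if_pos h]; show φ t = t ↔ _; rw [F.apply]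
  constructor
  · rintro ⟨m, s, t, ht, rfl⟩
    refine ⟨genWord φ m s t, ?_, xS_val F hq1 hK m s t⟩
    have hm : ∀ m : Fin 4, m = 0 ∨ m = 1 ∨ m = 2 ∨ m = 3 := by decide
    rcases hm m with rfl | rfl | rfl | rfl <;> cases s
    · exact Or.inl ⟨t, (hv1 0 (by decide) t).1 ht, e6p2, by simp, rfl⟩
    · exact Or.inl ⟨t, (hv1 0 (by decide) t).1 ht, e6m2, by simp, rfl⟩
    · exact Or.inl ⟨t, (hv1 1 (by decide) t).1 ht, e6p4, by simp, rfl⟩
    · exact Or.inl ⟨t, (hv1 1 (by decide) t).1 ht, e6m4, by simp, rfl⟩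
    · exact Or.inr ⟨t, (e6p3, e6p5), by simp, by simp [genWord, F.apply, e6p3, e6p5]⟩
    · exact Or.inr ⟨t, (e6m3, e6m5), by simp, by simp [genWord, F.apply, e6m3, e6m5]⟩
    · exact Or.inr ⟨t, (e6p1, e6p6), by simp, by simp [genWord, F.apply, e6p1, e6p6]⟩
    · exact Or.inr ⟨t, (e6m1, e6m6), by simp, by simp [genWord, F.apply, e6m1, e6m6]⟩
  · rintro ⟨w, (⟨t, ht, r, hr, rfl⟩ | ⟨t, rs, hr, rfl⟩), hx⟩
    · simp only [List.mem_cons, List.not_mem_nil, or_false] at hr
      rcases hr with rfl | rfl | rfl | rfl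
      · exact ⟨(0 : Fin 4), false, t, (hv1 0 (by decide) t).2 ht, Units.ext (hx.trans (xS_val F hq1 hK 0 false t).symm)⟩
      · exact ⟨(0 : Fin 4), true, t, (hv1 0 (by decide) t).2 ht, Units.ext (hx.trans (xS_val F hq1 hK 0 true t).symm)⟩
      · exact ⟨(1 : Fin 4), false, t, (hv1 1 (by decide) t).2 ht, Units.ext (hx.trans (xS_val F hq1 hK 1 false t).symm)⟩
      · exact ⟨(1 : Fin 4), true, t, (hv1 1 (by decide) t).2 ht, Units.ext (hx.trans (xS_val F hq1 hK 1 true t).symm)⟩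
    · simp only [List.mem_cons, List.not_mem_nil, or_false] at hr
      rcases hr with rfl | rfl | rfl | rfl
      · refine ⟨(3 : Fin 4), false, t, hv2 3 (by decide) t, Units.ext (hx.trans ?_)⟩
        refine Eq.trans ?_ (xS_val F hq1 hK 3 false t).symm
        simp [genWord, F.apply, e6p1, e6p6]
      · refine ⟨(3 : Fin 4), true, t, hv2 3 (by decide) t, Units.ext (hx.trans ?_)⟩
        refine Eq.trans ?_ (xS_val F hq1 hK 3 true t).symm
        simp [genWord, F.apply, e6m1, e6m6]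
      · refine ⟨(2 : Fin 4), false, t, hv2 2 (by decide) t, Units.ext (hx.trans ?_)⟩
        refine Eq.trans ?_ (xS_val F hq1 hK 2 false t).symm
        simp [genWord, F.apply, e6p3, e6p5]
      · refine ⟨(2 : Fin 4), true, t, hv2 2 (by decide) t, Units.ext (hx.trans ?_)⟩
        refine Eq.trans ?_ (xS_val F hq1 hK 2 true t).symm
        simp [genWord, F.apply, e6m3, e6m5]

theorem node_tf : (Frob.nodePerm g).symm ⟨0, by decide⟩ = (⟨5, by decide⟩ : Fin chevE6.rank) ∧
    (Frob.nodePerm g).symm ⟨1, by decide⟩ = (⟨1, by decide⟩ : Fin chevE6.rank) ∧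
    (Frob.nodePerm g).symm ⟨2, by decide⟩ = (⟨4, by decide⟩ : Fin chevE6.rank) ∧
    (Frob.nodePerm g).symm ⟨3, by decide⟩ = (⟨3, by decide⟩ : Fin chevE6.rank) ∧
    (Frob.nodePerm g).symm ⟨4, by decide⟩ = (⟨2, by decide⟩ : Fin chevE6.rank) ∧
    (Frob.nodePerm g).symm ⟨5, by decide⟩ = (⟨0, by decide⟩ : Fin chevE6.rank) := by decide +kernel

theorem mem_TF (c : Fin chevE6.rank → Kˣ) : c ∈ (orth F hq1 hK).TF ↔
    Units.map (φ : K →* K) (c ⟨1, by decide⟩) = c ⟨1, by decide⟩ ∧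
      Units.map (φ : K →* K) (c ⟨3, by decide⟩) = c ⟨3, by decide⟩ ∧
      Units.map (φ : K →* K) (c ⟨0, by decide⟩) = c ⟨5, by decide⟩ ∧
      Units.map (φ : K →* K) (c ⟨2, by decide⟩) = c ⟨4, by decide⟩ := by
  obtain ⟨a0, a1, a2, a3, a4, a5⟩ := node_tf
  constructor
  · intro h
    have h' : ∀ i, Units.map (φ : K →* K) (c ((Frob.nodePerm g).symm i)) = c i := congrFun h
    refine ⟨?_, ?_, ?_, ?_⟩
    · simpa only [a1] using h' ⟨1, by decide⟩
    · simpa only [a3] using h' ⟨3, by decide⟩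
    · simpa only [a5] using h' ⟨5, by decide⟩
    · simpa only [a4] using h' ⟨4, by decide⟩
  · rintro ⟨u1, u3, u5, u4⟩
    refine funext fun i => ?_
    show Units.map (φ : K →* K) (c ((Frob.nodePerm g).symm i)) = c i
    rcases node_cases i with rfl | rfl | rfl | rfl | rfl | rfl
    · rw [a0, ← u5]; exact Units.ext (F.pow _)
    · rw [a1, u1]
    · rw [a2, ← u4]; exact Units.ext (F.pow _)
    · rw [a3, u3]
    · rw [a4, u4]
    · rw [a5, u5]

include F in
theorem card_fixed_units : Nat.card {u : Kˣ // Units.map (φ : K →* K) u = u} = q - 1 := by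
  classical
  let e2 : Option {u : Kˣ // Units.map (φ : K →* K) u = u} ≃ {t : K // φ t = t} :=
    { toFun := fun o => match o with
        | none => ⟨0, map_zero φ⟩
        | some u => ⟨(u.1 : K), congrArg Units.val u.2⟩
      invFun := fun t => if h : t.1 = 0 then none else some ⟨Units.mk0 t.1 h, Units.ext t.2⟩
      left_inv := fun o => by
        match o with
        | none => simp
        | some u => simp [Units.ne_zero]
      right_inv := fun t => by
        by_cases h : t.1 = 0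
        · simp only [dif_pos h]; exact Subtype.ext h.symm
        · simp only [dif_neg h]; rfl }
  have h1 : Nat.card {u : Kˣ // Units.map (φ : K →* K) u = u} + 1 = q := by
    rw [← Finite.card_option, Nat.card_congr e2, F.card_fix]
  omega

theorem card_TF : Nat.card (orth F hq1 hK).TF = (q - 1) ^ 2 * (q ^ 2 - 1) ^ 2 := by
  let e : (orth F hq1 hK).TF ≃
      ({u : Kˣ // Units.map (φ : K →* K) u = u} × {u : Kˣ // Units.map (φ : K →* K) u = u}) × (Kˣ × Kˣ) :=
    { toFun := fun c => ((⟨c.1 ⟨1, by decide⟩, ((mem_TF F hq1 hK c.1).1 c.2).1⟩,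
        ⟨c.1 ⟨3, by decide⟩, ((mem_TF F hq1 hK c.1).1 c.2).2.1⟩), (c.1 ⟨0, by decide⟩, c.1 ⟨2, by decide⟩))
      invFun := fun x => ⟨![x.2.1, x.1.1.1, x.2.2, x.1.2.1, Units.map (φ : K →* K) x.2.2,
          Units.map (φ : K →* K) x.2.1],
        (mem_TF F hq1 hK _).2 ⟨x.1.1.2, x.1.2.2, rfl, rfl⟩⟩
      left_inv := fun c => Subtype.ext (funext fun i => by
        obtain ⟨_, _, u5, u4⟩ := (mem_TF F hq1 hK c.1).1 c.2
        rcases node_cases i with rfl | rfl | rfl | rfl | rfl | rfl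
        · rfl
        · rfl
        · rfl
        · rfl
        · exact u4
        · exact u5)
      right_inv := fun x => rfl }
  rw [Nat.card_congr e, Nat.card_prod, Nat.card_prod, Nat.card_prod, card_fixed_units F, F.card_units]
  ring

/-- The vector of the kernel of the torus map with a given first entry. -/
def kerElt (u : Kˣ) : Fin chevE6.rank → Kˣ := fun j => u ^ kerVec j

theorem kerElt_HT {u : Kˣ} (hu : u ^ 3 = 1) : C.HT K (kerElt u) = 1 := by
  refine HT_one fun s => ?_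
  simp only [Core.chA, kerElt, ← zpow_mul, ← C.zpow_fsum]
  obtain ⟨k, hk⟩ := Int.dvd_of_emod_eq_zero (kerVec_spec s)
  rw [hk, zpow_mul, show (3 : ℤ) = ((3 : ℕ) : ℤ) from rfl, zpow_natCast, hu, one_zpow]

theorem ker_eqs {c : Fin chevE6.rank → Kˣ} (h : C.HT K c = 1) :
    c ⟨1, by decide⟩ = 1 ∧ c ⟨3, by decide⟩ = 1 ∧ c ⟨2, by decide⟩ = c ⟨0, by decide⟩ ^ 2 ∧
      c ⟨4, by decide⟩ = c ⟨0, by decide⟩ ∧ c ⟨5, by decide⟩ = c ⟨0, by decide⟩ ^ 2 := by
  have key : ∀ m, ∏ j, c j ^ cartanE j m = 1 := fun m => by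
    have := chA_one h (C.p m)
    simp only [Core.chA, p_eq, cartan_vals] at this
    exact this
  have hprod : ∀ f : Fin chevE6.rank → Kˣ, ∏ j, f j = f ⟨0, by decide⟩ * f ⟨1, by decide⟩ * f ⟨2, by decide⟩ *
      f ⟨3, by decide⟩ * f ⟨4, by decide⟩ * f ⟨5, by decide⟩ := fun f => Fin.prod_univ_six f
  have e0 := key ⟨0, by decide⟩
  have e1 := key ⟨1, by decide⟩
  have e2 := key ⟨2, by decide⟩
  have e3 := key ⟨3, by decide⟩
  have e5 := key ⟨5, by decide⟩
  have z : ∀ x : Kˣ, x ^ (2 : ℤ) = x ^ 2 := fun x => zpow_natCast x 2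
  rw [hprod] at e0 e1 e2 e3 e5
  set a := c ⟨0, by decide⟩
  set b := c ⟨1, by decide⟩
  set d := c ⟨2, by decide⟩
  set f := c ⟨3, by decide⟩
  set k := c ⟨4, by decide⟩
  set l := c ⟨5, by decide⟩
  replace e0 : a ^ (2 : ℤ) * b ^ (0 : ℤ) * d ^ (-1 : ℤ) * f ^ (0 : ℤ) * k ^ (0 : ℤ) * l ^ (0 : ℤ) = 1 := e0
  replace e1 : a ^ (0 : ℤ) * b ^ (2 : ℤ) * d ^ (0 : ℤ) * f ^ (-1 : ℤ) * k ^ (0 : ℤ) * l ^ (0 : ℤ) = 1 := e1
  replace e2 : a ^ (-1 : ℤ) * b ^ (0 : ℤ) * d ^ (2 : ℤ) * f ^ (-1 : ℤ) * k ^ (0 : ℤ) * l ^ (0 : ℤ) = 1 := e2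
  replace e3 : a ^ (0 : ℤ) * b ^ (-1 : ℤ) * d ^ (-1 : ℤ) * f ^ (2 : ℤ) * k ^ (-1 : ℤ) * l ^ (0 : ℤ) = 1 := e3
  replace e5 : a ^ (0 : ℤ) * b ^ (0 : ℤ) * d ^ (0 : ℤ) * f ^ (0 : ℤ) * k ^ (-1 : ℤ) * l ^ (2 : ℤ) = 1 := e5
  simp only [zpow_zero, zpow_neg_one, z, mul_one, one_mul] at e0 e1 e2 e3 e5
  have c0 : a ^ 3 = 1 := ker_pow3 h _
  have c1 : b ^ 3 = 1 := ker_pow3 h _
  have c5 : l ^ 3 = 1 := ker_pow3 h _
  have h2 : d = a ^ 2 := (mul_inv_eq_one.1 e0).symm
  have h3 : f = 1 := by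
    have t := mul_inv_eq_one.1 e2
    rw [h2, ← pow_mul, show 2 * 2 = 3 + 1 from rfl, pow_succ, c0, one_mul, inv_mul_cancel] at t
    exact t.symm
  have h1 : b = 1 := by
    have t := mul_inv_eq_one.1 e1
    rw [h3] at t
    rwa [pow_succ, t, one_mul] at c1
  have h4 : k = a := by
    rw [h1, h2, h3, inv_one, one_pow, one_mul, mul_one, ← mul_inv, inv_eq_one] at e3
    calc k = a ^ 3 * k := by rw [c0, one_mul]
      _ = a * (a ^ 2 * k) := by rw [← mul_assoc, ← pow_succ']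
      _ = a := by rw [e3, mul_one]
  refine ⟨h1, h3, h2, h4, ?_⟩
  rw [inv_mul_eq_one, h4] at e5
  rw [e5, ← pow_mul, pow_succ, c5, one_mul]

theorem pow_facts {u : Kˣ} (hu : u ^ Nat.gcd 3 (q + 1) = 1) : u ^ 3 = 1 ∧ u ^ q = u ^ 2 := by
  obtain ⟨h3, hq⟩ := pow_gcd_eq_one.1 hu
  refine ⟨h3, ?_⟩
  rw [pow_succ] at hq
  rw [eq_inv_of_mul_eq_one_left hq]
  exact inv_eq_of_mul_eq_one_right (by rw [← pow_succ', h3])

theorem ker_TF : Nat.card ↥((C.HThom K).comp (orth F hq1 hK).TF.subtype).ker = Nat.gcd 3 (q + 1) := by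
  have hφu : ∀ u : Kˣ, Units.map (φ : K →* K) u = u ^ q := fun u => Units.ext (by simpa using F.apply _)
  let e : ↥((C.HThom K).comp (orth F hq1 hK).TF.subtype).ker ≃
      (powMonoidHom (Nat.gcd 3 (q + 1)) : Kˣ →* Kˣ).ker :=
    { toFun := fun c => ⟨c.1.1 ⟨0, by decide⟩, by
        have hHT : C.HT K c.1.1 = 1 := c.2
        obtain ⟨_, _, u5, _⟩ := (mem_TF F hq1 hK c.1.1).1 c.1.2
        obtain ⟨_, _, _, _, h5⟩ := ker_eqs hHT
        have h3 := ker_pow3 hHT ⟨0, by decide⟩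
        rw [h5, hφu] at u5
        show _ ^ Nat.gcd 3 (q + 1) = (1 : Kˣ)
        refine pow_gcd_eq_one.2 ⟨h3, ?_⟩
        rw [pow_succ, u5, ← pow_succ, h3]⟩
      invFun := fun u => ⟨⟨kerElt u.1, by
        obtain ⟨h3, huq⟩ := pow_facts (q := q) (u := u.1) u.2
        refine (mem_TF F hq1 hK _).2 ⟨?_, ?_, ?_, ?_⟩
        · show Units.map (φ : K →* K) (u.1 ^ (0 : ℤ)) = u.1 ^ (0 : ℤ)
          rw [zpow_zero, map_one]
        · show Units.map (φ : K →* K) (u.1 ^ (0 : ℤ)) = u.1 ^ (0 : ℤ)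
          rw [zpow_zero, map_one]
        · rw [hφu]
          show (u.1 ^ (1 : ℤ)) ^ q = u.1 ^ ((2 : ℕ) : ℤ)
          rw [zpow_one, zpow_natCast, huq]
        · rw [hφu]
          show (u.1 ^ (2 : ℤ)) ^ q = u.1 ^ (1 : ℤ)
          rw [zpow_one, zpow_two, ← sq, ← pow_mul, mul_comm, pow_mul, huq, ← pow_mul, pow_succ, h3, one_mul]⟩,
        kerElt_HT (pow_facts (q := q) (u := u.1) u.2).1⟩
      left_inv := fun c => by
        have hHT : C.HT K c.1.1 = 1 := c.2
        obtain ⟨h1, h3, h2, h4, h5⟩ := ker_eqs hHT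
        refine Subtype.ext (Subtype.ext (funext fun i => ?_))
        show (c.1.1 ⟨0, _⟩) ^ kerVec i = c.1.1 i
        rcases node_cases i with rfl | rfl | rfl | rfl | rfl | rfl
        · exact zpow_one _
        · exact (zpow_zero _).trans h1.symm
        · exact (zpow_natCast _ 2).trans h2.symm
        · exact (zpow_zero _).trans h3.symm
        · exact (zpow_one _).trans h4.symm
        · exact (zpow_natCast _ 2).trans h5.symm
      right_inv := fun u => Subtype.ext (zpow_one _) }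
  rw [Nat.card_congr e, IsCyclic.card_powMonoidHom_ker, F.card_units]
  refine Nat.gcd_eq_right ((Nat.gcd_dvd_right 3 (q + 1)).trans ?_)
  exact ⟨q - 1, by rw [← Nat.sq_sub_sq, one_pow]⟩

theorem Js_spec (m : Fin (orth F hq1 hK).tw.nn) : ((orth F hq1 hK).tw.J m).map Fin.val = Js.getD m.val [] := by
  have key : ∀ m : Fin 4, (List.range (if m.val < 2 then 1 else 2)).map
      (fun k => ((Frob.nodePerm g : _ → _)^[k] (osD m)).val) = Js.getD m.val [] := by decide +kernel
  show (((List.range ((orth F hq1 hK).sz (osD m))).map fun k =>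
    (Frob.nodePerm g : _ → _)^[k] (osD m)).map Fin.val) = _
  rw [List.map_map]
  have e : (orth F hq1 hK).sz (osD m) = if m.val < 2 then 1 else 2 := sz_os F hq1 hK m
  exact (congrArg (fun n => (List.range n).map _) e).trans (key m)

theorem levels_ok : ∀ k < 4, levelOK Data.E6.fast Js k (reps.getD k []) (wits.getD k []) = true := by decide +kernel

theorem levelT (k : ℕ) (hk : k < 4) :
    (orth F hq1 hK).tw.LevelT k ((reps.getD k []).map (toFinL (orth F hq1 hK).tw.nn)) :=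
  level_of_levelOK Cert.E6.certified (orth F hq1 hK).tw Js (Js_spec F hq1 hK) rfl (levels_ok k hk)

/-- Orbit words carrying the seed root to the fundamental fixed roots and their negatives. -/
def reachW : Fin 4 → Bool → List (Fin 4)
  | 0, false => [0, 1, 2, 3, 1]
  | 0, true => [1, 2, 3, 1]
  | 1, false => [1, 2, 3, 0, 1]
  | 1, true => [2, 3, 0, 1]
  | _, _ => []

theorem reachW_spec : ∀ m : Fin 4, m.val < 2 → ∀ s : Bool,
    Data.E6.fast.actW (expand Js ((reachW m s).map Fin.val)) 6 = (sd s (pD (osD m))).val := by decide +kernel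

/-- The commutator expressing a long root element. -/
noncomputable def seed : (orth F hq1 hK).Seed where
  m1 := (2 : Fin 4)
  moved := fun h => absurd ((node_vals 2).1 h) (by decide)
  b := ⟨3, by decide⟩
  r0 := ⟨6, by decide⟩
  c := -1
  c_sq := rfl
  π_b := by
    show (Frob.rootPerm g : _ → _)^[2] _ = _
    decide +kernel
  eps_b := by
    show (orth F hq1 hK).Eps 2 (⟨3, by decide⟩ : Rt chevE6) = 1
    simp only [Orth.Eps]
    show GraphData.symE6.ε ((Frob.rootPerm g : _ → _)^[1] (⟨3, by decide⟩ : Rt chevE6)).val *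
      (GraphData.symE6.ε ((Frob.rootPerm g : _ → _)^[0] (⟨3, by decide⟩ : Rt chevE6)).val * 1) = 1
    decide +kernel
  π_r0 := by
    show Frob.rootPerm g _ = _
    decide +kernel
  ε_r0 := by
    show GraphData.symE6.ε (⟨6, by decide⟩ : Rt chevE6).val = 1
    decide +kernel
  ne_b := by
    simp only [p_eq]
    show (⟨3, by decide⟩ : Rt chevE6) ≠ pD (osD 2) ∧ (⟨3, by decide⟩ : Rt chevE6) ≠ (pD (osD 2)).rev
    decide +kernel
  terms := by
    rw [p_eq]
    show chevE6.commTerms (pD (osD 2)).val 3 = [(6, -1, 1, 1)]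
    decide +kernel
  comAB := by
    have key : ∀ k < 2, 0 < k → Orth.Com (pD (osD 2)) ((Frob.rootPerm g : _ → _)^[k] (⟨3, by decide⟩ : Rt chevE6)) := by
      unfold Orth.Com; decide +kernel
    intro k h1 h2
    rw [p_eq]
    exact key k h2 h1
  comBB := by
    show ∀ k < 2, ∀ l < 2, Orth.Com ((Frob.rootPerm g : _ → _)^[k] (⟨3, by decide⟩ : Rt chevE6))
      ((Frob.rootPerm g : _ → _)^[l] (⟨3, by decide⟩ : Rt chevE6))
    unfold Orth.Com; decide +kernel
  comRA := by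
    have key : ∀ k < 2, Orth.Com (⟨6, by decide⟩ : Rt chevE6) (pD ((Frob.nodePerm g : _ → _)^[k] (osD 2))) := by
      unfold Orth.Com; decide +kernel
    intro k hk
    rw [p_eq]
    exact key k hk
  comRB := by
    show ∀ k < 2, Orth.Com (⟨6, by decide⟩ : Rt chevE6) ((Frob.rootPerm g : _ → _)^[k] (⟨3, by decide⟩ : Rt chevE6))
    unfold Orth.Com; decide +kernel
  reach := by
    intro m hm s
    refine ⟨reachW m s, Fin.ext ?_⟩
    show ((Cert.E6.certified.core.pprod ((orth F hq1 hK).tw.ow (reachW m s))) ⟨6, by decide⟩).val = _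
    rw [Cert.E6.certified.actW_eq]
    refine (congrArg (fun L => Data.E6.fast.actW L 6)
      (expand_val Cert.E6.certified (orth F hq1 hK).tw Js (Js_spec F hq1 hK) (reachW m s))).trans ?_
    rw [p_eq]
    exact reachW_spec m ((node_vals m).1 hm) s

theorem conn : ∀ M : Finset (Fin (orth F hq1 hK).tw.nn), M.Nonempty → M ≠ Finset.univ →
    ∃ a ∈ M, ∃ b, b ∉ M ∧
      (orth F hq1 hK).tw.wO a * (orth F hq1 hK).tw.wO b ≠ (orth F hq1 hK).tw.wO b * (orth F hq1 hK).tw.wO a := by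
  have key : ∀ M : Finset (Fin 4), M.Nonempty → M ≠ Finset.univ →
      ∃ a ∈ M, ∃ b, b ∉ M ∧ ncOK Data.E6.fast Js a.val b.val = true := by decide +kernel
  intro M h1 h2
  obtain ⟨a, ha, b, hb, h⟩ := key M h1 h2
  exact ⟨a, ha, b, hb, nc_of_ncOK Cert.E6.certified (orth F hq1 hK).tw Js (Js_spec F hq1 hK) h⟩

theorem exists_iso : Nonempty (↥(orth F hq1 hK).tw.WT ≃* (CoxeterMatrix.F₄).Group) := by
  have key : ∀ a b : Fin 4, relOK Data.E6.fast Js a.val b.val (CoxeterMatrix.F₄ a b) = true := by decide +kernel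
  refine (orth F hq1 hK).tw.exists_coxeterIso CoxeterMatrix.F₄ (fun a b =>
    rel_of_relOK Cert.E6.certified (orth F hq1 hK).tw Js (Js_spec F hq1 hK) (key a b)) ?_
  refine (Coxeter.WeylOrder.card_group _ Coxeter.Certs.checkF4).trans ?_
  rw [
    (orth F hq1 hK).tw.card_WT (fun k => (reps.getD k []).map (toFinL (orth F hq1 hK).tw.nn)) (levelT F hq1 hK)]
  simp only [List.length_map]
  show _ = ∏ k ∈ Finset.range 4, (reps.getD k []).length
  decide +kernel

end

end Cfsg.Agent.Lib.LieTwisted.Twist.E6
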