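import Cfsg.Agent.Lib.LieTwisted.Twist.BN
import Cfsg.Agent.Lib.LieTwisted.Twist.Poincare

/-!
Twisted groups whose orbits of simple roots consist of pairwise orthogonal roots (types ²E₆ and
³D₄): root elements, the torus, and the instance of the generic theory.
-/

set_option autoImplicit false
set_option linter.unusedSectionVars false

namespace Cfsg.Agent.Lib.LieTwisted.Twist

open Cfsg.Lie ChevStructure
open scoped MatrixGroups

/-- A product of products of two families, the second commuting with the later terms of the first. -/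
theorem prod_split {M α : Type*} [Monoid M] : ∀ (L : List α), L.Nodup → ∀ (f g : α → M),
    (∀ a ∈ L, ∀ b ∈ L, a ≠ b → Commute (g a) (f b)) →
    (L.map fun a => f a * g a).prod = (L.map f).prod * (L.map g).prod
  | [], _, f, g, _ => by simp
  | a :: L, hnd, f, g, h => by
    obtain ⟨ha, hnd'⟩ := List.nodup_cons.1 hnd
    have hc : Commute (g a) (L.map f).prod := Commute.list_prod_right _ _ fun x hx => by
      rw [List.mem_map] at hx
      obtain ⟨b, hb, rfl⟩ := hx
      exact h a List.mem_cons_self b (List.mem_cons_of_mem _ hb) fun e => ha (e ▸ hb)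
    have ih := prod_split L hnd' f g fun x hx y hy => h x (List.mem_cons_of_mem _ hx) y (List.mem_cons_of_mem _ hy)
    simp only [List.map_cons, List.prod_cons, ih]
    rw [mul_assoc (f a) (g a), ← mul_assoc (g a) (L.map f).prod, hc.eq]
    simp only [mul_assoc]

/-- A cyclic shift of a commuting product. -/
theorem prod_shift {M : Type*} [Monoid M] (n : ℕ) (f : ℕ → M) (h0 : f n = f 0)
    (hc : ∀ a < n, ∀ b < n, Commute (f a) (f b)) :
    ((List.range n).map fun k => f (k + 1)).prod = ((List.range n).map f).prod := by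
  rcases n with _ | n
  · simp
  rw [List.range_succ, List.map_append, List.prod_append, List.map_singleton, List.prod_singleton, h0,
    ← List.range_succ (n := n)]
  conv_rhs => rw [List.range_succ_eq_map, List.map_cons, List.prod_cons, List.map_map]
  refine ((Commute.list_prod_right _ _ fun x hx => ?_).eq).symm
  rw [List.mem_map] at hx
  obtain ⟨b, hb, rfl⟩ := hx
  exact hc 0 (Nat.succ_pos n) (b + 1) (Nat.succ_lt_succ (List.mem_range.1 hb))

/-- The root or its negative. -/
def sd {D : ChevalleyDatum} (s : Bool) (r : Rt D) : Rt D := cond s r.rev r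

/-- The input of a twisted group with orthogonal orbits. -/
structure Orth {D : ChevalleyDatum} (C : Core D) (K : Type*) [Field K] where
  comm : CommOK C
  Θ : GL D.Idx K ≃* GL D.Idx K
  φ : K ≃+* K
  ε : Rt D → ℤ
  ε_ne : ∀ r, (ε r : K) ≠ 0
  π : Equiv.Perm (Rt D)
  ρ : Equiv.Perm (Fin D.rank)
  Θ_X : ∀ r t, Θ (C.X K r t) = C.X K (π r) ((ε r : K) * φ t)
  π_p : ∀ i, π (C.p i) = C.p (ρ i)
  π_rev : ∀ r, π r.rev = (π r).rev
  π_pos : ∀ r ∈ C.Pos, π r ∈ C.Pos
  ε_p : ∀ i, ε (C.p i) = 1 ∧ ε (C.p i).rev = 1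
  n : ℕ
  two_le : 2 ≤ n
  φ_pow : ∀ t, (φ : K → K)^[n] t = t
  φ_free : ∀ j, 0 < j → j < n → ∃ t, (φ : K → K)^[j] t ≠ t
  ρ_pow : ∀ i, (ρ : _ → _)^[n] i = i
  free : ∀ i, ρ i ≠ i → ∀ a < n, ∀ b < n, (ρ : _ → _)^[a] i = (ρ : _ → _)^[b] i → a = b
  orth : ∀ i, ∀ a < n, ∀ b < n, ∀ i' j', (ρ : _ → _)^[a] i = i' → (ρ : _ → _)^[b] i = j' → i' ≠ j' →
    A D i' (C.p j') = 0 ∧ D.commTerms (C.p i').val (C.p j').val = [] ∧
      D.commTerms (C.p i').val (C.p j').rev.val = [] ∧
      D.commTerms (C.p i').rev.val (C.p j').rev.val = []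
  nn : ℕ
  os : Fin nn → Fin D.rank
  idx : Fin D.rank → Fin nn
  idx_os : ∀ m, idx (os m) = m
  idx_ρ : ∀ i, idx (ρ i) = idx i
  cycle : ∀ i, ∃ k, k < (if ρ (os (idx i)) = os (idx i) then 1 else n) ∧ (ρ : _ → _)^[k] (os (idx i)) = i
  q : ℕ
  card_K : Nat.card K = q ^ n
  card_fix : Nat.card {t : K // φ t = t} = q
  lang : ∀ c : Fin D.rank → Kˣ,
    C.HT K (fun i => Units.map (φ : K →* K) (c (ρ.symm i))) = C.HT K c →
    ∃ d : Fin D.rank → Kˣ, (fun i => Units.map (φ : K →* K) (d (ρ.symm i))) = d ∧ C.HT K d = C.HT K c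

namespace Orth

variable {D : ChevalleyDatum} {C : Core D} {K : Type*} [Field K] (O : Orth C K)

/-- The size of an orbit. -/
def sz (i : Fin D.rank) : ℕ := if O.ρ i = i then 1 else O.n

/-- A product of root elements over an orbit. -/
def oprod (s : Bool) (i : Fin D.rank) (a : ℕ → K) : GL D.Idx K :=
  ((List.range (O.sz i)).map fun k => C.X K (sd s (C.p ((O.ρ : _ → _)^[k] i))) (a k)).prod

/-- The admissible parameters of an orbit. -/
def Valid (i : Fin D.rank) (t : K) : Prop := (O.φ : K → K)^[O.sz i] t = t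

/-- The fixed element of an orbit group. -/
def xS (s : Bool) (i : Fin D.rank) (t : K) : GL D.Idx K := O.oprod s i fun k => (O.φ : K → K)^[k] t

/-- The twisted group. -/
def G1 : Subgroup (GL D.Idx K) :=
  Subgroup.closure {g | ∃ m : Fin O.nn, ∃ (s : Bool) (t : K), O.Valid (O.os m) t ∧ g = O.xS s (O.os m) t}

/-- The action on tuples of torus parameters. -/
def τc (c : Fin D.rank → Kˣ) : Fin D.rank → Kˣ := fun i => Units.map (O.φ : K →* K) (c (O.ρ.symm i))

/-- The orbit word. -/
def Jl (m : Fin O.nn) : List (Fin D.rank) :=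
  (List.range (O.sz (O.os m))).map fun k => (O.ρ : _ → _)^[k] (O.os m)

include O

theorem sz_pos (i : Fin D.rank) : 0 < O.sz i := by
  unfold sz; have := O.two_le; split_ifs <;> omega

theorem sz_le (i : Fin D.rank) : O.sz i ≤ O.n := by
  unfold sz; have := O.two_le; split_ifs <;> omega

theorem ρ_sz (i : Fin D.rank) : (O.ρ : _ → _)^[O.sz i] i = i := by
  unfold sz; split_ifs with h
  · exact h
  · exact O.ρ_pow i

theorem orbit_inj {i : Fin D.rank} {a b : ℕ} (ha : a < O.sz i) (hb : b < O.sz i)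
    (h : (O.ρ : _ → _)^[a] i = (O.ρ : _ → _)^[b] i) : a = b := by
  unfold sz at ha hb
  split_ifs at ha hb with hi
  · omega
  · exact O.free i hi a ha b hb h

theorem sz_ρ (i : Fin D.rank) : O.sz (O.ρ i) = O.sz i := by
  simp only [sz, EmbeddingLike.apply_eq_iff_eq]

theorem commute_root (s s' : Bool) {i : Fin D.rank} {a b : ℕ} (ha : a < O.sz i) (hb : b < O.sz i) (hab : a ≠ b)
    (t u : K) : Commute (C.X K (sd s (C.p ((O.ρ : _ → _)^[a] i))) t) (C.X K (sd s' (C.p ((O.ρ : _ → _)^[b] i))) u) := by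
  set i' := (O.ρ : _ → _)^[a] i with hi'
  set j' := (O.ρ : _ → _)^[b] i with hj'
  have hne : i' ≠ j' := fun h => hab (O.orbit_inj ha hb h)
  have h1 := O.orth i a (ha.trans_le (O.sz_le i)) b (hb.trans_le (O.sz_le i)) i' j' rfl rfl hne
  have h2 := O.orth i b (hb.trans_le (O.sz_le i)) a (ha.trans_le (O.sz_le i)) j' i' rfl rfl hne.symm
  have hpp : C.p i' ≠ C.p j' := fun h => hne (C.p_inj h)
  have hpn : C.p i' ≠ (C.p j').rev := fun h =>
    (C.neg_iff_not_pos _).1 (C.rev_neg (C.p_pos j')) (h ▸ C.p_pos i')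
  have hnp : C.p j' ≠ (C.p i').rev := fun h =>
    (C.neg_iff_not_pos _).1 (C.rev_neg (C.p_pos i')) (h ▸ C.p_pos j')
  have key : ∀ r r' : Rt D, r' ≠ r → r' ≠ r.rev → D.commTerms r.val r'.val = [] → ∀ t u : K,
      Commute (C.X K r t) (C.X K r' u) := by
    intro r r' e1 e2 e3 t u
    have := O.comm.comm_X r r' e1 e2 t u
    rw [e3, List.map_nil, List.prod_nil, mul_one] at this
    exact this.symm
  cases s <;> cases s' <;> simp only [sd, cond_true, cond_false]
  · exact key _ _ hpp.symm hnp h1.2.1 t u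
  · exact key _ _ hpn.symm (fun h => hpp (Fin.rev_inj.1 h).symm) h1.2.2.1 t u
  · exact (key _ _ (fun h => hnp h.symm) (fun h => hpp (Fin.rev_inj.1 h)) h2.2.2.1 u t).symm
  · exact key _ _ (fun h => hpp (Fin.rev_inj.1 h).symm) (fun h => hnp ((Fin.rev_rev _).symm.trans (congrArg Fin.rev h) |>.trans (by rw [Fin.rev_rev]))) h1.2.2.2 t u

theorem oprod_congr {s : Bool} {i : Fin D.rank} {a b : ℕ → K} (h : ∀ k < O.sz i, a k = b k) :
    O.oprod s i a = O.oprod s i b := by
  unfold oprod
  rw [List.map_congr_left fun k hk => by rw [h k (List.mem_range.1 hk)]]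

theorem oprod_add (s : Bool) (i : Fin D.rank) (a b : ℕ → K) :
    O.oprod s i a * O.oprod s i b = O.oprod s i (fun k => a k + b k) := by
  unfold oprod
  rw [← prod_split _ List.nodup_range _ _ fun x hx y hy hxy =>
    O.commute_root s s (List.mem_range.1 hx) (List.mem_range.1 hy) hxy _ _]
  exact congrArg List.prod (List.map_congr_left fun k _ => C.X_add K _ _ _)

theorem oprod_zero (s : Bool) (i : Fin D.rank) : O.oprod s i (fun _ => 0) = 1 := by
  refine List.prod_eq_one fun x hx => ?_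
  rw [List.mem_map] at hx
  obtain ⟨k, -, rfl⟩ := hx
  exact C.X_zero K _

theorem oprod_single (s : Bool) (i : Fin D.rank) {k : ℕ} (hk : k < O.sz i) (u : K) :
    O.oprod s i (fun x => if x = k then u else 0) = C.X K (sd s (C.p ((O.ρ : _ → _)^[k] i))) u := by
  unfold oprod
  rw [List.prod_map_eq_pow_single k]
  · simp [List.count_eq_one_of_mem List.nodup_range (List.mem_range.2 hk)]
  · intro x hx _
    simp [hx, C.X_zero]

theorem φ_iter_add (k : ℕ) (t u : K) :
    (O.φ : K → K)^[k] (t + u) = (O.φ : K → K)^[k] t + (O.φ : K → K)^[k] u := by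
  induction k with
  | zero => rfl
  | succ k ih => simp only [Function.iterate_succ_apply', ih, map_add]

theorem φ_iter_mul (k : ℕ) (t u : K) :
    (O.φ : K → K)^[k] (t * u) = (O.φ : K → K)^[k] t * (O.φ : K → K)^[k] u := by
  induction k with
  | zero => rfl
  | succ k ih => simp only [Function.iterate_succ_apply', ih, map_mul]

theorem φ_iter_zero (k : ℕ) : (O.φ : K → K)^[k] 0 = 0 := Function.iterate_fixed (map_zero O.φ) k

theorem φ_iter_one (k : ℕ) : (O.φ : K → K)^[k] 1 = 1 := Function.iterate_fixed (map_one O.φ) k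

theorem φ_iter_neg (k : ℕ) (t : K) : (O.φ : K → K)^[k] (-t) = -(O.φ : K → K)^[k] t := by
  induction k with
  | zero => rfl
  | succ k ih => simp only [Function.iterate_succ_apply', ih, map_neg]

theorem xS_add (s : Bool) (i : Fin D.rank) (t u : K) : O.xS s i t * O.xS s i u = O.xS s i (t + u) := by
  rw [xS, xS, O.oprod_add]
  exact O.oprod_congr fun k _ => (O.φ_iter_add k t u).symm

theorem xS_zero (s : Bool) (i : Fin D.rank) : O.xS s i 0 = 1 := by
  rw [← O.oprod_zero s i]
  exact O.oprod_congr fun k _ => O.φ_iter_zero k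

theorem xS_inv (s : Bool) (i : Fin D.rank) (t : K) : (O.xS s i t)⁻¹ = O.xS s i (-t) :=
  inv_eq_of_mul_eq_one_right (by rw [O.xS_add, add_neg_cancel, O.xS_zero])

theorem valid_one (i : Fin D.rank) : O.Valid i 1 := O.φ_iter_one _

theorem valid_neg {i : Fin D.rank} {t : K} (h : O.Valid i t) : O.Valid i (-t) := by
  unfold Valid at h ⊢; rw [O.φ_iter_neg, h]

theorem Θ_sd (s : Bool) (i : Fin D.rank) (t : K) :
    O.Θ (C.X K (sd s (C.p i)) t) = C.X K (sd s (C.p (O.ρ i))) (O.φ t) := by
  rw [O.Θ_X]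
  cases s
  · simp [sd, O.π_p, (O.ε_p i).1]
  · simp [sd, O.π_p, O.π_rev, (O.ε_p i).2]

theorem Θ_oprod (s : Bool) (i : Fin D.rank) (a : ℕ → K) :
    O.Θ (O.oprod s i a) = O.oprod s i (fun k => if k = 0 then O.φ (a (O.sz i - 1)) else O.φ (a (k - 1))) := by
  have hpos := O.sz_pos i
  set b : ℕ → K := fun k => if k = 0 then O.φ (a (O.sz i - 1)) else
    if k = O.sz i then O.φ (a (O.sz i - 1)) else O.φ (a (k - 1)) with hb
  have e1 : O.Θ (O.oprod s i a) =
      ((List.range (O.sz i)).map fun k => C.X K (sd s (C.p ((O.ρ : _ → _)^[k + 1] i))) (b (k + 1))).prod := by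
    rw [oprod, map_list_prod, List.map_map]
    refine congrArg List.prod (List.map_congr_left fun k hk => ?_)
    rw [List.mem_range] at hk
    rw [Function.comp_apply, O.Θ_sd, Function.iterate_succ_apply', hb]
    simp only [Nat.succ_ne_zero, if_false, Nat.add_sub_cancel]
    split_ifs with h
    · rw [show O.sz i - 1 = k by omega]
    · rfl
  rw [e1, prod_shift (O.sz i) (fun k => C.X K (sd s (C.p ((O.ρ : _ → _)^[k] i))) (b k))]
  · refine O.oprod_congr fun k hk => ?_
    simp only [hb]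
    split_ifs with h1 h2
    · rfl
    · omega
    · rfl
  · simp only [O.ρ_sz, hb, Function.iterate_zero, id_eq, hpos.ne', if_false, if_pos]
  · intro x hx y hy
    by_cases hxy : x = y
    · subst hxy
      exact Commute.refl _
    · exact O.commute_root s s hx hy hxy _ _

theorem Θ_xS {s : Bool} {i : Fin D.rank} {t : K} (h : O.Valid i t) : O.Θ (O.xS s i t) = O.xS s i t := by
  have hpos := O.sz_pos i
  rw [xS, O.Θ_oprod]
  refine O.oprod_congr fun k _ => ?_
  split_ifs with hk
  · subst hk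
    rw [← Function.iterate_succ_apply' (f := (O.φ : K → K)), show (O.sz i - 1).succ = O.sz i by omega, h]
    rfl
  · rw [← Function.iterate_succ_apply' (f := (O.φ : K → K)), show (k - 1).succ = k by omega]

theorem xS_ρ {s : Bool} {i : Fin D.rank} {t : K} (h : O.Valid i t) :
    O.xS s (O.ρ i) (O.φ t) = O.xS s i t := by
  conv_rhs => rw [← O.Θ_xS h]
  rw [xS, xS, oprod, oprod, map_list_prod, List.map_map, O.sz_ρ]
  refine congrArg List.prod (List.map_congr_left fun k _ => ?_)
  rw [Function.comp_apply, O.Θ_sd, ← Function.iterate_succ_apply, ← Function.iterate_succ_apply' (f := (O.ρ : _ → _)),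
    ← Function.iterate_succ_apply' (f := (O.φ : K → K)), ← Function.iterate_succ_apply (f := (O.φ : K → K))]

theorem valid_ρ {i : Fin D.rank} {t : K} : O.Valid (O.ρ i) (O.φ t) ↔ O.Valid i t := by
  unfold Valid
  rw [O.sz_ρ, ← Function.iterate_succ_apply, Function.iterate_succ_apply', EmbeddingLike.apply_eq_iff_eq]

theorem xS_mem {s : Bool} (i : Fin D.rank) {t : K} (h : O.Valid i t) : O.xS s i t ∈ O.G1 := by
  obtain ⟨k, -, hk⟩ := O.cycle i
  generalize hos : O.idx i = m at hk
  clear hos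
  subst hk
  induction k generalizing t with
  | zero => exact Subgroup.subset_closure ⟨m, s, t, h, rfl⟩
  | succ k ih =>
    rw [Function.iterate_succ_apply'] at h ⊢
    obtain ⟨t', rfl⟩ := (O.φ).surjective t
    rw [O.valid_ρ] at h
    rw [O.xS_ρ h]
    exact ih h

theorem X_mem_group (r : Rt D) (t : K) : C.X K r t ∈ D.group K := C.X_mem_group r t

theorem G1_le : O.G1 ≤ D.group K := by
  refine (Subgroup.closure_le _).2 ?_
  rintro g ⟨m, s, t, -, rfl⟩
  refine list_prod_mem fun x hx => ?_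
  rw [List.mem_map] at hx
  obtain ⟨k, -, rfl⟩ := hx
  exact O.X_mem_group _ _

theorem G1_fix : ∀ g ∈ O.G1, O.Θ g = g := by
  intro g hg
  induction hg using Subgroup.closure_induction with
  | mem x hx => obtain ⟨m, s, t, h, rfl⟩ := hx; exact O.Θ_xS h
  | one => exact map_one _
  | mul x y _ _ hx hy => rw [map_mul, hx, hy]
  | inv x _ hx => rw [map_inv, hx]

theorem Θ_nR (i : Fin D.rank) (u : Kˣ) :
    O.Θ (C.nR K (C.p i) u) = C.nR K (C.p (O.ρ i)) (Units.map (O.φ : K →* K) u) := by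
  have hf := O.Θ_sd false i
  have ht := O.Θ_sd true i
  simp only [sd, cond_true, cond_false] at hf ht
  rw [Core.nR, Core.nR, map_mul, map_mul, hf, ht, map_neg]
  simp

theorem Θ_P (i : Fin D.rank) : O.Θ (C.P K i) = C.P K (O.ρ i) := by
  rw [Core.P, O.Θ_nR, map_one]; rfl

theorem Θ_hD (i : Fin D.rank) (u : Kˣ) :
    O.Θ (Core.hD K (C.p i) u) = Core.hD K (C.p (O.ρ i)) (Units.map (O.φ : K →* K) u) := by
  rw [← C.hR_eq, ← C.hR_eq, map_mul, O.Θ_nR, O.Θ_nR]
  congr 2
  exact Units.ext (by simp)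

theorem τc_mul (c d : Fin D.rank → Kˣ) : O.τc (c * d) = O.τc c * O.τc d := funext fun i => by simp [τc]

theorem Θ_HT (c : Fin D.rank → Kˣ) : O.Θ (C.HT K c) = C.HT K (O.τc c) := by
  classical
  let f : (Fin D.rank → Kˣ) →* GL D.Idx K :=
    (C.HThom K).comp (MonoidHom.mk' O.τc O.τc_mul)
  have e : O.Θ.toMonoidHom.comp (C.HThom K) = f := by
    refine MonoidHom.pi_ext fun i a => ?_
    show O.Θ (C.HT K (Pi.mulSingle i a)) = C.HT K (O.τc (Pi.mulSingle i a))
    have e2 : O.τc (Pi.mulSingle i a) = Pi.mulSingle (O.ρ i) (Units.map (O.φ : K →* K) a) := by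
      funext j
      obtain ⟨j, rfl⟩ := O.ρ.surjective j
      by_cases hj : j = i
      · subst hj; simp [τc]
      · simp [τc, hj]
    rw [e2, C.HT_single, C.HT_single, O.Θ_hD]
  exact DFunLike.congr_fun e c

/-- The orbit product of the `n_r(u)`. -/
theorem nprod_mem (i : Fin D.rank) (u : Kˣ) (hu : O.Valid i u) :
    ((List.range (O.sz i)).map fun k =>
      C.nR K (C.p ((O.ρ : _ → _)^[k] i)) ((Units.map (O.φ : K →* K) : Kˣ → Kˣ)^[k] u)).prod ∈ O.G1 := by
  have hv : ∀ k, ((((Units.map (O.φ : K →* K) : Kˣ → Kˣ)^[k] u : Kˣ) : K)) = (O.φ : K → K)^[k] (u : K) := by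
    intro k
    induction k with
    | zero => rfl
    | succ k ih => rw [Function.iterate_succ_apply', Function.iterate_succ_apply', Units.coe_map, ih]; rfl
  have hinv : ∀ k, (O.φ : K → K)^[k] (-(u : K)⁻¹) = -((O.φ : K → K)^[k] (u : K))⁻¹ := by
    intro k
    induction k with
    | zero => rfl
    | succ k ih => simp only [Function.iterate_succ_apply', ih, map_neg, map_inv₀]
  have hu' : O.Valid i (-(u : K)⁻¹) := by
    unfold Valid at hu ⊢; rw [hinv, hu]
  have e : ((List.range (O.sz i)).map fun k =>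
      C.nR K (C.p ((O.ρ : _ → _)^[k] i)) ((Units.map (O.φ : K →* K) : Kˣ → Kˣ)^[k] u)).prod =
      O.xS false i u * O.xS true i (-(u : K)⁻¹) * O.xS false i u := by
    simp only [xS, oprod]
    rw [← prod_split _ List.nodup_range _ _ fun a ha b hb hab =>
        O.commute_root true false (List.mem_range.1 ha) (List.mem_range.1 hb) hab _ _,
      ← prod_split _ List.nodup_range _ _ fun a ha b hb hab =>
        (O.commute_root false false (List.mem_range.1 ha) (List.mem_range.1 hb) hab _ _).mul_right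
          (O.commute_root false true (List.mem_range.1 ha) (List.mem_range.1 hb) hab _ _)]
    refine congrArg List.prod (List.map_congr_left fun k _ => ?_)
    simp only [Core.nR, sd, cond_true, cond_false, hv, hinv, Units.val_inv_eq_inv_val]
  rw [e]
  exact mul_mem (mul_mem (O.xS_mem i hu) (O.xS_mem i hu')) (O.xS_mem i hu)

theorem hprod_mem (i : Fin D.rank) (u : Kˣ) (hu : O.Valid i u) :
    ((List.range (O.sz i)).map fun k =>
      Core.hD K (C.p ((O.ρ : _ → _)^[k] i)) ((Units.map (O.φ : K →* K) : Kˣ → Kˣ)^[k] u)).prod ∈ O.G1 := by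
  have hm1 : ∀ k, (Units.map (O.φ : K →* K) : Kˣ → Kˣ)^[k] (-1) = -1 := fun k =>
    Function.iterate_fixed (Units.ext (by simp)) k
  have h2 := O.nprod_mem i (-1) (by simpa using O.valid_neg (O.valid_one i))
  simp only [hm1] at h2
  have hc : ∀ a < O.sz i, ∀ b < O.sz i, a ≠ b → ∀ v w : Kˣ,
      Commute (C.nR K (C.p ((O.ρ : _ → _)^[a] i)) v) (C.nR K (C.p ((O.ρ : _ → _)^[b] i)) w) := by
    intro a ha b hb hab v w
    have hff := O.commute_root false false ha hb hab
    have hft := O.commute_root false true ha hb hab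
    have htf := O.commute_root true false ha hb hab
    have htt := O.commute_root true true ha hb hab
    simp only [sd, cond_true, cond_false] at hff hft htf htt
    unfold Core.nR
    exact ((((hff _ _).mul_right (hft _ _)).mul_right (hff _ _)).mul_left
      (((htf _ _).mul_right (htt _ _)).mul_right (htf _ _))).mul_left
      (((hff _ _).mul_right (hft _ _)).mul_right (hff _ _))
  have e := prod_split _ (List.nodup_range (n := O.sz i))
    (fun k => C.nR K (C.p ((O.ρ : _ → _)^[k] i)) ((Units.map (O.φ : K →* K) : Kˣ → Kˣ)^[k] u))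
    (fun k => C.nR K (C.p ((O.ρ : _ → _)^[k] i)) (-1))
    fun a ha b hb hab => hc a (List.mem_range.1 ha) b (List.mem_range.1 hb) hab _ _
  rw [List.map_congr_left fun k _ => (C.hR_eq K _ _).symm, e]
  exact mul_mem (O.nprod_mem i u hu) h2

theorem idx_iterate (i : Fin D.rank) (k : ℕ) : O.idx ((O.ρ : _ → _)^[k] i) = O.idx i := by
  induction k with
  | zero => rfl
  | succ k ih => rw [Function.iterate_succ_apply', O.idx_ρ, ih]

theorem mem_Jl (i : Fin D.rank) (m : Fin O.nn) : i ∈ O.Jl m ↔ O.idx i = m := by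
  simp only [Jl, List.mem_map, List.mem_range]
  constructor
  · rintro ⟨k, -, rfl⟩
    rw [O.idx_iterate, O.idx_os]
  · rintro rfl
    exact O.cycle i

theorem Jl_nodup (m : Fin O.nn) : (O.Jl m).Nodup :=
  List.Nodup.map_on (fun a ha b hb h => O.orbit_inj (List.mem_range.1 ha) (List.mem_range.1 hb) h)
    List.nodup_range

theorem Jl_length (m : Fin O.nn) : (O.Jl m).length = O.sz (O.os m) := by simp [Jl]

theorem A_orth {m : Fin O.nn} {a b : Fin D.rank} (ha : a ∈ O.Jl m) (hb : b ∈ O.Jl m) (h : a ≠ b) :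
    A D a (C.p b) = 0 := by
  simp only [Jl, List.mem_map, List.mem_range] at ha hb
  obtain ⟨x, hx, rfl⟩ := ha
  obtain ⟨y, hy, rfl⟩ := hb
  exact (O.orth _ x (hx.trans_le (O.sz_le _)) y (hy.trans_le (O.sz_le _)) _ _ rfl rfl h).1

theorem pprod_Jl (m : Fin O.nn) : ∀ L : List (Fin D.rank), L.Nodup → (∀ a ∈ L, a ∈ O.Jl m) →
    (∀ j ∈ O.Jl m, C.pprod L (C.p j) = if j ∈ L then (C.p j).rev else C.p j) ∧
    (∀ r ∈ C.Pos, (∀ j ∈ O.Jl m, r ≠ C.p j) →
      C.pprod L r ∈ C.Pos ∧ ∀ j ∈ O.Jl m, C.pprod L r ≠ C.p j)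
  | [], _, _ => ⟨fun j _ => by simp [C.pprod_nil], fun r hr h => ⟨hr, h⟩⟩
  | a :: L, hnd, hsub => by
    obtain ⟨haL, hnd'⟩ := List.nodup_cons.1 hnd
    obtain ⟨ih1, ih2⟩ := pprod_Jl m L hnd' fun x hx => hsub x (List.mem_cons_of_mem _ hx)
    have ha := hsub a List.mem_cons_self
    have hfix : ∀ j ∈ O.Jl m, j ≠ a → C.w a (C.p j) = C.p j := fun j hj hne => C.v_inj (by
      rw [C.v_w, O.A_orth ha hj hne.symm, zero_smul, sub_zero])
    refine ⟨fun j hj => ?_, fun r hr h => ?_⟩
    · rw [C.pprod_cons, Equiv.Perm.mul_apply, Core.sref_apply, ih1 j hj]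
      by_cases hja : j = a
      · subst hja; simp [haL, C.w_p]
      · simp only [List.mem_cons, hja, false_or]
        split_ifs
        · rw [C.w_rev, hfix j hj hja]
        · exact hfix j hj hja
    · obtain ⟨hp, hne⟩ := ih2 r hr h
      rw [C.pprod_cons, Equiv.Perm.mul_apply, Core.sref_apply]
      refine ⟨C.w_pos hp (hne a ha), fun j hj e => ?_⟩
      have e' := congrArg (C.w a) e
      rw [C.w_w] at e'
      by_cases hja : j = a
      · rw [hja, C.w_p] at e'
        exact (C.neg_iff_not_pos _).1 (C.rev_neg (C.p_pos a)) (e' ▸ hp)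
      · exact hne j hj (e'.trans (hfix j hj hja))

theorem inv'_Jl (m : Fin O.nn) : C.inv' (C.pprod (O.Jl m)) = C.p '' {j | j ∈ O.Jl m} := by
  obtain ⟨h1, h2⟩ := O.pprod_Jl m _ (O.Jl_nodup m) fun a ha => ha
  ext r
  constructor
  · rintro ⟨hr, hn⟩
    by_contra hc
    refine (C.neg_iff_not_pos _).1 hn (h2 r hr fun j hj e => hc ⟨j, hj, e.symm⟩).1
  · rintro ⟨j, hj, rfl⟩
    have hj' : j ∈ O.Jl m := hj
    exact ⟨C.p_pos j, by rw [h1 j hj', if_pos hj']; exact C.rev_neg (C.p_pos j)⟩

theorem len_Jl (m : Fin O.nn) : C.len (C.pprod (O.Jl m)) = O.sz (O.os m) := by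
  classical
  rw [Core.len, O.inv'_Jl, Set.ncard_image_of_injective _ C.p_inj, ← O.Jl_length m,
    ← List.toFinset_card_of_nodup (O.Jl_nodup m), ← Set.ncard_coe_finset]
  congr 1
  ext j; simp

theorem Jl_inv (m : Fin O.nn) : C.pprod (O.Jl m) * C.pprod (O.Jl m) = 1 := by
  obtain ⟨h1, h2⟩ := O.pprod_Jl m _ (O.Jl_nodup m) fun a ha => ha
  rw [← C.pprod_append]
  by_contra hne
  obtain ⟨i, hi⟩ := C.exists_descent hne
  rw [C.pprod_append, Equiv.Perm.mul_apply] at hi
  by_cases hJ : i ∈ O.Jl m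
  · rw [h1 i hJ, if_pos hJ, C.pprod_rev, h1 i hJ, if_pos hJ, C.rev_rev] at hi
    exact (C.neg_iff_not_pos _).1 hi (C.p_pos i)
  · obtain ⟨hp, hne'⟩ := h2 (C.p i) (C.p_pos i) fun j hj e => hJ (C.p_inj e ▸ hj)
    exact (C.neg_iff_not_pos _).1 hi (h2 _ hp hne').1

theorem oprod_mem (m : Fin O.nn) (a : ℕ → K) :
    O.oprod false (O.os m) a ∈ C.US K (C.inv' (C.pprod (O.Jl m))) := by
  refine list_prod_mem fun x hx => ?_
  rw [List.mem_map] at hx
  obtain ⟨k, hk, rfl⟩ := hx
  rw [List.mem_range] at hk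
  refine C.X_mem_US K ?_ _
  rw [O.inv'_Jl]
  exact ⟨(O.ρ : _ → _)^[k] (O.os m), List.mem_map.2 ⟨k, List.mem_range.2 hk, rfl⟩, rfl⟩

theorem exists_oprod (m : Fin O.nn) {g : GL D.Idx K} (hg : g ∈ C.US K (C.inv' (C.pprod (O.Jl m)))) :
    ∃ a, g = O.oprod false (O.os m) a := by
  induction hg using Subgroup.closure_induction with
  | mem x hx =>
    obtain ⟨r, hr, t, rfl⟩ := hx
    rw [O.inv'_Jl] at hr
    obtain ⟨j, hj, rfl⟩ := hr
    obtain ⟨k, hk, rfl⟩ := List.mem_map.1 hj
    exact ⟨_, (O.oprod_single false (O.os m) (List.mem_range.1 hk) t).symm⟩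
  | one => exact ⟨_, (O.oprod_zero _ _).symm⟩
  | mul x y _ _ hx hy =>
    obtain ⟨a, rfl⟩ := hx
    obtain ⟨b, rfl⟩ := hy
    exact ⟨_, O.oprod_add _ _ a b⟩
  | inv x _ hx =>
    obtain ⟨a, rfl⟩ := hx
    refine ⟨fun k => -a k, inv_eq_of_mul_eq_one_right ?_⟩
    rw [O.oprod_add, ← O.oprod_zero false (O.os m)]
    exact O.oprod_congr fun k _ => add_neg_cancel _

section Finite

variable [Finite K]

theorem oprod_inj (m : Fin O.nn) {a b : ℕ → K} (h : O.oprod false (O.os m) a = O.oprod false (O.os m) b) :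
    ∀ k < O.sz (O.os m), a k = b k := by
  classical
  let ext0 : (Fin (O.sz (O.os m)) → K) → ℕ → K := fun a k => if h : k < O.sz (O.os m) then a ⟨k, h⟩ else 0
  let f : (Fin (O.sz (O.os m)) → K) → C.US K (C.inv' (C.pprod (O.Jl m))) := fun a =>
    ⟨O.oprod false (O.os m) (ext0 a), O.oprod_mem m _⟩
  have hsurj : Function.Surjective f := fun ⟨g, hg⟩ => by
    obtain ⟨a, rfl⟩ := O.exists_oprod m hg
    exact ⟨fun k => a k, Subtype.ext (O.oprod_congr fun k hk => by simp [ext0, hk])⟩
  have hcard : Nat.card (Fin (O.sz (O.os m)) → K) = Nat.card ↥(C.US K (C.inv' (C.pprod (O.Jl m)))) := by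
    rw [Nat.card_fun, Nat.card_eq_fintype_card (α := Fin _), Fintype.card_fin,
      O.comm.card_US_inv' ⟨C.pprod (O.Jl m), C.pprod_mem_WG _⟩, O.len_Jl]
  have hinj := ((Nat.bijective_iff_surjective_and_card f).2 ⟨hsurj, hcard⟩).1
  have hext : ∀ c : ℕ → K, O.oprod false (O.os m) (ext0 fun k => c k) = O.oprod false (O.os m) c :=
    fun c => O.oprod_congr fun k hk => dif_pos hk
  have e : f (fun k => a k) = f (fun k => b k) := Subtype.ext (by simp only [f, hext]; exact h)
  have h1 : (fun k : Fin (O.sz (O.os m)) => a k.1) = fun k => b k.1 := hinj e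
  intro k hk
  have h2 := congrFun h1 ⟨k, hk⟩
  exact h2

theorem fixed_eq_xS (m : Fin O.nn) {g : GL D.Idx K} (hg : g ∈ C.US K (C.inv' (C.pprod (O.Jl m))))
    (hf : O.Θ g = g) : ∃ t, O.Valid (O.os m) t ∧ g = O.xS false (O.os m) t := by
  obtain ⟨a, rfl⟩ := O.exists_oprod m hg
  rw [O.Θ_oprod] at hf
  have e := O.oprod_inj m hf
  have hpos := O.sz_pos (O.os m)
  have hstep : ∀ k < O.sz (O.os m), a k = (O.φ : K → K)^[k] (a 0) := by
    intro k hk
    induction k with
    | zero => rfl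
    | succ k ih =>
      have := e (k + 1) hk
      simp only [Nat.succ_ne_zero, if_false, Nat.add_sub_cancel] at this
      rw [← this, ih (by omega), Function.iterate_succ_apply']
  refine ⟨a 0, ?_, O.oprod_congr hstep⟩
  have h0 := e 0 hpos
  simp only [if_pos] at h0
  rw [hstep _ (by omega), ← Function.iterate_succ_apply' (f := (O.φ : K → K)),
    show (O.sz (O.os m) - 1).succ = O.sz (O.os m) by omega] at h0
  exact h0

theorem xS_inj (m : Fin O.nn) {t u : K} (h : O.xS false (O.os m) t = O.xS false (O.os m) u) : t = u :=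
  O.oprod_inj m h 0 (O.sz_pos _)

theorem card_valid (i : Fin D.rank) : Nat.card {t : K // O.Valid i t} = O.q ^ O.sz i := by
  unfold Valid sz
  split_ifs
  · simpa using O.card_fix
  · rw [Nat.card_congr (Equiv.subtypeUnivEquiv O.φ_pow), O.card_K]

theorem card_base (m : Fin O.nn) :
    Nat.card {u : GL D.Idx K // u ∈ C.US K (C.inv' (C.pprod (O.Jl m))) ∧ O.Θ u = u} =
      O.q ^ C.len (C.pprod (O.Jl m)) := by
  rw [O.len_Jl, ← O.card_valid]
  refine (Nat.card_congr (Equiv.ofBijective (fun t : {t : K // O.Valid (O.os m) t} =>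
    (⟨O.xS false (O.os m) t.1, O.oprod_mem m _, O.Θ_xS t.2⟩ :
      {u : GL D.Idx K // u ∈ C.US K (C.inv' (C.pprod (O.Jl m))) ∧ O.Θ u = u})) ⟨?_, ?_⟩)).symm
  · intro t u h
    exact Subtype.ext (O.xS_inj m (congrArg Subtype.val h))
  · rintro ⟨g, hg, hf⟩
    obtain ⟨t, ht, rfl⟩ := O.fixed_eq_xS m hg hf
    exact ⟨⟨t, ht⟩, rfl⟩

theorem HT_fixed_mem (c : Fin D.rank → Kˣ) (hc : O.τc c = c) : C.HT K c ∈ O.G1 := by
  classical
  have hit : ∀ i k, c ((O.ρ : _ → _)^[k] i) = (Units.map (O.φ : K →* K) : Kˣ → Kˣ)^[k] (c i) := by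
    intro i k
    induction k with
    | zero => rfl
    | succ k ih =>
      rw [Function.iterate_succ_apply', Function.iterate_succ_apply', ← ih]
      have := congrFun hc (O.ρ ((O.ρ : _ → _)^[k] i))
      simp only [τc, Equiv.symm_apply_apply] at this
      exact this.symm
  have piece : ∀ i, C.HT K (fun j => if O.idx j = O.idx i then c j else 1) ∈ O.G1 := by
    intro i
    set i0 := O.os (O.idx i) with hi0
    have hval : ∀ u : Kˣ, ∀ k, (((Units.map (O.φ : K →* K) : Kˣ → Kˣ)^[k] u : Kˣ) : K) = (O.φ : K → K)^[k] (u : K) := by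
      intro u k
      induction k with
      | zero => rfl
      | succ k ih => rw [Function.iterate_succ_apply', Function.iterate_succ_apply', Units.coe_map, ih]; rfl
    have hv : O.Valid i0 (c i0 : K) := by
      unfold Valid
      rw [← hval, ← hit, O.ρ_sz]
    have hsum : ∀ L : List (Fin D.rank), L.Nodup →
        (L.map fun j => Pi.mulSingle j (c j)).prod = fun k => if k ∈ L then c k else 1 := by
      intro L
      induction L with
      | nil => intro; rfl
      | cons a L ih =>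
        intro hnd
        obtain ⟨haL, hnd'⟩ := List.nodup_cons.1 hnd
        rw [List.map_cons, List.prod_cons, ih hnd']
        funext k
        by_cases hk : k = a
        · subst hk; simp [haL]
        · simp [hk]
    have e : (fun j => if O.idx j = O.idx i then c j else 1) = ((O.Jl (O.idx i)).map fun j => Pi.mulSingle j (c j)).prod := by
      rw [hsum _ (O.Jl_nodup _)]
      funext j
      simp only [O.mem_Jl]
    rw [e, show C.HT K _ = C.HThom K _ from rfl, map_list_prod, List.map_map, Jl, List.map_map]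
    refine Eq.mp (congrArg (· ∈ O.G1) (congrArg List.prod (List.map_congr_left fun k _ => ?_))) (O.hprod_mem i0 (c i0) hv)
    show _ = C.HT K (Pi.mulSingle _ _)
    rw [C.HT_single, hit]
  suffices ∀ S : Finset (Fin O.nn), C.HT K (fun j => if O.idx j ∈ S then c j else 1) ∈ O.G1 by
    simpa using this Finset.univ
  intro S
  induction S using Finset.induction_on with
  | empty => simp [show (fun _ : Fin D.rank => (1 : Kˣ)) = 1 from rfl, C.HT_one, one_mem]
  | insert m S hm ih =>
    have e : (fun j => if O.idx j ∈ insert m S then c j else 1) =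
        (fun j => if O.idx j = O.idx (O.os m) then c j else 1) * fun j => if O.idx j ∈ S then c j else 1 := by
      funext j
      rw [O.idx_os]
      by_cases hj : O.idx j = m
      · simp [hj, hm]
      · simp [hj]
    rw [e, ← C.HT_mul]
    exact mul_mem (piece _) ih

theorem diag_fixed_mem {h : GL D.Idx K} (hh : h ∈ D.diagonalSubgroup K) (hf : O.Θ h = h) : h ∈ O.G1 := by
  obtain ⟨c, rfl⟩ := C.mem_diagonal_iff.1 hh
  rw [O.Θ_HT] at hf
  obtain ⟨d, hd, e⟩ := O.lang c hf
  rw [← e]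
  exact O.HT_fixed_mem d hd

theorem P_orbit_mem (m : Fin O.nn) : C.wprod K (O.Jl m) ∈ O.G1 := by
  have h1 : ∀ k, (Units.map (O.φ : K →* K) : Kˣ → Kˣ)^[k] 1 = 1 := fun k =>
    Function.iterate_fixed (map_one _) k
  have := O.nprod_mem (O.os m) 1 (by simpa using O.valid_one _)
  simp only [h1] at this
  rw [Core.wprod, Jl, List.map_map]
  exact this

/-- The twisted group as an instance of the generic theory. -/
def tw : Tw C K where
  comm := O.comm
  τ := O.Θ
  τ_mul g _ h _ := map_mul O.Θ g h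
  π := O.π
  ρ := O.ρ
  f r t := (O.ε r : K) * O.φ t
  f_ne r t ht := mul_ne_zero (O.ε_ne r) ((map_ne_zero O.φ).2 ht)
  τ_X := O.Θ_X
  π_p := O.π_p
  π_rev := O.π_rev
  π_pos := O.π_pos
  τ_P := O.Θ_P
  τ_HT c := ⟨_, O.Θ_HT c⟩
  W := O.G1
  W_le := O.G1_le
  W_fix := O.G1_fix
  nn := O.nn
  J := O.Jl
  idx := O.idx
  mem_J := O.mem_Jl
  idx_ρ := O.idx_ρ
  cycle i j h := by
    obtain ⟨a, ha, ha'⟩ := O.cycle i
    obtain ⟨b, -, hb'⟩ := O.cycle j
    refine ⟨b + (O.n - a), ?_⟩
    have han : a ≤ O.n := by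
      have := O.two_le
      split_ifs at ha <;> omega
    conv_lhs => rw [← ha']
    rw [← Function.iterate_add_apply, show b + (O.n - a) + a = b + O.n by omega, Function.iterate_add_apply,
      O.ρ_pow, h, hb']
  J_ne m := by
    intro e
    have := congrArg List.length e
    rw [O.Jl_length] at this
    exact (O.sz_pos (O.os m)).ne' this
  J_inv := O.Jl_inv
  J_neg m j hj := by
    rw [(O.pprod_Jl m _ (O.Jl_nodup m) fun a ha => ha).1 j hj, if_pos hj]
    exact C.rev_neg (C.p_pos j)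
  nO m := C.wprod K (O.Jl m)
  nO_mem := O.P_orbit_mem
  nO_mono m := C.wprod_mem_monomial _
  nO_acts m := C.acts_wprod K _
  d := 1
  q := O.q
  base_mem m u hu hf := by
    obtain ⟨t, ht, rfl⟩ := O.fixed_eq_xS m hu hf
    exact O.xS_mem _ ht
  base_dvd _ := one_dvd _
  base_card m := by rw [Nat.div_one]; exact O.card_base m
  diag_mem h hh hf := O.diag_fixed_mem hh hf

/-- The fixed tuples. -/
def TF : Subgroup (Fin D.rank → Kˣ) where
  carrier := {c | O.τc c = c}
  one_mem' := funext fun i => by simp [τc]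
  mul_mem' := fun {a b} ha hb => by
    show O.τc (a * b) = a * b
    rw [O.τc_mul, ha, hb]
  inv_mem' := fun {a} ha => by
    show O.τc a⁻¹ = a⁻¹
    funext i
    have := congrFun ha i
    simp only [τc, Pi.inv_apply, map_inv] at this ⊢
    rw [this]

/-- The order of `H¹` through the fixed tuples. -/
theorem card_diag : Nat.card ↥(D.diagonalSubgroup K ⊓ O.G1) * Nat.card ↥((C.HThom K).comp O.TF.subtype).ker =
    Nat.card O.TF := by
  have e : ((C.HThom K).comp O.TF.subtype).range = D.diagonalSubgroup K ⊓ O.G1 := by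
    refine le_antisymm ?_ fun h hh => ?_
    · rintro _ ⟨c, rfl⟩
      exact ⟨C.HT_mem_diagonal _, O.HT_fixed_mem _ c.2⟩
    · obtain ⟨c, rfl⟩ := C.mem_diagonal_iff.1 hh.1
      have hf := O.G1_fix _ hh.2
      rw [O.Θ_HT] at hf
      obtain ⟨d, hd, e⟩ := O.lang c hf
      exact ⟨⟨d, hd⟩, e⟩
  rw [← e, ← Subgroup.index_ker]
  exact Subgroup.index_mul_card _

end Finite

end Orth

end Cfsg.Agent.Lib.LieTwisted.Twist
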