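import Cfsg.Agent.Lib.LieTwisted.Twist.F4
import Mathlib.GroupTheory.SpecificGroups.Dihedral

/-!
Order, (B,N)-pair, Weyl group, perfectness and simplicity of ²F₄(q).
-/

set_option autoImplicit false
set_option maxRecDepth 100000

namespace Cfsg.Agent.Lib.LieTwisted.Twist

/-- A surjection from a dihedral group given by two involutions. -/
theorem exists_dihedralHom {W : Type*} [Group W] {n : ℕ} [NeZero n] (a b : W) (ha : a * a = 1) (hb : b * b = 1)
    (hab : (a * b) ^ n = 1) : ∃ f : DihedralGroup n →* W, a ∈ f.range ∧ b ∈ f.range := by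
  set x := a * b with hx
  let P : ZMod n → W := fun i => x ^ i.val
  have Padd : ∀ i j, P (i + j) = P i * P j := fun i j => by
    show x ^ (i + j).val = x ^ i.val * x ^ j.val
    rw [← pow_add, ZMod.val_add, ← pow_eq_pow_mod _ hab]
  have Pneg : ∀ i, P (-i) = (P i)⁻¹ := fun i => by
    refine eq_inv_of_mul_eq_one_left ?_
    rw [← Padd, neg_add_cancel]
    show x ^ (0 : ZMod n).val = 1
    rw [ZMod.val_zero, pow_zero]
  have hainv : a⁻¹ = a := inv_eq_of_mul_eq_one_right ha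
  have hbinv : b⁻¹ = b := inv_eq_of_mul_eq_one_right hb
  have conj : ∀ i, a * P i = (P i)⁻¹ * a := fun i => by
    have h1 : a * x * a⁻¹ = x⁻¹ := by
      rw [hx, mul_inv_rev, hainv, hbinv, ← mul_assoc, ha, one_mul]
    show a * x ^ i.val = (x ^ i.val)⁻¹ * a
    rw [← inv_pow, ← h1, conj_pow, inv_mul_cancel_right]
  let f : DihedralGroup n → W := fun g => match g with
    | .r i => P i
    | .sr i => a * P i
  refine ⟨MonoidHom.mk' f ?_, ?_, ?_⟩
  · rintro (i | i) (j | j)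
    · exact Padd i j
    · show a * P (j - i) = P i * (a * P j)
      rw [sub_eq_add_neg, add_comm, Padd, Pneg, ← mul_assoc, ← mul_assoc, ← Pneg, conj, Pneg, inv_inv]
    · show a * P (i + j) = a * P i * P j
      rw [Padd, mul_assoc]
    · show P (j - i) = a * P i * (a * P j)
      rw [conj, mul_assoc, ← mul_assoc a a, ha, one_mul, sub_eq_add_neg, add_comm, Padd, Pneg]
  · refine ⟨.sr 0, ?_⟩
    show a * x ^ (0 : ZMod n).val = a
    rw [ZMod.val_zero, pow_zero, mul_one]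
  · refine ⟨.sr 1, ?_⟩
    show a * x ^ (1 : ZMod n).val = b
    by_cases h : n = 1
    · subst h
      rw [Subsingleton.elim (1 : ZMod 1) 0, ZMod.val_zero, pow_zero, mul_one]
      rw [pow_one] at hab
      exact hainv.symm.trans (inv_eq_of_mul_eq_one_right hab)
    · rw [ZMod.val_one'' h, pow_one, hx, ← mul_assoc, ha, one_mul]

end Cfsg.Agent.Lib.LieTwisted.Twist

namespace Cfsg.Agent.Lib.LieTwisted.Twist.F4

open Cfsg.Lie ChevStructure
open scoped MatrixGroups

variable {K : Type*} [Field K] [Fintype K]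

theorem exists_WT_iso {θ : K ≃+* K} {e : ℕ} (F : Th θ e) :
    Nonempty (↥(tw F).WT ≃* DihedralGroup 8) := by
  have key : ∀ a b : Fin 2, relOK Data.F4.fast Js a.val b.val (if a = b then 1 else 8) = true := by decide +kernel
  have rel := fun a b => rel_of_relOK Cert.F4.certified (tw F) Js (Js_spec F) (a := a) (b := b) (key a b)
  obtain ⟨g, ha, hb⟩ := exists_dihedralHom (n := 8) (W := ↥(tw F).WT)
    ⟨_, (tw F).wO_mem (0 : Fin 2)⟩ ⟨_, (tw F).wO_mem (1 : Fin 2)⟩
    (Subtype.ext ((tw F).J_inv (0 : Fin 2))) (Subtype.ext ((tw F).J_inv (1 : Fin 2)))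
    (Subtype.ext (rel (0 : Fin 2) (1 : Fin 2)))
  have hsurj : Function.Surjective g := by
    rintro ⟨σ, hσ⟩
    have hle : (tw F).WTk (tw F).nn ≤ g.range.map (tw F).WT.subtype := (Subgroup.closure_le _).2 fun x ⟨m, _, e⟩ => by
      subst e
      rcases Fin.exists_fin_two.1 ⟨(m : Fin 2), rfl⟩ with h | h
      · subst h; exact ⟨_, ha, rfl⟩
      · subst h; exact ⟨_, hb, rfl⟩
    rw [(tw F).WTk_nn] at hle
    obtain ⟨x, ⟨y, hy⟩, hx⟩ := hle hσ
    exact ⟨y, hy.trans (Subtype.ext hx)⟩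
  refine ⟨(MulEquiv.ofBijective g ((Nat.bijective_iff_surjective_and_card g).2 ⟨hsurj, ?_⟩)).symm⟩
  rw [DihedralGroup.nat_card, card_WT F]

variable {m : ℕ} (hK : Fintype.card K = 2 ^ (2 * m + 1))

include hK

theorem card_posU : Nat.card ↥(chevF4.posUnipotent K ⊓ Cfsg.Lie.twistedF4 K (2 ^ m)) =
    (2 ^ (2 * m + 1)) ^ 12 := by
  obtain ⟨θ, F⟩ := exists_th hK
  rw [C.posUnipotent_eq]
  refine ((tw F).card_posU).trans ?_
  show Fintype.card K ^ (48 / 2 / 2) = _
  rw [hK]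

theorem card_H : Nat.card ↥(chevF4.diagonalSubgroup K ⊓ Cfsg.Lie.twistedF4 K (2 ^ m)) =
    (2 ^ (2 * m + 1) - 1) ^ 2 := by
  obtain ⟨θ, F⟩ := exists_th hK
  refine (card_diag F).trans ?_
  rw [Nat.card_units, Nat.card_eq_fintype_card, hK]

theorem card_twisted : Nat.card ↥(Cfsg.Lie.twistedF4 K (2 ^ m)) =
    (2 ^ (2 * m + 1)) ^ 12 * (2 ^ (2 * m + 1) - 1) * ((2 ^ (2 * m + 1)) ^ 3 + 1) *
      ((2 ^ (2 * m + 1)) ^ 4 - 1) * ((2 ^ (2 * m + 1)) ^ 6 + 1) := by
  obtain ⟨θ, F⟩ := exists_th hK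
  have hH := card_H hK
  set T := tw F with hT
  have h := T.card_W_eq (fun k => (reps.getD k []).map (toFinL T.nn)) (levelT F)
  have hl : ∀ L : List ℕ, (∀ i ∈ L, i < T.nn) → (T.ow (toFinL T.nn L)).length = (expand Js L).length := by
    intro L hL
    have := congrArg List.length (expand_val Cert.F4.certified T Js (Js_spec F) (toFinL T.nn L))
    rw [List.length_map, toFinL_val hL] at this
    exact this
  have hreps : ∀ R ∈ reps, ∀ L ∈ R, ∀ i ∈ L, i < 2 := by decide +kernel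
  have hprod : (∏ k ∈ Finset.range T.nn,
      (((reps.getD k []).map (toFinL T.nn)).map fun L => T.q ^ ((T.ow L).length / T.d)).sum) =
      ∏ k ∈ Finset.range 2,
        (((reps.getD k []).map fun L => (expand Js L).length / 2).map fun n => Fintype.card K ^ n).sum := by
    refine Finset.prod_congr rfl fun k hk => ?_
    rw [List.map_map, List.map_map]
    refine congrArg List.sum (List.map_congr_left fun L hL => ?_)
    have hk' : k < reps.length := Finset.mem_range.1 hk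
    rw [List.getD_eq_getElem _ _ hk'] at hL
    show Fintype.card K ^ ((T.ow (toFinL T.nn L)).length / 2) = Fintype.card K ^ ((expand Js L).length / 2)
    rw [hl L (hreps _ (List.getElem_mem hk') L hL)]
  have hlens : (reps.getD 0 []).map (fun L => (expand Js L).length / 2) = [0, 1] ∧
      (reps.getD 1 []).map (fun L => (expand Js L).length / 2) = [0, 2, 3, 5, 6, 8, 9, 11] := by decide +kernel
  rw [hprod, Finset.prod_range_succ, Finset.prod_range_succ, Finset.prod_range_zero, one_mul, hlens.1, hlens.2,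
    hK] at h
  simp only [List.map_cons, List.map_nil, List.sum_cons, List.sum_nil] at h
  have hN : T.q ^ (chevF4.nroots / 2 / T.d) = (2 ^ (2 * m + 1)) ^ 12 := by
    show Fintype.card K ^ (48 / 2 / 2) = _
    rw [hK]
  refine h.trans ?_
  rw [hN, show Nat.card ↥(chevF4.diagonalSubgroup K ⊓ T.W) = _ from hH]
  generalize hq : 2 ^ (2 * m + 1) = q
  have h1 : 1 ≤ q := hq ▸ Nat.one_le_two_pow
  have h4 : 1 ≤ q ^ 4 := Nat.one_le_pow _ _ (by omega)
  zify [h1, h4]
  ring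

theorem exists_bnPair : ∃ P : Cfsg.BNPair ↥(Cfsg.Lie.twistedF4 K (2 ^ m)),
    P.B = (chevF4.borelSubgroup K ⊓ Cfsg.Lie.twistedF4 K (2 ^ m)).subgroupOf (Cfsg.Lie.twistedF4 K (2 ^ m)) ∧
    P.N = (chevF4.monomialSubgroup K ⊓ Cfsg.Lie.twistedF4 K (2 ^ m)).subgroupOf (Cfsg.Lie.twistedF4 K (2 ^ m)) := by
  obtain ⟨θ, F⟩ := exists_th hK
  exact ⟨(tw F).bnPair Fintype.one_lt_card, rfl, rfl⟩

theorem exists_N_quot : ∃ φ : ↥(chevF4.monomialSubgroup K ⊓ Cfsg.Lie.twistedF4 K (2 ^ m)) →* DihedralGroup 8,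
    Function.Surjective φ ∧ φ.ker = (chevF4.diagonalSubgroup K ⊓ Cfsg.Lie.twistedF4 K (2 ^ m)).subgroupOf
      (chevF4.monomialSubgroup K ⊓ Cfsg.Lie.twistedF4 K (2 ^ m)) := by
  obtain ⟨θ, F⟩ := exists_th hK
  obtain ⟨i⟩ := exists_WT_iso F
  exact (tw F).exists_N_quot i

theorem perfect_q (hm : 1 ≤ m) : commutator ↥(Cfsg.Lie.twistedF4 K (2 ^ m)) = ⊤ := by
  obtain ⟨θ, F⟩ := exists_th hK
  refine perfect F ?_
  rw [hK]
  calc 2 < 2 ^ 3 := by norm_num
    _ ≤ _ := Nat.pow_le_pow_right (by norm_num) (by omega)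

theorem core_trivial :
    ((chevF4.borelSubgroup K ⊓ Cfsg.Lie.twistedF4 K (2 ^ m)).subgroupOf
      (Cfsg.Lie.twistedF4 K (2 ^ m))).normalCore = ⊥ := by
  obtain ⟨θ, F⟩ := exists_th hK
  exact (tw F).core_trivial (faithful F)

theorem simple (hm : 1 ≤ m) :
    IsSimpleGroup ↥(Cfsg.Lie.twistedF4 K (2 ^ m)) ∧ ¬ IsMulCommutative ↥(Cfsg.Lie.twistedF4 K (2 ^ m)) := by
  obtain ⟨θ, F⟩ := exists_th hK
  have : NeZero (tw F).nn := ⟨(by decide : (2 : ℕ) ≠ 0)⟩
  exact (tw F).simple_of_perfect Fintype.one_lt_card (conn F) (faithful F) (perfect_q hK hm)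

end Cfsg.Agent.Lib.LieTwisted.Twist.F4
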