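import Cfsg.Agent.Lib.LieTwisted.Twist.F4Root

/-!
²F₄(q) as an instance of the generic twisted theory: the torus, the two rank-one unipotent groups,
the twisted Weyl group, and perfectness for q > 2.
-/

set_option autoImplicit false
set_option maxRecDepth 100000
set_option linter.unusedSectionVars false

namespace Cfsg.Agent.Lib.LieTwisted.Twist.F4

open Cfsg.Lie ChevStructure
open scoped MatrixGroups commutatorElement

/-- The nodes. -/
def nd (i : ℕ) (h : i < 4 := by decide) : Fin chevF4.rank := ⟨i, h⟩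

/-- The orbit words. -/
def Jw : Fin 2 → List (Fin chevF4.rank) := ![[nd 0, nd 3], [nd 2, nd 1, nd 2, nd 1]]

/-- The inversion sets of the orbit words. -/
def Jr : Fin 2 → List (Rt chevF4) := ![[R 24, R 33], [R 25, R 27, R 28, R 30]]

theorem Jr_sorted : ∀ m, (Jr m).Pairwise (· < ·) := by decide +kernel

theorem Jr_pos' : ∀ m, ∀ r ∈ Jr m, chevF4.nroots ≤ 2 * r.val := by decide +kernel

theorem Jr_pos (m : Fin 2) : ∀ r ∈ Jr m, r ∈ C.Pos := Jr_pos' m

theorem inv'_Jw (m : Fin 2) : C.inv' (C.pprod (Jw m)) = {r | r ∈ Jr m} := by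
  have key : ∀ m : Fin 2, ∀ r : Rt chevF4, (chevF4.nroots ≤ 2 * r.val ∧
      2 * Data.F4.fast.actW ((Jw m).map Fin.val) r.val < chevF4.nroots) ↔ r ∈ Jr m := by decide +kernel
  ext r
  refine Iff.trans ?_ (key m r)
  show (chevF4.nroots ≤ 2 * r.val ∧ 2 * (C.pprod (Jw m) r).val < chevF4.nroots) ↔ _
  rw [show (C.pprod (Jw m) r).val = _ from Cert.F4.certified.actW_eq (Jw m) r]

theorem len_Jw (m : Fin 2) : C.len (C.pprod (Jw m)) = (Jr m).length := by
  classical
  rw [Core.len, inv'_Jw, ← List.toFinset_card_of_nodup (List.Pairwise.imp ne_of_lt (Jr_sorted m))]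
  rw [← Set.ncard_coe_finset]
  congr 1
  ext r
  simp

theorem Jw_inv (m : Fin 2) : C.pprod (Jw m) * C.pprod (Jw m) = 1 := by
  have key : ∀ m : Fin 2, ∀ r : Rt chevF4, Data.F4.fast.actW ((Jw m ++ Jw m).map Fin.val) r.val = r.val := by
    decide +kernel
  rw [← C.pprod_append]
  exact Equiv.ext fun r => Fin.ext ((Cert.F4.certified.actW_eq (Jw m ++ Jw m) r).trans (key m r))

/-- The orbit of a node. -/
def idxF : Fin chevF4.rank → Fin 2 := ![0, 1, 1, 0]

theorem mem_Jw : ∀ i m, i ∈ Jw m ↔ idxF i = m := by decide +kernel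

/-- The orbits, as lists of nodes. -/
def Js : List (List ℕ) := [[0, 3], [2, 1, 2, 1]]

/-- The minimal coset representatives of the levels. -/
def reps : List (List (List ℕ)) := [
  [[], [0]],
  [[], [1], [0, 1], [1, 0, 1], [0, 1, 0, 1], [1, 0, 1, 0, 1], [0, 1, 0, 1, 0, 1], [1, 0, 1, 0, 1, 0, 1]]]

/-- The transition witnesses. -/
def wits : List (List (List (ℕ × List ℕ))) := [
  [[(1, [])], [(0, [])]],
  [[(0, [0]), (1, [])], [(2, []), (0, [])], [(1, []), (3, [])], [(4, []), (2, [])], [(3, []), (5, [])], [(6, []), (4, [])], [(5, []), (7, [])], [(7, [0]), (6, [])]]]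

variable {K : Type*} [Field K] {θ : K ≃+* K} {e : ℕ}

/-- The fundamental characters of a fixed torus element. -/
def χOf (θ : K ≃+* K) (x y : Kˣ) : Fin chevF4.rank → Kˣ :=
  ![Units.map (θ : K →* K) x, Units.map (θ : K →* K) y, y, x]

theorem χOf_mul (x y x' y' : Kˣ) : χOf θ x y * χOf θ x' y' = χOf θ (x * x') (y * y') := by
  funext i
  have hi : i = ⟨0, by decide⟩ ∨ i = ⟨1, by decide⟩ ∨ i = ⟨2, by decide⟩ ∨ i = ⟨3, by decide⟩ := by
    revert i; decide
  rcases hi with rfl | rfl | rfl | rfl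
  · exact (map_mul _ _ _).symm
  · exact (map_mul _ _ _).symm
  · rfl
  · rfl

theorem rho_vals : ρ (nd 0) = nd 3 ∧ ρ (nd 1) = nd 2 ∧ ρ (nd 2) = nd 1 ∧ ρ (nd 3) = nd 0 := by decide +kernel

theorem nd_cases : ∀ i : Fin chevF4.rank, i = nd 0 ∨ i = nd 1 ∨ i = nd 2 ∨ i = nd 3 := by decide

theorem prod4 {M : Type*} [CommMonoid M] (f : Fin chevF4.rank → M) :
    ∏ j, f j = f (nd 0) * f (nd 1) * f (nd 2) * f (nd 3) := Fin.prod_univ_four f

theorem chA_hχ (χ : Fin chevF4.rank → Kˣ) (s : Rt chevF4) :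
    C.chr K χ s = C.chA (cOf χ) s := by
  rw [← C.chr_chA K]
  congr 1
  funext m
  exact (chA_cOf χ m).symm

theorem chr_p (χ : Fin chevF4.rank → Kˣ) (i : Fin chevF4.rank) : C.chr K χ (pD i) = χ i := by
  rw [chA_hχ, ← p_eq, chA_cOf]

theorem chr_ab (χ : Fin chevF4.rank → Kˣ) : C.chr K χ (R 28) = χ (nd 1) * χ (nd 2) := by
  have key : ∀ j, A chevF4 j (R 28) = A chevF4 j (pD (nd 1)) + A chevF4 j (pD (nd 2)) := by decide +kernel
  rw [chA_hχ, ← chA_cOf χ (nd 1), ← chA_cOf χ (nd 2), p_eq, p_eq, Core.chA, Core.chA, Core.chA,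
    ← Finset.prod_mul_distrib]
  exact Finset.prod_congr rfl fun j _ => by rw [key, zpow_add]

theorem chr_aab (χ : Fin chevF4.rank → Kˣ) : C.chr K χ (R 30) = χ (nd 1) * χ (nd 1) * χ (nd 2) := by
  have key : ∀ j, A chevF4 j (R 30) = A chevF4 j (pD (nd 1)) + A chevF4 j (pD (nd 1)) + A chevF4 j (pD (nd 2)) := by
    decide +kernel
  rw [chA_hχ, ← chA_cOf χ (nd 1), ← chA_cOf χ (nd 2), p_eq, p_eq, Core.chA, Core.chA, Core.chA,
    ← Finset.prod_mul_distrib, ← Finset.prod_mul_distrib]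
  exact Finset.prod_congr rfl fun j _ => by rw [key, zpow_add, zpow_add]

theorem exists_word_Jr [Finite K] (m : Fin 2) {u : GL chevF4.Idx K}
    (hu : u ∈ C.US K (C.inv' (C.pprod (Jw m)))) : ∃ t : Rt chevF4 → K, u = C.wordX K (Jr m) t := by
  classical
  set U := C.US K (C.inv' (C.pprod (Jw m)))
  let ext0 : ({r // r ∈ Jr m} → K) → Rt chevF4 → K := fun t r => if h : r ∈ Jr m then t ⟨r, h⟩ else 0
  let f : ({r // r ∈ Jr m} → K) → U := fun t =>
    ⟨C.wordX K (Jr m) (ext0 t), C.wordX_mem K (fun r hr => by rw [inv'_Jw]; exact hr) _⟩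
  have hinj : Function.Injective f := fun t t' h => funext fun ⟨r, hr⟩ => by
    have := C.wordX_unique K (Jr_sorted m) (Jr_pos m) (congrArg Subtype.val h) r hr
    simpa [ext0, hr] using this
  have hcard : Nat.card U ≤ Nat.card ({r // r ∈ Jr m} → K) := by
    rw [Nat.card_fun, show Nat.card U = _ from comm.card_US_inv' (R := K) ⟨_, C.pprod_mem_WG (Jw m)⟩]
    refine le_of_eq (congrArg _ ?_)
    rw [len_Jw, Nat.card_eq_fintype_card,
      Fintype.card_of_subtype (Jr m).toFinset (fun r => List.mem_toFinset),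
      List.toFinset_card_of_nodup (List.Pairwise.imp ne_of_lt (Jr_sorted m))]
  obtain ⟨t, ht⟩ := (hinj.bijective_of_nat_card_le hcard).2 ⟨u, hu⟩
  exact ⟨ext0 t, (congrArg Subtype.val ht).symm⟩

/-- The normal order on the class of type B₂. -/
noncomputable abbrev qP (t s v w : K) : GL chevF4.Idx K := q4 (R 27) (R 25) (R 28) (R 30) t s v w

/-- The fixed elements of the class of type B₂. -/
noncomputable abbrev gBp (θ : K ≃+* K) (t u : K) : GL chevF4.Idx K := gB θ (R 27) (R 25) (R 28) (R 30) t u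

/-- The fixed elements of the orthogonal pair. -/
noncomputable abbrev gPp (θ : K ≃+* K) (t : K) : GL chevF4.Idx K := gP θ (R 33) (R 24) t

theorem qP_inj {t s v w t' s' v' w' : K} (h : qP t s v w = qP t' s' v' w') :
    t = t' ∧ s = s' ∧ v = v' ∧ w = w' := by
  let fn : K → K → K → K → Rt chevF4 → K := fun a b c d r =>
    if r.val = 25 then a else if r.val = 27 then b else if r.val = 28 then c else d
  have e : ∀ a b c d : K, C.wordX K (Jr 1) (fn a b c d) = qP a b c d := fun a b c d => by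
    simp [Core.wordX, Jr, q4, fn, R, mul_assoc]
  have := C.wordX_unique K (Jr_sorted 1) (Jr_pos 1) ((e t s v w).trans (h.trans (e t' s' v' w').symm))
  refine ⟨?_, ?_, ?_, ?_⟩
  · simpa [fn, R] using this (R 25) (by decide +kernel)
  · simpa [fn, R] using this (R 27) (by decide +kernel)
  · simpa [fn, R] using this (R 28) (by decide +kernel)
  · simpa [fn, R] using this (R 30) (by decide +kernel)

theorem pair_inj {t s t' s' : K} (h : C.X K (R 24) t * C.X K (R 33) s = C.X K (R 24) t' * C.X K (R 33) s') :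
    t = t' ∧ s = s' := by
  let fn : K → K → Rt chevF4 → K := fun a b r => if r.val = 24 then a else b
  have e : ∀ a b : K, C.wordX K (Jr 0) (fn a b) = C.X K (R 24) a * C.X K (R 33) b := fun a b => by
    simp [Core.wordX, Jr, fn, R]
  have := C.wordX_unique K (Jr_sorted 0) (Jr_pos 0) ((e t s).trans (h.trans (e t' s').symm))
  refine ⟨?_, ?_⟩
  · simpa [fn, R] using this (R 24) (by decide +kernel)
  · simpa [fn, R] using this (R 33) (by decide +kernel)

section

variable (F : Th θ e)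

include F

theorem gPp_eq (t : K) : gPp θ t = C.X K (R 24) t * C.X K (R 33) (θ t) :=
  (commute_com F pair_pos.com _ _).eq

theorem gPp_mem_US (t : K) : gPp θ t ∈ C.US K (C.inv' (C.pprod (Jw 0))) := by
  rw [inv'_Jw]
  exact mul_mem (C.X_mem_US K (show R 33 ∈ Jr 0 by decide +kernel) _)
    (C.X_mem_US K (show R 24 ∈ Jr 0 by decide +kernel) _)

theorem gBp_mem_US (t u : K) : gBp θ t u ∈ C.US K (C.inv' (C.pprod (Jw 1))) := by
  rw [inv'_Jw]
  exact mul_mem (mul_mem (mul_mem (C.X_mem_US K (show R 27 ∈ Jr 1 by decide +kernel) _)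
    (C.X_mem_US K (show R 25 ∈ Jr 1 by decide +kernel) _)) (C.X_mem_US K (show R 28 ∈ Jr 1 by decide +kernel) _))
    (C.X_mem_US K (show R 30 ∈ Jr 1 by decide +kernel) _)

theorem fix_pair [Finite K] {u : GL chevF4.Idx K} (hu : u ∈ C.US K (C.inv' (C.pprod (Jw 0))))
    (h : τ F u = u) : ∃ t, u = gPp θ t := by
  obtain ⟨f, rfl⟩ := exists_word_Jr 0 hu
  have e : C.wordX K (Jr 0) f = C.X K (R 24) (f (R 24)) * C.X K (R 33) (f (R 33)) := by simp [Core.wordX, Jr]
  rw [e, τ_mul F _ (C.X_mem_group _ _) _ (C.X_mem_group _ _), τ_X F, τ_X F, pair_pos.π_r, pair_pos.π_s,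
    pair_pos.lams.1, pair_pos.lams.2, pow_one, (commute_com F pair_pos.com _ _).eq] at h
  obtain ⟨-, h2⟩ := pair_inj h
  exact ⟨f (R 24), by rw [e, gPp_eq F, h2]⟩

theorem fix_B2 [Finite K] {u : GL chevF4.Idx K} (hu : u ∈ C.US K (C.inv' (C.pprod (Jw 1))))
    (h : τ F u = u) : ∃ t v, u = gBp θ t v := by
  obtain ⟨f, rfl⟩ := exists_word_Jr 1 hu
  have e : C.wordX K (Jr 1) f = qP (f (R 25)) (f (R 27)) (f (R 28)) (f (R 30)) := by
    simp [Core.wordX, Jr, q4, mul_assoc]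
  rw [e, τ_q4 F b2_pos] at h
  obtain ⟨-, h2, h3, -⟩ := qP_inj h
  refine ⟨f (R 25), f (R 28), ?_⟩
  rw [e, gBp, gB_q4 F b2_pos]
  have hw : f (R 30) = θ (f (R 28)) ^ 2 + θ (f (R 25)) ^ 2 * f (R 25) := by
    have h1 := F.sq (f (R 25))
    have h5 := F.sq (f (R 30))
    have h4 : θ (θ (f (R 30))) ^ 2 = (θ (f (R 28) + θ (f (R 25)) * θ (f (R 27)) ^ 2)) ^ 2 := by
      rw [← h3, add_right_comm, F.add_self, zero_add]
    rw [h5, ← h2, h1] at h4
    rw [h4, map_add, map_mul]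
    have := F.two
    rw [CharTwo.add_sq, mul_pow, h1, mul_comm (f (R 25))]
  rw [hw, h2]

theorem chA_pair (u : Kˣ) (s : Rt chevF4) :
    C.chA ((Pi.mulSingle (nd 0) (Units.map (θ : K →* K) u) * Pi.mulSingle (nd 3) u : Fin chevF4.rank → Kˣ)) s =
      Units.map (θ : K →* K) u ^ A chevF4 (nd 0) s * u ^ A chevF4 (nd 3) s := by
  have h : nd 1 ≠ nd 0 ∧ nd 1 ≠ nd 3 ∧ nd 2 ≠ nd 0 ∧ nd 2 ≠ nd 3 ∧ nd 0 ≠ nd 3 ∧ nd 3 ≠ nd 0 := by decide
  rw [Core.chA, prod4]
  simp [Pi.mulSingle_eq_of_ne, h.1, h.2.1, h.2.2.1, h.2.2.2.1, h.2.2.2.2.1, h.2.2.2.2.2]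

theorem commute_nR (r s : Rt chevF4) (r' s' : Rt chevF4) (hr : r.rev = r') (hs : s.rev = s')
    (h : Com2 r s ∧ Com2 r s' ∧ Com2 r' s ∧ Com2 r' s') (u v : Kˣ) :
    Commute (C.nR K r u) (C.nR K s v) := by
  obtain ⟨h1, h2, h3, h4⟩ := h
  subst hr hs
  unfold Core.nR
  exact ((((commute_com F h1 _ _).mul_right (commute_com F h2 _ _)).mul_right (commute_com F h1 _ _)).mul_left
    (((commute_com F h3 _ _).mul_right (commute_com F h4 _ _)).mul_right (commute_com F h3 _ _))).mul_left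
    (((commute_com F h1 _ _).mul_right (commute_com F h2 _ _)).mul_right (commute_com F h1 _ _))

theorem pairTorus_mem (u : Kˣ) :
    C.HT K ((Pi.mulSingle (nd 0) (Units.map (θ : K →* K) u) * Pi.mulSingle (nd 3) u : Fin chevF4.rank → Kˣ)) ∈ G K e := by
  have hm : (-1 : Kˣ) = 1 := Units.ext (by simp [F.neg])
  rw [← C.HT_mul, C.HT_single, C.HT_single, ← C.hR_eq, ← C.hR_eq, hm, p_eq, p_eq]
  show C.nR K (R 33) _ * C.nR K (R 33) 1 * (C.nR K (R 24) u * C.nR K (R 24) 1) ∈ _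
  have hc := commute_nR F (R 33) (R 24) (R 14) (R 23) (by decide +kernel) (by decide +kernel)
    (by unfold Com2; decide +kernel) 1 u
  rw [mul_assoc, ← mul_assoc (C.nR K (R 33) 1), hc.eq, mul_assoc (C.nR K (R 24) u), ← mul_assoc]
  have h1 := nPair_mem F (1 : Kˣ)
  rw [map_one] at h1
  exact mul_mem (nPair_mem F u) h1

theorem eq_of_fix {χ : Fin chevF4.rank → Kˣ} (h : τ F (hχ χ) = hχ χ) : χ = χOf θ (χ (nd 3)) (χ (nd 2)) := by
  rw [τ_hχ F] at h
  have h' := congrFun (hχ_inj h)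
  obtain ⟨r0, r1, -, -⟩ := rho_vals
  obtain ⟨-, -, l2, l3⟩ := lam_p
  funext i
  rcases nd_cases i with rfl | rfl | rfl | rfl
  · rw [← h' (nd 0), r0, p_eq, show lam (pD (nd 3)) = 1 from l3, pow_one]; rfl
  · rw [← h' (nd 1), r1, p_eq, show lam (pD (nd 2)) = 1 from l2, pow_one]; rfl
  · rfl
  · rfl

theorem pairχ_mem (u : Kˣ) : hχ (χOf θ (u * u) u⁻¹) ∈ G K e := by
  have hm := pairTorus_mem F u
  rw [HT_eq_hχ] at hm
  have hfix := eq_of_fix F (G_fix F _ hm)
  rw [hfix] at hm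
  convert hm using 3
  · rw [chA_pair F, p_eq, show A chevF4 (nd 0) (pD (nd 3)) = 0 by decide +kernel,
      show A chevF4 (nd 3) (pD (nd 3)) = 2 by decide +kernel, zpow_zero, one_mul, zpow_two]
  · rw [chA_pair F, p_eq, show A chevF4 (nd 0) (pD (nd 2)) = 0 by decide +kernel,
      show A chevF4 (nd 3) (pD (nd 2)) = -1 by decide +kernel, zpow_zero, one_mul, zpow_neg_one]

theorem conj_pairχ_mem (u : Kˣ) :
    hχ (χOf θ (Units.map (θ : K →* K) u * Units.map (θ : K →* K) u)⁻¹ u) ∈ G K e := by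
  set σ := C.pprod (Jw 1) with hσ
  set n := C.wprod K (Jw 1) with hn'
  have hn : n ∈ G K e := nO1_mem F
  set c := (Pi.mulSingle (nd 0) (Units.map (θ : K →* K) u) * Pi.mulSingle (nd 3) u : Fin chevF4.rank → Kˣ) with hc
  have hm : n * C.HT K c * n⁻¹ ∈ G K e := mul_mem (mul_mem hn (pairTorus_mem F u)) (inv_mem hn)
  obtain ⟨c', hc'⟩ := C.mem_diagonal_iff.1 (C.conj_diagonal (C.wprod_mem_monomial (F := K) (Jw 1))
    (C.HT_mem_diagonal c))
  have hchi : ∀ r, C.chA c' (σ r) = C.chA c r := by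
    intro r
    obtain ⟨ε, hε⟩ := C.acts_wprod K (Jw 1) r
    have h1 : n * (C.HT K c * C.X K r 1 * (C.HT K c)⁻¹) * n⁻¹ =
        (n * C.HT K c * n⁻¹) * (n * C.X K r 1 * n⁻¹) * (n * C.HT K c * n⁻¹)⁻¹ := by group
    rw [C.HT_X_conj, hε, hε, show n * C.HT K c * n⁻¹ = C.HT K c' from hc', C.HT_X_conj, mul_one, mul_one,
      mul_comm (C.chA c' (σ r) : K)] at h1
    exact (Units.ext (mul_left_cancel₀ ε.ne_zero (X_inj h1))).symm
  rw [show n * C.HT K c * n⁻¹ = C.HT K c' from hc', HT_eq_hχ] at hm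
  rw [eq_of_fix F (G_fix F _ hm)] at hm
  have hσp : ∀ r r' : Rt chevF4, Data.F4.fast.actW ((Jw 1).map Fin.val) r.val = r'.val → σ r = r' := fun r r' h =>
    Fin.ext ((Cert.F4.certified.actW_eq (Jw 1) r).trans h)
  have e3 : C.chA c' (C.p (nd 3)) = C.chA c (R 32) := by
    rw [p_eq, ← hσp (R 32) (pD (nd 3)) (by decide +kernel), hchi]
  have e2 : C.chA c' (C.p (nd 2)) = C.chA c (R 22) := by
    rw [p_eq, ← hσp (R 22) (pD (nd 2)) (by decide +kernel), hchi]
  convert hm using 3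
  · rw [e3, hc, chA_pair F, show A chevF4 (nd 0) (R 32) = -2 by decide +kernel,
      show A chevF4 (nd 3) (R 32) = 0 by decide +kernel, zpow_zero, mul_one, zpow_neg, zpow_two]
  · rw [e2, hc, chA_pair F, show A chevF4 (nd 0) (R 22) = 0 by decide +kernel,
      show A chevF4 (nd 3) (R 22) = 1 by decide +kernel, zpow_zero, one_mul, zpow_one]

/-- Every fixed torus element lies in the twisted group. -/
theorem χOf_mem [Finite K] (x y : Kˣ) : hχ (χOf θ x y) ∈ G K e := by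
  have := F.two
  let f : Kˣ → Kˣ := fun u => u * u * (Units.map (θ : K →* K) u * Units.map (θ : K →* K) u)⁻¹
  have hf : Function.Injective f := by
    intro u v h
    have hw : ∀ w : Kˣ, f w = 1 → w = 1 := by
      intro w hw
      have h1 : ((w : K)) ^ 2 = θ (w : K) ^ 2 := by
        have := congrArg Units.val (mul_inv_eq_one.1 hw)
        simpa [sq] using this
      have h2 : (w : K) = θ (w : K) := by
        have h3 : ((w : K) + θ (w : K)) ^ 2 = 0 := by rw [CharTwo.add_sq, h1, F.add_self]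
        have h4 := eq_neg_of_add_eq_zero_left ((pow_eq_zero_iff two_ne_zero).1 h3)
        rwa [F.neg] at h4
      have h5 := F.sq (w : K)
      rw [← h2, ← h2] at h5
      refine Units.ext ?_
      rw [sq] at h5
      exact mul_right_cancel₀ w.ne_zero (h5.trans (one_mul _).symm)
    refine div_eq_one.1 (hw (u / v) ?_)
    have hd : f (u / v) = f u / f v := by
      simp only [f, div_eq_mul_inv, map_mul, map_inv, mul_inv_rev, inv_inv]
      simp only [mul_comm, mul_left_comm, mul_assoc]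
    rw [hd, h, div_self']
  obtain ⟨u, hu⟩ := Finite.surjective_of_injective hf (x * (y * y))
  have h1 := mul_mem (pairχ_mem F u) (conj_pairχ_mem F u)
  rw [hχ_mul, χOf_mul, inv_mul_cancel, show u * u * _ = x * (y * y) from hu] at h1
  have h2 := mul_mem h1 (pairχ_mem F y⁻¹)
  rw [hχ_mul, χOf_mul, one_mul, inv_inv] at h2
  convert h2 using 3
  rw [← mul_inv, mul_inv_cancel_right]

theorem diag_mem [Finite K] : ∀ h ∈ chevF4.diagonalSubgroup K, τ F h = h → h ∈ G K e := by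
  intro h hh hf
  obtain ⟨χ, rfl⟩ := exists_hχ hh
  rw [eq_of_fix F hf]
  exact χOf_mem F _ _

theorem card_diag [Finite K] :
    Nat.card ↥(chevF4.diagonalSubgroup K ⊓ G K e) = (Nat.card Kˣ) ^ 2 := by
  rw [sq, ← Nat.card_prod]
  refine (Nat.card_congr (Equiv.ofBijective (fun p : Kˣ × Kˣ => (⟨hχ (χOf θ p.1 p.2), hχ_mem_diagonal _,
    χOf_mem F _ _⟩ : ↥(chevF4.diagonalSubgroup K ⊓ G K e))) ⟨?_, ?_⟩)).symm
  · intro p p' h
    have h' := hχ_inj (congrArg Subtype.val h)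
    exact Prod.ext (congrFun h' ⟨3, by decide⟩ :) (congrFun h' ⟨2, by decide⟩ :)
  · rintro ⟨g, hg, hgG⟩
    obtain ⟨χ, rfl⟩ := exists_hχ hg
    exact ⟨(χ (nd 3), χ (nd 2)), Subtype.ext (congrArg hχ (eq_of_fix F (G_fix F _ hgG)).symm)⟩

variable [Fintype K]

/-- The twisted data of ²F₄(q). -/
noncomputable def tw : Tw C K where
  comm := comm
  τ := τ F
  τ_mul := τ_mul F
  π := π
  ρ := ρ
  f r t := θ t ^ lam r
  f_ne r t ht := pow_ne_zero _ ((map_ne_zero θ).2 ht)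
  τ_X := τ_X F
  π_p := π_p
  π_rev := π_rev
  π_pos := π_pos'
  τ_P := τ_P F
  τ_HT := τ_HT F
  W := G K e
  W_le := G_le F
  W_fix := G_fix F
  nn := 2
  J := Jw
  idx := idxF
  mem_J := mem_Jw
  idx_ρ := by decide +kernel
  cycle := by
    have key : ∀ i j, idxF i = idxF j → ∃ k : Fin 2, ((ρ : _ → _)^[k.val]) i = j := by decide +kernel
    intro i j h
    obtain ⟨k, hk⟩ := key i j h
    exact ⟨k.val, hk⟩
  J_ne := by decide +kernel
  J_inv := Jw_inv
  J_neg := fun m j hj => by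
    have key : ∀ m : Fin 2, ∀ j ∈ Jw m, pD j ∈ Jr m := by decide +kernel
    have h : C.p j ∈ C.inv' (C.pprod (Jw m)) := by rw [inv'_Jw, p_eq]; exact key m j hj
    exact h.2
  nO m := C.wprod K (Jw m)
  nO_mem := Fin.forall_fin_two.2 ⟨nO0_mem F, nO1_mem F⟩
  nO_mono m := C.wprod_mem_monomial (F := K) (Jw m)
  nO_acts m := C.acts_wprod K (Jw m)
  d := 2
  q := Fintype.card K
  base_mem := Fin.forall_fin_two.2 ⟨fun u hu h => by obtain ⟨t, rfl⟩ := fix_pair F hu h; exact (gP_mem F t).1,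
    fun u hu h => by obtain ⟨t, v, rfl⟩ := fix_B2 F hu h; exact (gB_mem F t v).1⟩
  base_dvd := fun m => by rw [len_Jw]; revert m; decide +kernel
  base_card := Fin.forall_fin_two.2 ⟨by
    rw [len_Jw]
    show _ = Fintype.card K ^ 1
    rw [pow_one, ← Nat.card_eq_fintype_card]
    refine (Nat.card_congr (Equiv.ofBijective (fun t : K => (⟨gPp θ t, gPp_mem_US F t, τ_gP F pair_pos t⟩ :
      {u : GL chevF4.Idx K // u ∈ C.US K (C.inv' (C.pprod (Jw 0))) ∧ τ F u = u})) ⟨?_, ?_⟩)).symm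
    · intro t t' h
      have h' := congrArg Subtype.val h
      simp only [gPp_eq F] at h'
      exact (pair_inj h').1
    · rintro ⟨u, hu, h⟩
      obtain ⟨t, rfl⟩ := fix_pair F hu h
      exact ⟨t, rfl⟩, by
    rw [len_Jw]
    show _ = Fintype.card K ^ 2
    rw [sq, ← Nat.card_eq_fintype_card, ← Nat.card_prod]
    refine (Nat.card_congr (Equiv.ofBijective (fun p : K × K => (⟨gBp θ p.1 p.2, gBp_mem_US F _ _,
      τ_gB F b2_pos _ _⟩ :
      {u : GL chevF4.Idx K // u ∈ C.US K (C.inv' (C.pprod (Jw 1))) ∧ τ F u = u})) ⟨?_, ?_⟩)).symm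
    · intro p p' h
      have h' := congrArg Subtype.val h
      simp only [gBp, gB_q4 F b2_pos] at h'
      obtain ⟨h1, -, h3, -⟩ := qP_inj h'
      exact Prod.ext h1 h3
    · rintro ⟨u, hu, h⟩
      obtain ⟨t, v, rfl⟩ := fix_B2 F hu h
      exact ⟨(t, v), rfl⟩⟩
  diag_mem := diag_mem F

theorem Js_spec (m : Fin (tw F).nn) : ((tw F).J m).map Fin.val = Js.getD m.val [] := by
  have key : ∀ m : Fin 2, (Jw m).map Fin.val = Js.getD m.val [] := by decide +kernel
  exact key m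

theorem levelT (k : ℕ) (hk : k < 2) : (tw F).LevelT k ((reps.getD k []).map (toFinL (tw F).nn)) :=
  level_of_levelOK Cert.F4.certified (tw F) Js (Js_spec F) rfl
    ((show ∀ k < 2, levelOK Data.F4.fast Js k (reps.getD k []) (wits.getD k []) = true by decide +kernel) k hk)

theorem conn : ∀ M : Finset (Fin (tw F).nn), M.Nonempty → M ≠ Finset.univ →
    ∃ a ∈ M, ∃ b, b ∉ M ∧ (tw F).wO a * (tw F).wO b ≠ (tw F).wO b * (tw F).wO a := by
  have key : ∀ M : Finset (Fin 2), M.Nonempty → M ≠ Finset.univ →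
      ∃ a ∈ M, ∃ b, b ∉ M ∧ ncOK Data.F4.fast Js a.val b.val = true := by decide +kernel
  intro M h1 h2
  obtain ⟨a, ha, b, hb, h⟩ := key M h1 h2
  exact ⟨a, ha, b, hb, nc_of_ncOK Cert.F4.certified (tw F) Js (Js_spec F) h⟩

theorem card_WT : Nat.card ↥(tw F).WT = 16 := by
  rw [(tw F).card_WT (fun k => (reps.getD k []).map (toFinL (tw F).nn)) (levelT F)]
  simp only [List.length_map]
  show ∏ k ∈ Finset.range 2, (reps.getD k []).length = 16
  decide +kernel

/-- `H¹` acts faithfully on the two classes. -/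
theorem faithful : ∀ h ∈ chevF4.diagonalSubgroup K, τ F h = h →
    (∀ m, ∀ u ∈ C.US K (C.inv' ((tw F).wO m)), (tw F).τ u = u → h * u = u * h) → h = 1 := by
  intro h hh hf hc
  obtain ⟨χ, rfl⟩ := exists_hχ hh
  have e0 : χ (nd 3) = 1 := by
    have h1 := hc (0 : Fin 2) (gPp θ 1) (gPp_mem_US F 1) (τ_gP F pair_pos 1)
    rw [gPp_eq F, map_one, ← mul_inv_eq_iff_eq_mul] at h1
    have h2 : hχ χ * C.X K (R 24) 1 * (hχ χ)⁻¹ * (hχ χ * C.X K (R 33) 1 * (hχ χ)⁻¹) =
        C.X K (R 24) 1 * C.X K (R 33) 1 := by rw [← h1]; group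
    rw [hχ_X, hχ_X, show R 24 = pD (nd 3) from rfl, chr_p, mul_one] at h2
    exact Units.ext (pair_inj h2).1
  have e1 : χ (nd 2) = 1 := by
    have h1 := hc (1 : Fin 2) (gBp θ 1 0) (gBp_mem_US F 1 0) (τ_gB F b2_pos 1 0)
    rw [gBp, gB_q4 F b2_pos, ← mul_inv_eq_iff_eq_mul] at h1
    have h2 : qP ((C.chr K χ (R 25) : K) * 1) ((C.chr K χ (R 27) : K) * θ 1) ((C.chr K χ (R 28) : K) * 0)
        ((C.chr K χ (R 30) : K) * (θ (0 : K) ^ 2 + θ (1 : K) ^ 2 * 1)) =
        qP (1 : K) (θ 1) 0 (θ (0 : K) ^ 2 + θ (1 : K) ^ 2 * 1) := Eq.trans (by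
      simp only [q4, ← hχ_X χ]; group) h1
    rw [show R 25 = pD (nd 2) from rfl, chr_p, mul_one] at h2
    exact Units.ext (qP_inj h2).1
  have hone : ((hχ (1 : Fin chevF4.rank → Kˣ)) : GL chevF4.Idx K) = 1 := by
    have := hχ_mul (1 : Fin chevF4.rank → Kˣ) 1
    rw [one_mul] at this
    exact mul_eq_left.1 this
  rw [eq_of_fix F hf, e0, e1, ← hone]
  congr 1
  funext i
  rcases nd_cases i with rfl | rfl | rfl | rfl
  · exact map_one _
  · exact map_one _
  · rfl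
  · rfl

set_option maxHeartbeats 1000000 in
/-- The twisted group is perfect for q > 2. -/
theorem perfect (hq : 2 < Fintype.card K) : commutator ↥(G K e) = ⊤ := by
  classical
  have := F.two
  obtain ⟨x, hx⟩ : ∃ x : Kˣ, x ≠ 1 := by
    have h1 : 1 < Fintype.card Kˣ := by rw [Fintype.card_units]; omega
    exact Fintype.exists_ne_of_one_lt_card h1 1
  set h := hχ (χOf θ x x) with hh
  have hG : h ∈ G K e := χOf_mem F x x
  let D := (commutator ↥(G K e)).map (G K e).subtype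
  have hD : ∀ g ∈ G K e, h * g * h⁻¹ * g⁻¹ ∈ D := fun g hg =>
    ⟨⁅(⟨h, hG⟩ : ↥(G K e)), ⟨g, hg⟩⁆, Subgroup.commutator_mem_commutator (Subgroup.mem_top _) (Subgroup.mem_top _),
      rfl⟩
  have hx1 : (x : K) + 1 ≠ 0 := fun h0 => hx (Units.ext (by
    have := eq_neg_of_add_eq_zero_left h0
    rwa [F.neg] at this))
  have hx2 : θ (x : K) * x + 1 ≠ 0 := by
    intro h0
    have h1 := eq_neg_of_add_eq_zero_left h0
    rw [F.neg] at h1
    have h2 := congrArg θ h1
    rw [map_mul, map_one] at h2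
    have h3 : θ (θ (x : K)) = x := mul_right_cancel₀ ((map_ne_zero θ).2 x.ne_zero) (h2.trans ((mul_comm _ _).trans h1).symm)
    have h4 := F.sq (x : K)
    rw [h3, sq] at h4
    exact hx (Units.ext (mul_right_cancel₀ x.ne_zero (h4.trans (one_mul _).symm)))
  have hsc : ∀ {a : K}, a + 1 ≠ 0 → ∀ t, ∃ t', a * t' + t' = t := fun {a} ha t =>
    ⟨t / (a + 1), by rw [← add_one_mul, mul_div_cancel₀ _ ha]⟩
  have hinvP : ∀ (r s : Rt chevF4), Pair r s → ∀ t, (gP θ r s t)⁻¹ = gP θ r s t := fun r s P t =>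
    inv_eq_of_mul_eq_one_right (by
      rw [gP_mul F P, F.add_self, gP, map_zero, C.X_zero, C.X_zero, one_mul])
  have cjP : ∀ (r s : Rt chevF4), Pair r s → (∀ t, gP θ r s t ∈ G K e) → ∀ c : Kˣ,
      C.chr K (χOf θ x x) s = c → C.chr K (χOf θ x x) r = Units.map (θ : K →* K) c → (c : K) + 1 ≠ 0 →
      ∀ t, gP θ r s t ∈ D := by
    intro r s P hm c hs hr hc t
    obtain ⟨t', ht'⟩ := hsc hc t
    have h1 := hD _ (hm t')
    have h2 : h * gP θ r s t' * h⁻¹ = gP θ r s ((c : K) * t') := by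
      rw [gP, gP, map_mul, show h * (C.X K r (θ t') * C.X K s t') * h⁻¹ =
        h * C.X K r (θ t') * h⁻¹ * (h * C.X K s t' * h⁻¹) by group, hh, hχ_X, hχ_X, hs, hr]
      rfl
    rwa [h2, hinvP r s P, gP_mul F P, ht'] at h1
  have cjB : ∀ (a b ab aab : Rt chevF4), B2 a b ab aab → (∀ t u, gB θ a b ab aab t u ∈ G K e) → ∀ c : Kˣ,
      C.chr K (χOf θ x x) b = c → C.chr K (χOf θ x x) a = Units.map (θ : K →* K) c →
      C.chr K (χOf θ x x) ab = Units.map (θ : K →* K) c * c →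
      C.chr K (χOf θ x x) aab = Units.map (θ : K →* K) c * Units.map (θ : K →* K) c * c →
      (c : K) + 1 ≠ 0 → θ (c : K) * c + 1 ≠ 0 → ∀ t u, gB θ a b ab aab t u ∈ D := by
    intro a b ab aab H hm c hb ha hab haab hc hc2
    have hconj : ∀ t u, h * gB θ a b ab aab t u * h⁻¹ = gB θ a b ab aab ((c : K) * t) (θ (c : K) * c * u) := by
      intro t u
      have h1 : θ (θ (c : K)) ^ 2 = c := F.sq _
      rw [gB, gB, show h * (C.X K a (θ t) * C.X K b t * C.X K ab (θ t * t + u) * C.X K aab (θ u ^ 2)) * h⁻¹ =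
        h * C.X K a (θ t) * h⁻¹ * (h * C.X K b t * h⁻¹) * (h * C.X K ab (θ t * t + u) * h⁻¹) *
          (h * C.X K aab (θ u ^ 2) * h⁻¹) by group, hh, hχ_X, hχ_X, hχ_X, hχ_X, hb, ha, hab, haab]
      simp only [Units.val_mul, Units.coe_map, MonoidHom.coe_coe, map_mul, mul_pow, h1]
      congr 2
      · congr 1; ring
      · ring
    have h0 : ∀ u, gB θ a b ab aab 0 u ∈ D := by
      intro u
      obtain ⟨u', hu'⟩ := hsc hc2 u
      have h1 := hD _ (hm 0 u')
      have hi : (gB θ a b ab aab (0 : K) u')⁻¹ = gB θ a b ab aab 0 u' :=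
        inv_eq_of_mul_eq_one_right (by rw [gB_mul F H]; simp [F.add_self, gB, C.X_zero])
      rw [hconj, hi, gB_mul F H] at h1
      simpa [hu'] using h1
    intro t u
    obtain ⟨t', ht'⟩ := hsc hc t
    have h1 := hD _ (hm t' 0)
    have hi : (gB θ a b ab aab t' (0 : K))⁻¹ = gB θ a b ab aab t' (θ t' * t') :=
      inv_eq_of_mul_eq_one_right (by rw [gB_mul F H]; simp [F.add_self, gB, C.X_zero])
    rw [hconj, hi, gB_mul F H, ht'] at h1
    set v := θ (c : K) * c * 0 + θ t' * t' + θ ((c : K) * t') * t'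
    have h2 := mul_mem h1 (h0 (u + v))
    rw [gB_mul F H] at h2
    convert h2 using 2
    · rw [add_zero]
    · rw [mul_zero, add_zero, add_left_comm, F.add_self, add_zero]
  have hv : C.chr K (χOf θ x x) (R 14) = (C.chr K (χOf θ x x) (R 33))⁻¹ ∧
      C.chr K (χOf θ x x) (R 23) = (C.chr K (χOf θ x x) (R 24))⁻¹ ∧
      C.chr K (χOf θ x x) (R 20) = (C.chr K (χOf θ x x) (R 27))⁻¹ ∧
      C.chr K (χOf θ x x) (R 22) = (C.chr K (χOf θ x x) (R 25))⁻¹ ∧
      C.chr K (χOf θ x x) (R 19) = (C.chr K (χOf θ x x) (R 28))⁻¹ ∧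
      C.chr K (χOf θ x x) (R 17) = (C.chr K (χOf θ x x) (R 30))⁻¹ := by
    have key : ∀ r r' : Rt chevF4, r.rev = r' → C.chr K (χOf θ x x) r' = (C.chr K (χOf θ x x) r)⁻¹ :=
      fun r r' e => e ▸ C.chr_rev K _ r
    exact ⟨key _ _ (by decide +kernel), key _ _ (by decide +kernel), key _ _ (by decide +kernel),
      key _ _ (by decide +kernel), key _ _ (by decide +kernel), key _ _ (by decide +kernel)⟩
  obtain ⟨v14, v23, v20, v22, v19, v17⟩ := hv
  have cp : ∀ (i : Fin chevF4.rank) (r : Rt chevF4), pD i = r → C.chr K (χOf θ x x) r = χOf θ x x i :=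
    fun i r e => e ▸ chr_p (χOf θ x x) i
  have o1 : χOf θ x x (nd 1) = Units.map (θ : K →* K) x := rfl
  have o2 : χOf θ x x (nd 2) = x := rfl
  have c33 : C.chr K (χOf θ x x) (R 33) = Units.map (θ : K →* K) x := (cp (nd 0) (R 33) (by decide +kernel)).trans rfl
  have c24 : C.chr K (χOf θ x x) (R 24) = x := (cp (nd 3) (R 24) (by decide +kernel)).trans rfl
  have c27 : C.chr K (χOf θ x x) (R 27) = Units.map (θ : K →* K) x := (cp (nd 1) (R 27) (by decide +kernel)).trans o1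
  have c25 : C.chr K (χOf θ x x) (R 25) = x := (cp (nd 2) (R 25) (by decide +kernel)).trans o2
  have c28 : C.chr K (χOf θ x x) (R 28) = Units.map (θ : K →* K) x * x := by rw [chr_ab, o1, o2]
  have c30 : C.chr K (χOf θ x x) (R 30) = Units.map (θ : K →* K) x * Units.map (θ : K →* K) x * x := by rw [chr_aab, o1, o2]
  have hi1 : ((x⁻¹ : Kˣ) : K) + 1 ≠ 0 := fun h0 => hx1 (by
    have := congrArg (fun z => (x : K) * z) h0
    simpa [mul_add, add_comm] using this)
  have hi2 : θ ((x⁻¹ : Kˣ) : K) * ((x⁻¹ : Kˣ) : K) + 1 ≠ 0 := fun h0 => hx2 (by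
    have := congrArg (fun z => θ (x : K) * x * z) h0
    simp only [mul_zero, mul_add, mul_one, Units.val_inv_eq_inv_val, map_inv₀] at this
    rw [mul_mul_mul_comm, mul_inv_cancel₀ ((map_ne_zero θ).2 x.ne_zero), mul_inv_cancel₀ x.ne_zero, one_mul] at this
    rwa [add_comm] at this)
  have hall : ∀ g ∈ G K e, g ∈ D := fun g hg => by
    refine G_induction F (p := fun g => g ∈ D) (one_mem _) (fun t u => ⟨?_, ?_⟩) (fun t => ⟨?_, ?_⟩)
      (fun _ _ _ _ => mul_mem) (fun _ _ => inv_mem) hg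
    · exact cjB _ _ _ _ b2_pos (fun t u => (gB_mem F t u).1) x c25 c27 c28 c30 hx1 hx2 t u
    · refine cjB _ _ _ _ b2_neg (fun t u => (gB_mem F t u).2) x⁻¹ (by rw [v22, c25]) (by rw [v20, c27, map_inv])
        (by rw [v19, c28, mul_inv, map_inv]) (by rw [v17, c30, mul_inv, mul_inv, map_inv]) hi1 hi2 t u
    · exact cjP _ _ pair_pos (fun t => (gP_mem F t).1) x c24 c33 hx1 t
    · exact cjP _ _ pair_neg (fun t => (gP_mem F t).2) x⁻¹ (by rw [v23, c24]) (by rw [v14, c33, map_inv]) hi1 t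
  rw [eq_top_iff]
  intro g _
  obtain ⟨g', hg', e'⟩ := hall g g.2
  exact (Subtype.ext e' : g' = g) ▸ hg'

end

end Cfsg.Agent.Lib.LieTwisted.Twist.F4
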