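import Cfsg.Agent.Lib.ChevStructure.Poincare

/-!
Twisted subgroups of Chevalley groups: the fixed points of an endomorphism permuting the root
subgroups along a symmetry of the diagram. The unipotent part is decomposed along the twisted Weyl
group, and every fixed element has a Bruhat normal form inside the twisted group.
-/

set_option autoImplicit false
set_option linter.unusedSectionVars false

namespace Cfsg.Agent.Lib.LieTwisted.Twist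

open Cfsg.Lie ChevStructure
open scoped MatrixGroups Pointwise

variable {D : ChevalleyDatum}

/-- The data of a twisted subgroup: an endomorphism `τ` of the Chevalley group, the twisted group
`W`, and for every orbit of simple roots a representative of the twisted reflection. -/
structure Tw (C : Core D) (K : Type*) [Field K] where
  comm : CommOK C
  τ : GL D.Idx K → GL D.Idx K
  τ_mul : ∀ g ∈ D.group K, ∀ h ∈ D.group K, τ (g * h) = τ g * τ h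
  π : Equiv.Perm (Rt D)
  ρ : Equiv.Perm (Fin D.rank)
  f : Rt D → K → K
  f_ne : ∀ r t, t ≠ 0 → f r t ≠ 0
  τ_X : ∀ r t, τ (C.X K r t) = C.X K (π r) (f r t)
  π_p : ∀ i, π (C.p i) = C.p (ρ i)
  π_rev : ∀ r, π r.rev = (π r).rev
  π_pos : ∀ r ∈ C.Pos, π r ∈ C.Pos
  τ_P : ∀ i, τ (C.P K i) = C.P K (ρ i)
  τ_HT : ∀ c, ∃ c', τ (C.HT K c) = C.HT K c'
  W : Subgroup (GL D.Idx K)
  W_le : W ≤ D.group K
  W_fix : ∀ g ∈ W, τ g = g
  nn : ℕ
  J : Fin nn → List (Fin D.rank)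
  idx : Fin D.rank → Fin nn
  mem_J : ∀ i m, i ∈ J m ↔ idx i = m
  idx_ρ : ∀ i, idx (ρ i) = idx i
  cycle : ∀ i j, idx i = idx j → ∃ k : ℕ, (ρ^[k]) i = j
  J_ne : ∀ m, J m ≠ []
  J_inv : ∀ m, C.pprod (J m) * C.pprod (J m) = 1
  J_neg : ∀ m, ∀ j ∈ J m, C.pprod (J m) (C.p j) ∈ C.Neg
  nO : Fin nn → GL D.Idx K
  nO_mem : ∀ m, nO m ∈ W
  nO_mono : ∀ m, nO m ∈ D.monomialSubgroup K
  nO_acts : ∀ m, C.Acts (nO m) (C.pprod (J m))
  d : ℕ
  q : ℕ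
  base_mem : ∀ m, ∀ u ∈ C.US K (C.inv' (C.pprod (J m))), τ u = u → u ∈ W
  base_dvd : ∀ m, d ∣ C.len (C.pprod (J m))
  base_card : ∀ m, Nat.card {u : GL D.Idx K // u ∈ C.US K (C.inv' (C.pprod (J m))) ∧ τ u = u} =
    q ^ (C.len (C.pprod (J m)) / d)
  diag_mem : ∀ h ∈ D.diagonalSubgroup K, τ h = h → h ∈ W

namespace Tw

variable {C : Core D} {K : Type*} [Field K] (T : Tw C K)

/-- The twisted reflection of an orbit. -/
def wO (m : Fin T.nn) : Equiv.Perm (Rt D) := C.pprod (T.J m)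

/-- The twisted Weyl group. -/
def WT : Subgroup (Equiv.Perm (Rt D)) := C.WG ⊓ Subgroup.centralizer {T.π}

include T

theorem τ_one : T.τ 1 = 1 := by
  have h := T.τ_mul 1 (one_mem _) 1 (one_mem _)
  rw [mul_one] at h
  exact mul_eq_left.1 h.symm

theorem τ_inv {g : GL D.Idx K} (hg : g ∈ D.group K) : T.τ g⁻¹ = (T.τ g)⁻¹ := by
  refine (inv_eq_of_mul_eq_one_right ?_).symm
  rw [← T.τ_mul g hg _ (inv_mem hg), mul_inv_cancel, T.τ_one]

omit T in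
/-- The fixed points inside the Chevalley group. -/
def Fix (T : Tw C K) : Subgroup (GL D.Idx K) where
  carrier := {g | g ∈ D.group K ∧ T.τ g = g}
  one_mem' := ⟨one_mem _, T.τ_one⟩
  mul_mem' := fun {a b} ha hb => ⟨mul_mem ha.1 hb.1, by rw [T.τ_mul a ha.1 b hb.1, ha.2, hb.2]⟩
  inv_mem' := fun {a} ha => ⟨inv_mem ha.1, by rw [T.τ_inv ha.1, ha.2]⟩

theorem mem_Fix {g : GL D.Idx K} : g ∈ T.Fix ↔ g ∈ D.group K ∧ T.τ g = g := Iff.rfl

theorem τ_mem_group {g : GL D.Idx K} (hg : g ∈ D.group K) : T.τ g ∈ D.group K := by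
  induction hg using Subgroup.closure_induction with
  | mem x hx =>
    obtain ⟨r, t, hx⟩ := hx
    have e : x = C.X K r t := C.eq_X (hx.trans (by simp [ChevalleyDatum.x]))
    rw [e, T.τ_X]
    exact C.X_mem_group _ _
  | one => rw [T.τ_one]; exact one_mem _
  | mul x y hx hy ihx ihy => rw [T.τ_mul x hx y hy]; exact mul_mem ihx ihy
  | inv x hx ih => rw [T.τ_inv hx]; exact inv_mem ih

theorem τ_US {S S' : Set (Rt D)} (h : ∀ r ∈ S, T.π r ∈ S') {g : GL D.Idx K} (hg : g ∈ C.US K S) :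
    T.τ g ∈ C.US K S' := by
  induction hg using Subgroup.closure_induction with
  | mem x hx =>
    obtain ⟨r, hr, t, rfl⟩ := hx
    rw [T.τ_X]
    exact C.X_mem_US K (h r hr) _
  | one => rw [T.τ_one]; exact one_mem _
  | mul x y hx hy ihx ihy =>
    rw [T.τ_mul x (C.US_le_group S hx) y (C.US_le_group S hy)]
    exact mul_mem ihx ihy
  | inv x hx ih => rw [T.τ_inv (C.US_le_group S hx)]; exact inv_mem ih

theorem τ_diag {g : GL D.Idx K} (hg : g ∈ D.diagonalSubgroup K) : T.τ g ∈ D.diagonalSubgroup K := by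
  obtain ⟨c, rfl⟩ := C.mem_diagonal_iff.1 hg
  obtain ⟨c', hc⟩ := T.τ_HT c
  rw [hc]
  exact C.HT_mem_diagonal c'

theorem τ_borel {g : GL D.Idx K} (hg : g ∈ D.borelSubgroup K) : T.τ g ∈ D.borelSubgroup K := by
  obtain ⟨v, hv, k, hk, rfl⟩ := C.mem_borel_iff.1 hg
  rw [T.τ_mul v (C.US_le_group _ hv) k (C.diagonal_le_group hk)]
  exact C.mem_borel_iff.2 ⟨_, T.τ_US T.π_pos hv, _, T.τ_diag hk, rfl⟩

theorem τ_wprod : ∀ L : List (Fin D.rank), T.τ (C.wprod K L) = C.wprod K (L.map T.ρ)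
  | [] => T.τ_one
  | i :: L => by
    rw [C.wprod_cons, T.τ_mul _ (C.monomial_le_group (C.P_mem_monomial i)) _
      (C.monomial_le_group (C.wprod_mem_monomial L)), T.τ_P, τ_wprod L, List.map_cons, C.wprod_cons]

theorem f_zero (r : Rt D) : T.f r 0 = 0 := by
  have h := T.τ_X r 0
  rw [C.X_zero, T.τ_one] at h
  exact C.X_eq_one h.symm

theorem π_w (i : Fin D.rank) (r : Rt D) : T.π (C.w i r) = C.w (T.ρ i) (T.π r) := by
  have hP : ∀ i, C.P K i ∈ D.group K := fun i => C.monomial_le_group (C.P_mem_monomial i)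
  have e := congrArg T.τ (C.P_X_conj K i r 1)
  rw [T.τ_mul _ (mul_mem (hP i) (C.X_mem_group _ _)) _ (inv_mem (hP i)), T.τ_mul _ (hP i) _ (C.X_mem_group _ _),
    T.τ_inv (hP i), T.τ_P, T.τ_X, T.τ_X, C.P_X_conj] at e
  by_contra hne
  have h0 := C.X_eq_X K e (Ne.symm hne)
  rcases mul_eq_zero.1 h0 with h | h
  · rcases C.η_one (T.ρ i) (T.π r) with he | he <;> simp [he] at h
  · exact T.f_ne r 1 one_ne_zero h

theorem pprod_map_ρ : ∀ L : List (Fin D.rank), C.pprod (L.map T.ρ) = T.π * C.pprod L * T.π⁻¹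
  | [] => by simp [C.pprod_nil]
  | i :: L => by
    refine Equiv.ext fun r => ?_
    rw [List.map_cons, C.pprod_cons, pprod_map_ρ L, C.pprod_cons]
    simp only [Equiv.Perm.mul_apply, Core.sref_apply, T.π_w]

theorem τ_acts {n : GL D.Idx K} (hn : n ∈ D.monomialSubgroup K) {σ : Equiv.Perm (Rt D)}
    (h : C.Acts n σ) : T.τ n ∈ D.monomialSubgroup K ∧ C.Acts (T.τ n) (T.π * σ * T.π⁻¹) := by
  obtain ⟨c, L, rfl⟩ := C.exists_word_monomial hn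
  obtain ⟨c', hc⟩ := T.τ_HT c
  rw [T.τ_mul _ (C.HT_mem_group c) _ (C.monomial_le_group (C.wprod_mem_monomial L)), hc, T.τ_wprod,
    C.acts_unique K h (C.acts_HT_wprod K c L), ← T.pprod_map_ρ L]
  exact ⟨mul_mem (C.HT_mem_monomial c') (C.wprod_mem_monomial _), C.acts_HT_wprod K c' _⟩

theorem π_neg {r : Rt D} (h : r ∈ C.Neg) : T.π r ∈ C.Neg := by
  have := C.rev_neg (T.π_pos _ (C.rev_pos h))
  rwa [← T.π_rev, C.rev_rev] at this

theorem π_pos_iff (r : Rt D) : T.π r ∈ C.Pos ↔ r ∈ C.Pos := by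
  refine ⟨fun h => ?_, T.π_pos r⟩
  by_contra hn
  exact (C.neg_iff_not_pos _).1 (T.π_neg ((C.neg_iff_not_pos _).2 hn)) h

theorem mem_WT {σ : Equiv.Perm (Rt D)} : σ ∈ T.WT ↔ σ ∈ C.WG ∧ T.π * σ = σ * T.π := by
  simp [WT, Subgroup.mem_centralizer_iff]

theorem mem_WT_iff' {σ : Equiv.Perm (Rt D)} : σ ∈ T.WT ↔ σ ∈ C.WG ∧ T.π * σ * T.π⁻¹ = σ := by
  rw [T.mem_WT, mul_inv_eq_iff_eq_mul]

theorem mem_WT_of_acts {n : GL D.Idx K} (hn : n ∈ D.monomialSubgroup K) (hf : T.τ n = n)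
    {σ : Equiv.Perm (Rt D)} (h : C.Acts n σ) : σ ∈ T.WT := by
  obtain ⟨τ', hτ', hτ''⟩ := C.exists_acts hn
  have e := C.acts_unique K h hτ''
  refine T.mem_WT_iff'.2 ⟨e ▸ hτ', C.acts_unique K ?_ h⟩
  have := (T.τ_acts hn h).2
  rwa [hf] at this

theorem wO_mem (m : Fin T.nn) : T.wO m ∈ T.WT :=
  T.mem_WT_of_acts (T.nO_mono m) (T.W_fix _ (T.nO_mem m)) (T.nO_acts m)

theorem nO_fix (m : Fin T.nn) : T.nO m ∈ T.Fix := ⟨T.W_le (T.nO_mem m), T.W_fix _ (T.nO_mem m)⟩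

theorem wO_wO (m : Fin T.nn) (r : Rt D) : T.wO m (T.wO m r) = r :=
  Equiv.Perm.congr_fun (T.J_inv m) r

theorem pprod_coord : ∀ (L : List (Fin D.rank)) (r : Rt D) (j : Fin D.rank), j ∉ L →
    C.v (C.pprod L r) j = C.v r j
  | [], _, _, _ => rfl
  | i :: L, r, j, h => by
    rw [List.mem_cons, not_or] at h
    rw [C.pprod_cons, Equiv.Perm.mul_apply, Core.sref_apply, C.v_w, Pi.sub_apply, Pi.smul_apply,
      Pi.single_eq_of_ne h.1, smul_zero, sub_zero]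
    exact pprod_coord L r j h.2

theorem inv'_supp (m : Fin T.nn) {r : Rt D} (hr : r ∈ C.inv' (T.wO m)) {j : Fin D.rank}
    (hj : C.v r j ≠ 0) : T.idx j = m := by
  rw [← T.mem_J]
  by_contra hn
  have e := T.pprod_coord (T.J m) r j hn
  have h1 := C.v_nonneg hr.1 j
  have h2 := C.v_nonpos hr.2 j
  rw [show T.wO m = C.pprod (T.J m) from rfl, e] at h2
  omega

theorem neg_of_simple {σ : Equiv.Perm (Rt D)} (hσ : σ ∈ C.WG) {r : Rt D} (hr : r ∈ C.Pos)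
    (h : ∀ j, C.v r j ≠ 0 → σ (C.p j) ∈ C.Neg) : σ r ∈ C.Neg := by
  obtain ⟨L, rfl⟩ := C.mem_WG_iff.1 hσ
  rw [C.neg_iff_not_pos]
  intro hp
  refine C.v_ne_zero (C.pprod L r) (funext fun j => le_antisymm ?_ (C.v_nonneg hp j))
  rw [C.pprod_v]
  refine Finset.sum_nonpos fun k _ => ?_
  by_cases hk : C.v r k = 0
  · simp [hk]
  · exact mul_nonpos_of_nonneg_of_nonpos (C.v_nonneg hr k) (C.v_nonpos (h k hk) j)

theorem descent_orbit {σ : Equiv.Perm (Rt D)} (hσ : σ ∈ T.WT) {i : Fin D.rank}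
    (hi : σ (C.p i) ∈ C.Neg) {j : Fin D.rank} (hj : T.idx j = T.idx i) : σ (C.p j) ∈ C.Neg := by
  obtain ⟨k, rfl⟩ := T.cycle i j hj.symm
  clear hj
  induction k with
  | zero => exact hi
  | succ k ih =>
    rw [Function.iterate_succ_apply', ← T.π_p, ← Equiv.Perm.mul_apply, ← (T.mem_WT.1 hσ).2]
    exact T.π_neg ih

theorem inv'_split {σ : Equiv.Perm (Rt D)} (hσ : σ ∈ T.WT) {i : Fin D.rank} (hi : σ (C.p i) ∈ C.Neg) :
    C.inv' σ = C.inv' (T.wO (T.idx i)) ∪ T.wO (T.idx i) '' C.inv' (σ * T.wO (T.idx i)) ∧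
      Disjoint (C.inv' (T.wO (T.idx i))) (T.wO (T.idx i) '' C.inv' (σ * T.wO (T.idx i))) := by
  set m := T.idx i with hm
  have hA : ∀ r ∈ C.inv' (T.wO m), σ r ∈ C.Neg := fun r hr =>
    T.neg_of_simple (T.mem_WT.1 hσ).1 hr.1 fun j hj =>
      T.descent_orbit hσ hi (T.inv'_supp m hr hj)
  refine ⟨Set.ext fun r => ⟨fun hr => ?_, ?_⟩, Set.disjoint_left.2 ?_⟩
  · by_cases h : T.wO m r ∈ C.Pos
    · exact Or.inr ⟨T.wO m r, ⟨h, by rw [Equiv.Perm.mul_apply, T.wO_wO]; exact hr.2⟩, T.wO_wO m r⟩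
    · exact Or.inl ⟨hr.1, (C.neg_iff_not_pos _).2 h⟩
  · rintro (hr | ⟨s, ⟨hs, hs'⟩, rfl⟩)
    · exact ⟨hr.1, hA r hr⟩
    · refine ⟨?_, hs'⟩
      by_contra hn
      have hrev : (T.wO m s).rev ∈ C.inv' (T.wO m) := by
        refine ⟨C.rev_pos ((C.neg_iff_not_pos _).2 hn), ?_⟩
        rw [C.WG_rev ⟨T.wO m, (T.mem_WT.1 (T.wO_mem m)).1⟩]
        show (T.wO m (T.wO m s)).rev ∈ C.Neg
        rw [T.wO_wO]
        exact C.rev_neg hs
      have h2 := C.rev_pos (hA _ hrev)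
      rw [C.WG_rev ⟨σ, (T.mem_WT.1 hσ).1⟩, C.rev_rev] at h2
      exact (C.neg_iff_not_pos _).1 hs' h2
  · rintro r hr ⟨s, ⟨hs, -⟩, rfl⟩
    have := hr.2
    rw [T.wO_wO] at this
    exact (C.neg_iff_not_pos _).1 this hs

theorem len_split {σ : Equiv.Perm (Rt D)} (hσ : σ ∈ T.WT) {i : Fin D.rank} (hi : σ (C.p i) ∈ C.Neg) :
    C.len σ = C.len (T.wO (T.idx i)) + C.len (σ * T.wO (T.idx i)) := by
  obtain ⟨e, hd⟩ := T.inv'_split hσ hi
  simp only [Core.len]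
  rw [e, Set.ncard_union_eq hd, Set.ncard_image_of_injective _ (Equiv.injective _)]

theorem len_wO_pos (m : Fin T.nn) : 0 < C.len (T.wO m) := by
  obtain ⟨j, hj⟩ := List.exists_mem_of_ne_nil _ (T.J_ne m)
  exact (Set.ncard_pos (Set.toFinite _)).2 ⟨C.p j, C.p_pos j, T.J_neg m j hj⟩

/-- Induction along descents in the twisted Weyl group. -/
theorem WT_induction (motive : Equiv.Perm (Rt D) → Prop) (h1 : motive 1)
    (hs : ∀ σ ∈ T.WT, ∀ i, σ (C.p i) ∈ C.Neg → motive (σ * T.wO (T.idx i)) → motive σ) :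
    ∀ σ ∈ T.WT, motive σ := by
  intro σ
  induction hl : C.len σ using Nat.strong_induction_on generalizing σ with
  | _ l ih =>
    intro hσ
    by_cases h : σ = 1
    · exact h ▸ h1
    obtain ⟨L, hL⟩ := C.mem_WG_iff.1 (T.mem_WT.1 hσ).1
    obtain ⟨i, hi⟩ := C.exists_descent (L := L) (by rwa [hL])
    rw [hL] at hi
    refine hs σ hσ i hi (ih _ ?_ _ rfl (mul_mem hσ (T.wO_mem _)))
    have := T.len_split hσ hi
    have := T.len_wO_pos (T.idx i)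
    omega

/-- Every element of the twisted Weyl group has a representative in the twisted group. -/
theorem exists_rep {σ : Equiv.Perm (Rt D)} (hσ : σ ∈ T.WT) :
    ∃ n ∈ T.W, n ∈ D.monomialSubgroup K ∧ C.Acts n σ := by
  refine T.WT_induction (fun σ => ∃ n ∈ T.W, n ∈ D.monomialSubgroup K ∧ C.Acts n σ)
    ⟨1, one_mem _, one_mem _, fun r => ⟨1, fun t => by simp⟩⟩ ?_ σ hσ
  rintro σ - i - ⟨n, hn, hnm, hna⟩
  refine ⟨n * T.nO (T.idx i), mul_mem hn (T.nO_mem _), mul_mem hnm (T.nO_mono _), ?_⟩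
  have := C.acts_mul K hna (T.nO_acts (T.idx i))
  rwa [mul_assoc, show T.wO (T.idx i) * C.pprod (T.J (T.idx i)) = 1 from T.J_inv _, mul_one] at this

theorem WT_rev {σ : Equiv.Perm (Rt D)} (hσ : σ ∈ T.WT) (r : Rt D) : σ r.rev = (σ r).rev :=
  C.WG_rev ⟨σ, (T.mem_WT.1 hσ).1⟩ r

theorem π_inv' {σ : Equiv.Perm (Rt D)} {r : Rt D} (hr : r ∈ C.inv' σ) :
    T.π r ∈ C.inv' (T.π * σ * T.π⁻¹) :=
  ⟨T.π_pos r hr.1, by simpa using T.π_neg hr.2⟩

theorem π_inv'_WT {σ : Equiv.Perm (Rt D)} (hσ : σ ∈ T.WT) {r : Rt D} (hr : r ∈ C.inv' σ) :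
    T.π r ∈ C.inv' σ := by
  have := T.π_inv' hr
  rwa [(T.mem_WT_iff'.1 hσ).2] at this

section Finite

variable [Finite K]

/-- The fixed part of the unipotent group of an inversion set: it lies in the twisted group and has
the expected order. -/
theorem U_spec {σ : Equiv.Perm (Rt D)} (hσ : σ ∈ T.WT) :
    C.US K (C.inv' σ) ⊓ T.Fix ≤ T.W ∧ T.d ∣ C.len σ ∧
      Nat.card ↥(C.US K (C.inv' σ) ⊓ T.Fix) = T.q ^ (C.len σ / T.d) := by
  refine T.WT_induction (fun σ => C.US K (C.inv' σ) ⊓ T.Fix ≤ T.W ∧ T.d ∣ C.len σ ∧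
      Nat.card ↥(C.US K (C.inv' σ) ⊓ T.Fix) = T.q ^ (C.len σ / T.d)) ?_ ?_ σ hσ
  · have hbot : C.US K (C.inv' 1) = ⊥ := by
      rw [eq_bot_iff]
      refine (Subgroup.closure_le _).2 ?_
      rintro g ⟨r, hr, -⟩
      exact absurd hr.1 ((C.neg_iff_not_pos _).1 hr.2)
    simp [hbot, C.len_one]
  intro σ hσ i hi ih
  obtain ⟨ihW, ihd, ihc⟩ := ih
  set m := T.idx i with hm
  set σ' := σ * T.wO m with hσ'
  obtain ⟨eset, hdisj⟩ := T.inv'_split hσ hi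
  have hlen := T.len_split hσ hi
  have hσ'T : σ' ∈ T.WT := mul_mem hσ (T.wO_mem m)
  let A := C.US K (C.inv' (T.wO m))
  let B := C.US K (T.wO m '' C.inv' σ')
  let U := C.US K (C.inv' σ)
  have hAU : A ≤ U := C.US_mono K (by rw [eset]; exact Set.subset_union_left)
  have hBU : B ≤ U := C.US_mono K (by rw [eset]; exact Set.subset_union_right)
  have hBmap : (C.US K (C.inv' σ')).map (MulAut.conj (T.nO m)).toMonoidHom = B :=
    C.map_conj_US K (T.nO_acts m) _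
  have hcA : Nat.card A = Nat.card K ^ C.len (T.wO m) :=
    T.comm.card_US_inv' ⟨T.wO m, (T.mem_WT.1 (T.wO_mem m)).1⟩
  have hcB : Nat.card B = Nat.card K ^ C.len σ' := by
    rw [← hBmap, Subgroup.card_map_of_injective (MulEquiv.injective _)]
    exact T.comm.card_US_inv' ⟨σ', (T.mem_WT.1 hσ'T).1⟩
  have hcU : Nat.card U = Nat.card K ^ C.len σ :=
    T.comm.card_US_inv' ⟨σ, (T.mem_WT.1 hσ).1⟩
  have hAB : A ⊓ B = ⊥ := by
    rw [eq_bot_iff]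
    intro g hg
    obtain ⟨hgA, hgB⟩ := Subgroup.mem_inf.1 hg
    have h1 : T.nO m * g * (T.nO m)⁻¹ ∈ C.US K C.Neg :=
      C.conj_mem_US K (T.nO_acts m) (fun r hr => hr.2) hgA
    have h2 : T.nO m * g * (T.nO m)⁻¹ ∈ C.US K C.Pos :=
      C.conj_mem_US K (T.nO_acts m) (fun r hr => by
        obtain ⟨s, hs, rfl⟩ := hr
        show T.wO m (T.wO m s) ∈ C.Pos
        rw [T.wO_wO]; exact hs.1) hgB
    have h3 : T.nO m * g * (T.nO m)⁻¹ ∈ D.borelSubgroup K ⊓ C.US K C.Neg :=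
      ⟨C.posUS_le_borel h2, h1⟩
    rw [C.borel_inf_negUS, Subgroup.mem_bot, conj_eq_one_iff] at h3
    exact h3
  let mulAB : A × B → U := fun x => ⟨x.1.1 * x.2.1, mul_mem (hAU x.1.2) (hBU x.2.2)⟩
  have hinj : Function.Injective mulAB := fun x y h =>
    Subgroup.mul_injective_of_disjoint (disjoint_iff.2 hAB) (congrArg Subtype.val h)
  have hbij : Function.Bijective mulAB :=
    hinj.bijective_of_nat_card_le (le_of_eq (by rw [Nat.card_prod, hcA, hcB, hcU, ← pow_add, hlen]))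
  have hfix : ∀ a ∈ A, ∀ b ∈ B, T.τ (a * b) = a * b → T.τ a = a ∧ T.τ b = b := by
    intro a ha b hb h
    rw [T.τ_mul a (C.US_le_group _ ha) b (C.US_le_group _ hb)] at h
    have hb' : T.τ b ∈ B := by
      refine T.τ_US ?_ hb
      rintro r ⟨s, hs, rfl⟩
      refine ⟨T.π s, T.π_inv'_WT hσ'T hs, ?_⟩
      rw [← Equiv.Perm.mul_apply, ← (T.mem_WT.1 (T.wO_mem m)).2, Equiv.Perm.mul_apply]
    have ha' : T.τ a ∈ A := T.τ_US (fun r hr => T.π_inv'_WT (T.wO_mem m) hr) ha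
    have := hinj (a₁ := (⟨_, ha'⟩, ⟨_, hb'⟩)) (a₂ := (⟨a, ha⟩, ⟨b, hb⟩)) (Subtype.ext h)
    simp only [Prod.mk.injEq, Subtype.mk.injEq] at this
    exact this
  have hFmap : T.Fix.map (MulAut.conj (T.nO m)).toMonoidHom = T.Fix :=
    le_antisymm (by
      rintro x ⟨y, hy, rfl⟩
      exact mul_mem (mul_mem (T.nO_fix m) hy) (inv_mem (T.nO_fix m)))
      (fun x hx => ⟨(T.nO m)⁻¹ * x * T.nO m, mul_mem (mul_mem (inv_mem (T.nO_fix m)) hx) (T.nO_fix m),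
        show T.nO m * ((T.nO m)⁻¹ * x * T.nO m) * (T.nO m)⁻¹ = x by group⟩)
  have hBfix : (C.US K (C.inv' σ') ⊓ T.Fix).map (MulAut.conj (T.nO m)).toMonoidHom = B ⊓ T.Fix := by
    rw [Subgroup.map_inf _ _ _ (MulEquiv.injective _), hBmap, hFmap]
  have hAW : A ⊓ T.Fix ≤ T.W := fun g hg => T.base_mem m g hg.1 hg.2.2
  have hBW : B ⊓ T.Fix ≤ T.W := by
    rw [← hBfix, Subgroup.map_le_iff_le_comap]
    intro g hg
    exact mul_mem (mul_mem (T.nO_mem m) (ihW hg)) (inv_mem (T.nO_mem m))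
  have hdvd : T.d ∣ C.len σ := hlen ▸ dvd_add (T.base_dvd m) ihd
  refine ⟨?_, hdvd, ?_⟩
  · intro g hg
    obtain ⟨⟨⟨a, ha⟩, ⟨b, hb⟩⟩, e⟩ := hbij.2 ⟨g, hg.1⟩
    have e' : a * b = g := congrArg Subtype.val e
    subst e'
    obtain ⟨hfa, hfb⟩ := hfix a ha b hb hg.2.2
    exact mul_mem (hAW ⟨ha, C.US_le_group _ ha, hfa⟩) (hBW ⟨hb, C.US_le_group _ hb, hfb⟩)
  · let f : ↥(A ⊓ T.Fix) × ↥(B ⊓ T.Fix) → ↥(C.US K (C.inv' σ) ⊓ T.Fix) := fun x =>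
      ⟨x.1.1 * x.2.1, mul_mem (hAU x.1.2.1) (hBU x.2.2.1), mul_mem x.1.2.2 x.2.2.2⟩
    have hf : Function.Bijective f := by
      refine ⟨fun x y h => ?_, fun g => ?_⟩
      · have := hinj (a₁ := (⟨x.1.1, x.1.2.1⟩, ⟨x.2.1, x.2.2.1⟩)) (a₂ := (⟨y.1.1, y.1.2.1⟩, ⟨y.2.1, y.2.2.1⟩))
          (Subtype.ext (congrArg Subtype.val h :))
        simp only [Prod.mk.injEq, Subtype.mk.injEq] at this
        exact Prod.ext (Subtype.ext this.1) (Subtype.ext this.2)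
      · obtain ⟨⟨⟨a, ha⟩, ⟨b, hb⟩⟩, e⟩ := hbij.2 ⟨g.1, g.2.1⟩
        have e' : a * b = g.1 := congrArg Subtype.val e
        obtain ⟨hfa, hfb⟩ := hfix a ha b hb (by rw [e']; exact g.2.2.2)
        exact ⟨(⟨a, ha, C.US_le_group _ ha, hfa⟩, ⟨b, hb, C.US_le_group _ hb, hfb⟩), Subtype.ext e'⟩
    rw [← Nat.card_congr (Equiv.ofBijective f hf), Nat.card_prod]
    have hbc : Nat.card ↥(A ⊓ T.Fix) = T.q ^ (C.len (T.wO m) / T.d) := by
      refine Eq.trans ?_ (T.base_card m)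
      exact Nat.card_congr (Equiv.subtypeEquivRight fun g =>
        ⟨fun h => ⟨h.1, h.2.2⟩, fun h => ⟨h.1, C.US_le_group _ h.1, h.2⟩⟩)
    rw [hbc, ← hBfix, Subgroup.card_map_of_injective (MulEquiv.injective _), ihc, hlen,
      ← hm, ← hσ', Nat.add_div_of_dvd_right (show T.d ∣ C.len (T.wO m) from T.base_dvd m), pow_add]

end Finite

/-- The longest element belongs to the twisted Weyl group. -/
theorem exists_longest : ∃ σ ∈ T.WT, C.inv' σ = C.Pos := by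
  obtain ⟨L, hL⟩ := C.exists_longest
  refine ⟨C.pprod L, T.mem_WT_iff'.2 ⟨C.pprod_mem_WG L, ?_⟩,
    Set.ext fun r => ⟨fun h => h.1, fun h => ⟨h, hL r h⟩⟩⟩
  set σ := C.pprod L with hσ
  rw [← T.pprod_map_ρ]
  have hx : σ⁻¹ * C.pprod (L.map T.ρ) ∈ C.WG := mul_mem (inv_mem (C.pprod_mem_WG L)) (C.pprod_mem_WG _)
  have h0 : C.len (σ⁻¹ * C.pprod (L.map T.ρ)) = 0 := by
    rw [Core.len, Set.ncard_eq_zero]
    refine Set.eq_empty_of_forall_notMem fun r ⟨hr, hn⟩ => ?_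
    have h1 : C.pprod (L.map T.ρ) r ∈ C.Neg := by
      rw [T.pprod_map_ρ]
      refine T.π_neg (hL _ ?_)
      rw [← T.π_pos_iff]
      simpa using hr
    have h2 := hL _ (C.rev_pos hn)
    rw [C.WG_rev ⟨σ, C.pprod_mem_WG L⟩] at h2
    have h3 : (C.pprod (L.map T.ρ) r).rev ∈ C.Neg := by simpa [hσ] using h2
    have h4 := C.rev_pos h3
    rw [C.rev_rev] at h4
    exact (C.neg_iff_not_pos _).1 h1 h4
  exact (inv_mul_eq_one.1 (C.eq_one_of_len_zero hx h0)).symm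

theorem nf_unique {σ τ' : Equiv.Perm (Rt D)} {b c n n' u v : GL D.Idx K} (hb : b ∈ D.borelSubgroup K)
    (hc : c ∈ D.borelSubgroup K) (hn : n ∈ D.monomialSubgroup K) (hn' : n' ∈ D.monomialSubgroup K)
    (ha : C.Acts n σ) (ha' : C.Acts n' τ') (hu : u ∈ C.US K (C.inv' σ)) (hv : v ∈ C.US K (C.inv' τ'))
    (e : b * n * u = c * n' * v) : σ = τ' ∧ u = v := by
  obtain ⟨w, hwmem, hw⟩ := C.exists_acts hn
  obtain ⟨w', hwmem', hw'⟩ := C.exists_acts hn'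
  obtain rfl := C.acts_unique K ha hw
  obtain rfl := C.acts_unique K ha' hw'
  have hd : ∀ {m : GL D.Idx K} {ω : C.WG}, m ∈ D.monomialSubgroup K → C.Acts m (ω : Equiv.Perm (Rt D)) →
      m * (C.rep K ω)⁻¹ ∈ D.borelSubgroup K := fun {m ω} hm hmA => C.diagonal_le_borel
    (C.mem_diagonal_of_acts_one (mul_mem hm (inv_mem (C.rep_mem ω))) (by
      simpa using C.acts_mul K hmA (C.acts_inv K (C.acts_rep K ω))))
  obtain ⟨h1, -, h3⟩ := T.comm.normalForm_unique (σ := ⟨σ, hwmem⟩) (τ := ⟨τ', hwmem'⟩)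
    (mul_mem hb (hd (ω := ⟨σ, hwmem⟩) hn ha)) (mul_mem hc (hd (ω := ⟨τ', hwmem'⟩) hn' ha')) hu hv
    (by simpa [mul_assoc] using e)
  exact ⟨congrArg Subtype.val h1, h3⟩

theorem borel_fix {b : GL D.Idx K} (hb : b ∈ D.borelSubgroup K) (h : T.τ b = b) :
    ∃ v ∈ C.US K C.Pos, ∃ k ∈ D.diagonalSubgroup K, b = v * k ∧ T.τ v = v ∧ T.τ k = k := by
  obtain ⟨v, hv, k, hk, rfl⟩ := C.mem_borel_iff.1 hb
  rw [T.τ_mul v (C.US_le_group _ hv) k (C.diagonal_le_group hk)] at h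
  have := Subgroup.mul_injective_of_disjoint (disjoint_iff.2 C.US_inf_diagonal)
    (a₁ := (⟨_, T.τ_US T.π_pos hv⟩, ⟨_, T.τ_diag hk⟩)) (a₂ := (⟨v, hv⟩, ⟨k, hk⟩)) h
  simp only [Prod.mk.injEq, Subtype.mk.injEq] at this
  exact ⟨v, hv, k, hk, rfl, this.1, this.2⟩

section Finite

variable [Finite K]

theorem posU_fix_le : C.US K C.Pos ⊓ T.Fix ≤ T.W := by
  obtain ⟨σ, hσ, e⟩ := T.exists_longest
  have := (T.U_spec hσ).1
  rwa [e] at this

theorem borel_fix_mem {b : GL D.Idx K} (hb : b ∈ D.borelSubgroup K) (h : T.τ b = b) : b ∈ T.W := by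
  obtain ⟨v, hv, k, hk, rfl, hfv, hfk⟩ := T.borel_fix hb h
  exact mul_mem (T.posU_fix_le ⟨hv, C.US_le_group _ hv, hfv⟩) (T.diag_mem k hk hfk)

/-- The twisted normal form of a fixed element. -/
theorem exists_nf {g : GL D.Idx K} (hg : g ∈ D.group K) (hf : T.τ g = g) :
    ∃ σ ∈ T.WT, ∀ n ∈ T.W, n ∈ D.monomialSubgroup K → C.Acts n σ →
      ∃ b ∈ D.borelSubgroup K, T.τ b = b ∧ ∃ u ∈ C.US K (C.inv' σ), T.τ u = u ∧ g = b * n * u := by
  obtain ⟨σ, b, hb, u, hu, rfl⟩ := T.comm.exists_normalForm hg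
  have hbG := C.borel_le_group hb
  have huG := C.US_le_group _ hu
  have hrG := C.monomial_le_group (C.rep_mem (F := K) σ)
  obtain ⟨hτn, hτa⟩ := T.τ_acts (C.rep_mem σ) (C.acts_rep K σ)
  rw [T.τ_mul _ (mul_mem hbG hrG) _ huG, T.τ_mul _ hbG _ hrG] at hf
  obtain ⟨h1, h2⟩ := T.nf_unique (T.τ_borel hb) hb hτn (C.rep_mem σ) hτa (C.acts_rep K σ)
    (T.τ_US (fun r hr => T.π_inv' hr) hu) hu hf
  have hσ : (σ : Equiv.Perm (Rt D)) ∈ T.WT := T.mem_WT_iff'.2 ⟨σ.2, h1⟩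
  refine ⟨σ, hσ, fun n hn hnm hna => ⟨b * C.rep K σ * n⁻¹, ?_, ?_, u, hu, h2, by group⟩⟩
  · rw [mul_assoc]
    refine mul_mem hb (C.diagonal_le_borel (C.mem_diagonal_of_acts_one (mul_mem (C.rep_mem σ) (inv_mem hnm)) ?_))
    simpa using C.acts_mul K (C.acts_rep K σ) (C.acts_inv K hna)
  · rw [h2, mul_left_inj] at hf
    rw [T.τ_mul _ (mul_mem hbG hrG) _ (inv_mem (T.W_le hn)), T.τ_mul _ hbG _ hrG, hf, T.τ_inv (T.W_le hn),
      T.W_fix n hn]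

/-- The twisted group is the group of fixed points. -/
theorem W_eq : T.W = T.Fix := by
  refine le_antisymm (fun g hg => ⟨T.W_le hg, T.W_fix g hg⟩) fun g hg => ?_
  obtain ⟨σ, hσ, h⟩ := T.exists_nf hg.1 hg.2
  obtain ⟨n, hn, hnm, hna⟩ := T.exists_rep hσ
  obtain ⟨b, hb, hbf, u, hu, huf, rfl⟩ := h n hn hnm hna
  exact mul_mem (mul_mem (T.borel_fix_mem hb hbf) hn) ((T.U_spec hσ).1 ⟨hu, C.US_le_group _ hu, huf⟩)

theorem mem_W_iff {g : GL D.Idx K} : g ∈ T.W ↔ g ∈ D.group K ∧ T.τ g = g := by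
  rw [T.W_eq]; rfl

/-- The order of `U¹`. -/
theorem card_posU : Nat.card ↥(C.US K C.Pos ⊓ T.W) = T.q ^ (D.nroots / 2 / T.d) := by
  obtain ⟨σ, hσ, e⟩ := T.exists_longest
  have h := (T.U_spec hσ).2.2
  rw [Core.len, e, ← Nat.card_coe_set_eq, show Nat.card C.Pos = D.nroots / 2 from C.card_pos] at h
  rw [T.W_eq]
  exact h

/-- The order of `B¹`. -/
theorem card_borel : Nat.card ↥(D.borelSubgroup K ⊓ T.W) =
    T.q ^ (D.nroots / 2 / T.d) * Nat.card ↥(D.diagonalSubgroup K ⊓ T.W) := by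
  rw [← T.card_posU, ← Nat.card_prod]
  refine (Nat.card_congr (Equiv.ofBijective (fun x : ↥(C.US K C.Pos ⊓ T.W) × ↥(D.diagonalSubgroup K ⊓ T.W) =>
    (⟨x.1.1 * x.2.1, C.mem_borel_iff.2 ⟨_, x.1.2.1, _, x.2.2.1, rfl⟩, mul_mem x.1.2.2 x.2.2.2⟩ :
      ↥(D.borelSubgroup K ⊓ T.W))) ⟨?_, ?_⟩)).symm
  · intro x y hxy
    have := Subgroup.mul_injective_of_disjoint (disjoint_iff.2 C.US_inf_diagonal)
      (a₁ := (⟨x.1.1, x.1.2.1⟩, ⟨x.2.1, x.2.2.1⟩)) (a₂ := (⟨y.1.1, y.1.2.1⟩, ⟨y.2.1, y.2.2.1⟩))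
      (congrArg Subtype.val hxy :)
    simp only [Prod.mk.injEq, Subtype.mk.injEq] at this
    exact Prod.ext (Subtype.ext this.1) (Subtype.ext this.2)
  · rintro ⟨g, hgB, hgW⟩
    obtain ⟨v, hv, k, hk, rfl, hfv, hfk⟩ := T.borel_fix hgB (T.W_fix g hgW)
    exact ⟨(⟨v, hv, T.mem_W_iff.2 ⟨C.US_le_group _ hv, hfv⟩⟩, ⟨k, hk, T.diag_mem k hk hfk⟩), rfl⟩

/-- The order of the twisted group. -/
theorem card_W [Fintype T.WT] : Nat.card T.W =
    Nat.card ↥(D.borelSubgroup K ⊓ T.W) * ∑ σ : T.WT, T.q ^ (C.len (σ : Equiv.Perm (Rt D)) / T.d) := by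
  choose rep hrW hrN hrA using fun σ : T.WT => T.exists_rep σ.2
  rw [Finset.mul_sum]
  have e : ∀ σ : T.WT, Nat.card ↥(D.borelSubgroup K ⊓ T.W) * T.q ^ (C.len (σ : Equiv.Perm (Rt D)) / T.d) =
      Nat.card (↥(D.borelSubgroup K ⊓ T.W) × ↥(C.US K (C.inv' (σ : Equiv.Perm (Rt D))) ⊓ T.Fix)) := fun σ => by
    rw [Nat.card_prod, (T.U_spec σ.2).2.2]
  simp only [e]
  have : Finite (GL D.Idx K) := inferInstance
  rw [← Nat.card_sigma]
  refine (Nat.card_congr (Equiv.ofBijective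
    (fun x : Σ σ : T.WT, ↥(D.borelSubgroup K ⊓ T.W) × ↥(C.US K (C.inv' (σ : Equiv.Perm (Rt D))) ⊓ T.Fix) =>
      (⟨x.2.1.1 * rep x.1 * x.2.2.1, mul_mem (mul_mem x.2.1.2.2 (hrW _)) ((T.U_spec x.1.2).1 x.2.2.2)⟩ : T.W))
    ⟨?_, ?_⟩)).symm
  · rintro ⟨σ, ⟨b, hb⟩, ⟨u, hu⟩⟩ ⟨σ', ⟨c, hc⟩, ⟨v, hv⟩⟩ h
    have h' : b * rep σ * u = c * rep σ' * v := congrArg Subtype.val h
    obtain ⟨h1, rfl⟩ := T.nf_unique hb.1 hc.1 (hrN σ) (hrN σ') (hrA σ) (hrA σ') hu.1 hv.1 h'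
    obtain rfl := Subtype.ext h1
    obtain rfl : b = c := mul_right_cancel (mul_right_cancel h')
    rfl
  · rintro ⟨g, hg⟩
    obtain ⟨σ, hσ, h⟩ := T.exists_nf (T.W_le hg) (T.W_fix g hg)
    obtain ⟨b, hb, hbf, u, hu, huf, rfl⟩ := h _ (hrW ⟨σ, hσ⟩) (hrN ⟨σ, hσ⟩) (hrA ⟨σ, hσ⟩)
    exact ⟨⟨⟨σ, hσ⟩, ⟨b, hb, T.borel_fix_mem hb hbf⟩, ⟨u, hu, C.US_le_group _ hu, huf⟩⟩, rfl⟩

end Finite

end Tw

end Cfsg.Agent.Lib.LieTwisted.Twist
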