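import Cfsg.Agent.Lib.LieTwisted.Twist.BN
import Cfsg.Agent.Lib.LieTwisted.Twist.Poincare
import Cfsg.Agent.Lib.LieTwisted.IsogenyF4
import Cfsg.Agent.Lib.ChevStructure.CommAll
import Cfsg.Prelude.Def_LieTwisted

/-!
The endomorphism of F₄(K) in characteristic 2 given by the exceptional isogeny followed by the field
automorphism θ with 2θ² = 1, and the torus in the coordinates given by the fundamental characters.
-/

set_option autoImplicit false
set_option maxRecDepth 100000
set_option linter.unusedSectionVars false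

namespace Cfsg.Agent.Lib.LieTwisted.Twist.F4

open Cfsg.Lie ChevStructure
open scoped MatrixGroups

/-- The tables of type F₄. -/
noncomputable def C : Core chevF4 := Cert.F4.core

theorem comm : CommOK C := Cert.F4.core.commOK_mild mildF4

/-- The fundamental roots. -/
def pD : Fin chevF4.rank → Rt chevF4 := ![⟨33, by decide⟩, ⟨27, by decide⟩, ⟨25, by decide⟩, ⟨24, by decide⟩]

theorem p_eq : ∀ i, C.p i = pD i := fun i => Fin.ext <| by
  rw [C, Cert.F4.core, Cert.F4.certified.p_val]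
  revert i
  decide +kernel

theorem rootB (r : Rt chevF4) : Isogeny.dataF4.r' r.val < chevF4.nroots :=
  (Isogeny.dataF4_good.root r.val r.isLt).1

/-- The permutation of the roots exchanging long and short ones. -/
def π : Equiv.Perm (Rt chevF4) :=
  Function.Involutive.toPerm (fun r => ⟨Isogeny.dataF4.r' r.val, rootB r⟩) fun r =>
    Fin.ext (Isogeny.dataF4_good.root r.val r.isLt).2.1

theorem π_val (r : Rt chevF4) : (π r).val = Isogeny.dataF4.r' r.val := rfl

/-- The symmetry of the nodes. -/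
def ρ : Equiv.Perm (Fin chevF4.rank) :=
  Function.Involutive.toPerm (fun i => i.rev) fun i => Fin.rev_rev i

/-- The exponent of a root under the isogeny. -/
def lam (r : Rt chevF4) : ℕ := Isogeny.dataF4.lm r.val

theorem π_pD : ∀ i, π (pD i) = pD (ρ i) := by decide +kernel

theorem π_p (i : Fin chevF4.rank) : π (C.p i) = C.p (ρ i) := by rw [p_eq, p_eq, π_pD]

theorem π_rev : ∀ r : Rt chevF4, π r.rev = (π r).rev := by decide +kernel

theorem π_pos' : ∀ r : Rt chevF4, chevF4.nroots ≤ 2 * r.val → chevF4.nroots ≤ 2 * (π r).val := by decide +kernel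

theorem lam_rev : ∀ r : Rt chevF4, lam r.rev = lam r := by decide +kernel

theorem lam_pos : ∀ r : Rt chevF4, 0 < lam r := by decide +kernel

theorem lam_p : lam (pD ⟨0, by decide⟩) = 2 ∧ lam (pD ⟨1, by decide⟩) = 2 ∧ lam (pD ⟨2, by decide⟩) = 1 ∧
    lam (pD ⟨3, by decide⟩) = 1 := by decide +kernel

/-- The inverse of the Cartan matrix, by columns. -/
def invA : Fin chevF4.rank → Fin chevF4.rank → ℤ :=
  ![![2, 3, 4, 2], ![3, 6, 8, 4], ![2, 4, 6, 3], ![1, 2, 3, 2]]

variable {K : Type*} [Field K]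

/-- The conditions on the field automorphism θ. -/
structure Th (θ : K ≃+* K) (e : ℕ) : Prop where
  two : CharP K 2
  apply : ∀ t, θ t = t ^ e
  sq : ∀ t, θ (θ t) ^ 2 = t

theorem exists_th [Fintype K] {m : ℕ} (hK : Fintype.card K = 2 ^ (2 * m + 1)) :
    ∃ θ : K ≃+* K, Th θ (2 ^ m) := by
  have : Fact (Nat.Prime 2) := ⟨Nat.prime_two⟩
  have h2 : CharP K 2 := charP_of_card_eq_prime_pow hK
  have : ExpChar K 2 := ExpChar.prime Nat.prime_two
  have happ : ∀ t, iterateFrobeniusEquiv K 2 m t = t ^ 2 ^ m := fun t => by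
    simp [iterateFrobeniusEquiv_apply, iterateFrobenius_def]
  refine ⟨iterateFrobeniusEquiv K 2 m, h2, happ, fun t => ?_⟩
  rw [happ, happ, ← pow_mul, ← pow_mul, show 2 ^ m * (2 ^ m * 2) = 2 ^ (2 * m + 1) by ring, ← hK,
    FiniteField.pow_card]

variable {θ : K ≃+* K} {e : ℕ} (F : Th θ e)

include F

theorem Th.neg (t : K) : -t = t := by
  have := F.two
  exact CharTwo.neg_eq t

theorem Th.add_self (t : K) : t + t = 0 := by
  have := F.two
  exact CharTwo.add_self_eq_zero t

theorem Th.cast_odd {c : ℤ} (h : c % 2 = 1) : (c : K) = 1 := by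
  have := F.two
  rw [show c = 2 * (c / 2) + 1 by omega, Int.cast_add, Int.cast_mul, Int.cast_ofNat, CharTwo.two_eq_zero,
    zero_mul, zero_add, Int.cast_one]

theorem Th.cast_even {c : ℤ} (h : c % 2 = 0) : (c : K) = 0 := by
  have := F.two
  rw [show c = 2 * (c / 2) by omega, Int.cast_mul, Int.cast_ofNat, CharTwo.two_eq_zero, zero_mul]

omit F

/-- The field part of the endomorphism. -/
def mapθ (θ : K ≃+* K) : ↥(chevF4.group K) →* ↥(chevF4.group K) :=
  ((Matrix.GeneralLinearGroup.map (θ : K →+* K)).comp (chevF4.group K).subtype).codRestrict _ fun x => by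
    obtain ⟨x, hx⟩ := x
    show Matrix.GeneralLinearGroup.map (θ : K →+* K) x ∈ chevF4.group K
    induction hx using Subgroup.closure_induction with
    | mem g hg =>
      obtain ⟨r, t, hg⟩ := hg
      rw [show g = C.X K r t from C.eq_X (by rw [hg, ChevalleyDatum.x, dif_pos r.isLt]), C.X_map]
      exact C.X_mem_group _ _
    | one => rw [map_one]; exact one_mem _
    | mul a b _ _ ha hb => rw [map_mul]; exact mul_mem ha hb
    | inv a _ ha => rw [map_inv]; exact inv_mem ha

/-- The endomorphism of the group. -/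
noncomputable def τ₀ (F : Th θ e) : ↥(chevF4.group K) →* ↥(chevF4.group K) :=
  haveI : CharP K Isogeny.dataF4.p := F.two
  (Isogeny.sigma Isogeny.dataF4_good Isogeny.dataF4_disj).comp (mapθ θ)

open scoped Classical in
/-- The endomorphism, extended by the identity outside the group. -/
noncomputable def τ (F : Th θ e) (g : GL chevF4.Idx K) : GL chevF4.Idx K :=
  if h : g ∈ chevF4.group K then (τ₀ F ⟨g, h⟩ : GL chevF4.Idx K) else g

include F

theorem τ_mul : ∀ g ∈ chevF4.group K, ∀ h ∈ chevF4.group K, τ F (g * h) = τ F g * τ F h := by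
  intro g hg h hh
  simp only [τ, dif_pos hg, dif_pos hh, dif_pos (mul_mem hg hh)]
  rw [← Subgroup.coe_mul, ← map_mul]
  rfl

theorem τ_one : τ F (1 : GL chevF4.Idx K) = 1 := by
  have h := τ_mul F 1 (one_mem _) 1 (one_mem _)
  rw [mul_one] at h
  exact mul_eq_left.1 h.symm

theorem τ_inv {g : GL chevF4.Idx K} (hg : g ∈ chevF4.group K) : τ F g⁻¹ = (τ F g)⁻¹ := by
  refine (inv_eq_of_mul_eq_one_right ?_).symm
  rw [← τ_mul F g hg _ (inv_mem hg), mul_inv_cancel, τ_one]

/-- The endomorphism on root elements. -/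
theorem τ_X (r : Rt chevF4) (t : K) : τ F (C.X K r t) = C.X K (π r) (θ t ^ lam r) := by
  haveI : CharP K Isogeny.dataF4.p := F.two
  rw [τ, dif_pos (C.X_mem_group r t)]
  refine C.eq_X ?_
  rw [π_val]
  refine Isogeny.sigma_root Isogeny.dataF4_good Isogeny.dataF4_disj _ r.isLt ?_
  rw [← C.X_val_x]
  exact congrArg Units.val (C.X_map K (θ : K →+* K) r t)

theorem τ_nR (r : Rt chevF4) (u : Kˣ) :
    τ F (C.nR K r u) = C.nR K (π r) (Units.map (θ : K →* K) u ^ lam r) := by
  simp only [Core.nR, τ_mul F _ (mul_mem (C.X_mem_group _ _) (C.X_mem_group _ _)) _ (C.X_mem_group _ _),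
    τ_mul F _ (C.X_mem_group _ _) _ (C.X_mem_group _ _), τ_X F, π_rev, lam_rev, F.neg]
  simp [map_inv₀, inv_pow]

theorem τ_P (i : Fin chevF4.rank) : τ F (C.P K i) = C.P K (ρ i) := by
  rw [Core.P, τ_nR F, π_p, map_one, one_pow]; rfl

theorem τ_HT (c : Fin chevF4.rank → Kˣ) : ∃ c', τ F (C.HT K c) = C.HT K c' := by
  have key : ∀ L : List (Fin chevF4.rank),
      (L.map fun i => Core.hD K (C.p i) (c i)).prod ∈ chevF4.group K ∧
      τ F (L.map fun i => Core.hD K (C.p i) (c i)).prod ∈ chevF4.diagonalSubgroup K := by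
    intro L
    induction L with
    | nil => exact ⟨one_mem _, by rw [List.map_nil, List.prod_nil, τ_one F]; exact one_mem _⟩
    | cons i L ih =>
      obtain ⟨h1, h2⟩ := ih
      have hg : Core.hD K (C.p i) (c i) ∈ chevF4.group K := by
        rw [C.hD_eq_HT]; exact C.HT_mem_group _
      rw [List.map_cons, List.prod_cons]
      refine ⟨mul_mem hg h1, ?_⟩
      rw [τ_mul F _ hg _ h1]
      refine mul_mem ?_ h2
      rw [← C.hR_eq, τ_mul F _ (C.nR_mem_group _ _) _ (C.nR_mem_group _ _), τ_nR F, τ_nR F, π_p]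
      have : Units.map (θ : K →* K) (-1) ^ lam (C.p i) = (-1 : Kˣ) := Units.ext (by simp [F.neg])
      rw [this, C.hR_eq, C.hD_eq_HT]
      exact C.HT_mem_diagonal _
  obtain ⟨c', hc'⟩ := C.mem_diagonal_iff.1 (key (List.finRange _)).2
  exact ⟨c', by rw [C.HT_list K c, hc']⟩

omit F

theorem invA_spec : ∀ m k, ∑ j, invA m j * A chevF4 j (pD k) = if m = k then 1 else 0 := by decide +kernel

/-- The torus parameters with prescribed fundamental characters. -/
def cOf (χ : Fin chevF4.rank → Kˣ) : Fin chevF4.rank → Kˣ := fun j => ∏ m, χ m ^ invA m j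

theorem chA_cOf (χ : Fin chevF4.rank → Kˣ) (k : Fin chevF4.rank) : C.chA (cOf χ) (C.p k) = χ k := by
  simp only [Core.chA, cOf, p_eq, ← Finset.prod_zpow, ← zpow_mul]
  rw [Finset.prod_comm, Finset.prod_eq_single k]
  · rw [← C.zpow_fsum, invA_spec, if_pos rfl, zpow_one]
  · intro m _ hm
    rw [← C.zpow_fsum, invA_spec, if_neg hm, zpow_zero]
  · simp

/-- The torus element with prescribed fundamental characters. -/
noncomputable def hχ (χ : Fin chevF4.rank → Kˣ) : GL chevF4.Idx K := C.HT K (cOf χ)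

theorem hχ_mul (χ χ' : Fin chevF4.rank → Kˣ) : hχ χ * hχ χ' = hχ (χ * χ') := by
  rw [hχ, hχ, hχ, C.HT_mul]
  congr 1
  funext j
  simp [cOf, mul_zpow, Finset.prod_mul_distrib]

theorem HT_eq_hχ (c : Fin chevF4.rank → Kˣ) : C.HT K c = hχ fun m => C.chA c (C.p m) := by
  rw [hχ, C.HT_eq_T, C.HT_eq_T]
  congr 1
  funext m
  rw [chA_cOf]

theorem exists_hχ {h : GL chevF4.Idx K} (hh : h ∈ chevF4.diagonalSubgroup K) : ∃ χ, h = hχ χ := by
  obtain ⟨c, rfl⟩ := C.mem_diagonal_iff.1 hh
  exact ⟨_, HT_eq_hχ c⟩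

theorem hχ_mem_diagonal (χ : Fin chevF4.rank → Kˣ) : hχ χ ∈ chevF4.diagonalSubgroup K := C.HT_mem_diagonal _

theorem hχ_X (χ : Fin chevF4.rank → Kˣ) (s : Rt chevF4) (t : K) :
    hχ χ * C.X K s t * (hχ χ)⁻¹ = C.X K s ((C.chr K χ s : K) * t) := by
  rw [hχ, C.HT_X_conj, ← C.chr_chA K]
  congr 4
  funext m
  exact chA_cOf χ m

theorem hχ_X_p (χ : Fin chevF4.rank → Kˣ) (i : Fin chevF4.rank) (t : K) :
    hχ χ * C.X K (C.p i) t * (hχ χ)⁻¹ = C.X K (C.p i) ((χ i : K) * t) := by
  rw [hχ, C.HT_X_conj, chA_cOf]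

theorem X_inj {r : Rt chevF4} {t u : K} (h : C.X K r t = C.X K r u) : t = u := by
  refine sub_eq_zero.1 (C.X_eq_one (r := r) ?_)
  rw [sub_eq_add_neg, ← C.X_add, h, C.X_add, add_neg_cancel, C.X_zero]

theorem hχ_inj : Function.Injective (hχ : (Fin chevF4.rank → Kˣ) → GL chevF4.Idx K) := by
  intro χ χ' h
  funext i
  have h1 := hχ_X_p χ i (1 : K)
  rw [h, hχ_X_p χ' i 1] at h1
  exact Units.ext (by simpa using (X_inj h1).symm)

include F

/-- The image of a torus element. -/
theorem τ_hχ (χ : Fin chevF4.rank → Kˣ) :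
    τ F (hχ χ) = hχ fun i => Units.map (θ : K →* K) (χ (ρ i)) ^ lam (C.p (ρ i)) := by
  obtain ⟨c', hc'⟩ := τ_HT F (cOf χ)
  rw [show τ F (hχ χ) = _ from hc', HT_eq_hχ]
  congr 1
  funext i
  have hg : hχ χ ∈ chevF4.group K := C.HT_mem_group _
  have h1 := congrArg (τ F) (hχ_X_p χ (ρ i) (1 : K))
  rw [τ_mul F _ (mul_mem hg (C.X_mem_group _ _)) _ (inv_mem hg), τ_mul F _ hg _ (C.X_mem_group _ _), τ_inv F hg,
    show τ F (hχ χ) = _ from hc', τ_X F, τ_X F, map_one, one_pow, π_p, show ρ (ρ i) = i from Fin.rev_rev i,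
    C.HT_X_conj] at h1
  have := X_inj h1
  simp only [mul_one] at this
  exact Units.ext (by simpa using this)

end Cfsg.Agent.Lib.LieTwisted.Twist.F4
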