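import Cfsg.Agent.Lib.LieTwisted.Twist.F4Base

/-!
The root elements of ²F₄: the two classes, their multiplication, and the representatives of the two
twisted reflections as words in the generators.
-/

set_option autoImplicit false
set_option maxRecDepth 100000
set_option linter.unusedSectionVars false

namespace Cfsg.Agent.Lib.LieTwisted.Twist.F4

open Cfsg.Lie ChevStructure
open scoped MatrixGroups

/-- A root by its index. -/
def R (k : ℕ) (h : k < 48 := by decide) : Rt chevF4 := ⟨k, h⟩

/-- Two root subgroups commuting in characteristic 2. -/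
def Com2 (r s : Rt chevF4) : Prop :=
  r = s ∨ (s ≠ r.rev ∧ ∀ c ∈ chevF4.commTerms r.val s.val, c.2.1 % 2 = 0)

/-- A class of type B₂: a short, b long. -/
structure B2 (a b ab aab : Rt chevF4) : Prop where
  ne : a ≠ b ∧ a ≠ b.rev
  terms : ∃ c d : ℤ, c % 2 = 1 ∧ d % 2 = 1 ∧
    chevF4.commTerms b.val a.val = [(ab.val, c, 1, 1), (aab.val, d, 1, 2)]
  com_a_ab : Com2 a ab
  com_a_aab : Com2 a aab
  com_b_ab : Com2 b ab
  com_b_aab : Com2 b aab
  com_ab_aab : Com2 ab aab
  π_a : π a = b
  π_b : π b = a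
  π_ab : π ab = aab
  π_aab : π aab = ab
  lams : lam a = 2 ∧ lam b = 1 ∧ lam ab = 2 ∧ lam aab = 1

/-- An orthogonal pair: r short, s long. -/
structure Pair (r s : Rt chevF4) : Prop where
  com : Com2 r s
  π_r : π r = s
  π_s : π s = r
  lams : lam r = 2 ∧ lam s = 1

theorem b2_pos : B2 (R 27) (R 25) (R 28) (R 30) := by
  refine ⟨?_, ⟨1, -1, rfl, rfl, ?_⟩, ?_, ?_, ?_, ?_, ?_, ?_, ?_, ?_, ?_, ?_⟩ <;> try unfold Com2 <;> decide +kernel
  all_goals decide +kernel

theorem b2_neg : B2 (R 20) (R 22) (R 19) (R 17) := by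
  refine ⟨?_, ⟨-1, -1, rfl, rfl, ?_⟩, ?_, ?_, ?_, ?_, ?_, ?_, ?_, ?_, ?_, ?_⟩ <;> try unfold Com2 <;> decide +kernel
  all_goals decide +kernel

theorem pair_pos : Pair (R 33) (R 24) := by
  refine ⟨?_, ?_, ?_, ?_⟩ <;> try unfold Com2 <;> decide +kernel
  all_goals decide +kernel

theorem pair_neg : Pair (R 14) (R 23) := by
  refine ⟨?_, ?_, ?_, ?_⟩ <;> try unfold Com2 <;> decide +kernel
  all_goals decide +kernel

variable {K : Type*} [Field K] {θ : K ≃+* K} {e : ℕ} (F : Th θ e)

/-- The product in normal order. -/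
noncomputable def q4 (a b ab aab : Rt chevF4) (t s v w : K) : GL chevF4.Idx K :=
  C.X K b t * C.X K a s * C.X K ab v * C.X K aab w

/-- The fixed element of a class of type B₂. -/
noncomputable def gB (θ : K ≃+* K) (a b ab aab : Rt chevF4) (t u : K) : GL chevF4.Idx K :=
  C.X K a (θ t) * C.X K b t * C.X K ab (θ t * t + u) * C.X K aab (θ u ^ 2)

/-- The fixed element of a pair. -/
noncomputable def gP (θ : K ≃+* K) (r s : Rt chevF4) (t : K) : GL chevF4.Idx K :=
  C.X K r (θ t) * C.X K s t

include F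

theorem commute_com {r s : Rt chevF4} (h : Com2 r s) (t u : K) : Commute (C.X K r t) (C.X K s u) := by
  rcases h with rfl | ⟨h1, h2⟩
  · show _ * _ = _ * _
    rw [C.X_add, C.X_add, add_comm]
  · by_cases hrs : s = r
    · subst hrs
      show _ * _ = _ * _
      rw [C.X_add, C.X_add, add_comm]
    · have hh := comm.comm_X r s hrs h1 t u
      rw [List.prod_eq_one (fun x hx => ?_), mul_one] at hh
      · exact hh.symm
      · rw [List.mem_map] at hx
        obtain ⟨c, hc, rfl⟩ := hx
        rw [F.cast_even (h2 c hc), zero_mul, zero_mul]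
        by_cases hq : c.1 < chevF4.nroots
        · simp [Core.XN, hq, C.X_zero]
        · simp [Core.XN, hq]

theorem X_sq (r : Rt chevF4) (t : K) : C.X K r t * C.X K r t = 1 := by
  rw [C.X_add, F.add_self, C.X_zero]

variable {a b ab aab : Rt chevF4} (H : B2 a b ab aab)

include H

theorem swap (s t : K) : C.X K a s * C.X K b t =
    C.X K b t * C.X K a s * C.X K ab (s * t) * C.X K aab (s ^ 2 * t) := by
  obtain ⟨c, d, hc, hd, ht⟩ := H.terms
  rw [comm.comm_X b a H.ne.1 H.ne.2 t s, ht]
  simp only [List.map_cons, List.map_nil, List.prod_cons, List.prod_nil, mul_one, C.XN_fin, F.cast_odd hc,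
    F.cast_odd hd, F.neg, pow_one, one_mul, mul_assoc]
  rw [mul_comm t s, mul_comm t (s ^ 2)]

theorem gB_q4 (t u : K) : gB θ a b ab aab t u = q4 a b ab aab t (θ t) u (θ u ^ 2 + θ t ^ 2 * t) := by
  rw [gB, swap F H, q4, add_comm (θ u ^ 2), mul_assoc (C.X K b t * C.X K a (θ t) * C.X K ab (θ t * t)),
    (commute_com F H.com_ab_aab _ _).symm.eq, ← mul_assoc, mul_assoc (C.X K b t * C.X K a (θ t)), C.X_add,
    mul_assoc _ (C.X K aab _) (C.X K aab _), C.X_add]
  congr 3
  rw [← add_assoc, F.add_self, zero_add]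

theorem q4_mul (t s v w t' s' v' w' : K) : q4 a b ab aab t s v w * q4 a b ab aab t' s' v' w' =
    q4 a b ab aab (t + t') (s + s') (v + v' + s * t') (w + w' + s ^ 2 * t') := by
  have h1 : ∀ x y, Commute (C.X K ab x) (C.X K b y) := fun x y => (commute_com F H.com_b_ab y x).symm
  have h2 : ∀ x y, Commute (C.X K aab x) (C.X K b y) := fun x y => (commute_com F H.com_b_aab y x).symm
  have h3 : ∀ x y, Commute (C.X K ab x) (C.X K a y) := fun x y => (commute_com F H.com_a_ab y x).symm
  have h4 : ∀ x y, Commute (C.X K aab x) (C.X K a y) := fun x y => (commute_com F H.com_a_aab y x).symm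
  have h5 : ∀ x y, Commute (C.X K aab x) (C.X K ab y) := fun x y => (commute_com F H.com_ab_aab y x).symm
  calc q4 a b ab aab t s v w * q4 a b ab aab t' s' v' w'
      = C.X K b t * (C.X K a s * C.X K b t') * (C.X K ab v * C.X K aab w * C.X K a s') *
          C.X K ab v' * C.X K aab w' := by
        have : C.X K ab v * C.X K aab w * C.X K b t' = C.X K b t' * (C.X K ab v * C.X K aab w) :=
          ((h1 v t').mul_left (h2 w t')).eq
        simp only [q4, mul_assoc] at this ⊢
        rw [← mul_assoc (C.X K aab w) (C.X K b t'), ← mul_assoc (C.X K ab v), this]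
        simp only [mul_assoc]
    _ = C.X K b t * C.X K b t' * C.X K a s * (C.X K ab (s * t') * C.X K aab (s ^ 2 * t') * C.X K a s') *
          C.X K ab v * C.X K aab w * C.X K ab v' * C.X K aab w' := by
        rw [swap F H, ((h3 v s').mul_left (h4 w s')).eq]
        simp only [mul_assoc]
    _ = C.X K b (t + t') * C.X K a (s + s') * (C.X K ab (s * t') * C.X K ab v * C.X K ab v') *
          (C.X K aab (s ^ 2 * t') * C.X K aab w * C.X K aab w') := by
        rw [((h3 _ s').mul_left (h4 _ s')).eq, C.X_add K b, ← C.X_add K a s s']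
        simp only [mul_assoc]
        rw [← mul_assoc (C.X K aab (s ^ 2 * t')) (C.X K ab v), (h5 _ v).eq, mul_assoc (C.X K ab v),
          ← mul_assoc (C.X K aab w) (C.X K ab v'), (h5 _ v').eq, mul_assoc (C.X K ab v'),
          ← mul_assoc (C.X K aab (s ^ 2 * t')) (C.X K ab v'), (h5 _ v').eq, mul_assoc (C.X K ab v')]
    _ = _ := by
        rw [C.X_add, C.X_add, C.X_add, C.X_add, q4]
        congr 2
        · congr 1; ring
        · ring

theorem τ_q4 (t s v w : K) : τ F (q4 a b ab aab t s v w) =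
    q4 a b ab aab (θ s ^ 2) (θ t) (θ t * θ s ^ 2 + θ w) (θ t ^ 2 * θ s ^ 2 + θ v ^ 2) := by
  obtain ⟨la, lb, lab, laab⟩ := H.lams
  simp only [q4, τ_mul F _ (mul_mem (mul_mem (C.X_mem_group _ _) (C.X_mem_group _ _)) (C.X_mem_group _ _)) _
    (C.X_mem_group _ _), τ_mul F _ (mul_mem (C.X_mem_group _ _) (C.X_mem_group _ _)) _ (C.X_mem_group _ _),
    τ_mul F _ (C.X_mem_group _ _) _ (C.X_mem_group _ _), τ_X F, H.π_a, H.π_b, H.π_ab, H.π_aab, la, lb, lab, laab,
    pow_one]
  rw [swap F H, ← C.X_add K ab (θ t * θ s ^ 2), ← C.X_add K aab (θ t ^ 2 * θ s ^ 2)]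
  simp only [mul_assoc]
  rw [← mul_assoc (C.X K aab _) (C.X K aab (θ v ^ 2)), C.X_add, (commute_com F H.com_ab_aab _ _).symm.eq]

theorem τ_gB (t u : K) : τ F (gB θ a b ab aab t u) = gB θ a b ab aab t u := by
  rw [gB_q4 F H, τ_q4 F H]
  have h1 := F.sq t
  have h2 := F.sq u
  have key : θ (θ u ^ 2 + θ t ^ 2 * t) = u + t * θ t := by
    rw [map_add, map_mul, map_pow, map_pow, h1, h2]
  rw [h1, key]
  congr 1
  · rw [mul_comm (θ t) t, add_left_comm, F.add_self, add_zero]
  · ring

theorem gB_mul (t u t' u' : K) : gB θ a b ab aab t u * gB θ a b ab aab t' u' =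
    gB θ a b ab aab (t + t') (u + u' + θ t * t') := by
  rw [gB_q4 F H, gB_q4 F H, gB_q4 F H, q4_mul F H, map_add]
  congr 1
  have h1 := F.sq t
  have := F.two
  simp only [map_add, map_mul, CharTwo.add_sq, mul_pow, h1]
  linear_combination (-(t * θ t' ^ 2)) * (CharTwo.two_eq_zero (R := K))

omit H

variable {r s : Rt chevF4} (P : Pair r s)

include P

theorem τ_gP (t : K) : τ F (gP θ r s t) = gP θ r s t := by
  rw [gP, τ_mul F _ (C.X_mem_group _ _) _ (C.X_mem_group _ _), τ_X F, τ_X F, P.π_r, P.π_s, P.lams.1, P.lams.2,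
    F.sq, pow_one, (commute_com F P.com _ _).eq]

theorem gP_mul (t u : K) : gP θ r s t * gP θ r s u = gP θ r s (t + u) := by
  rw [gP, gP, gP, map_add, ← C.X_add, ← C.X_add, mul_assoc (C.X K r _), ← mul_assoc (C.X K s t),
    (commute_com F P.com (θ u) t).symm.eq]
  simp only [mul_assoc]

omit P

/-- The twisted group. -/
abbrev G (K : Type*) [Field K] (e : ℕ) : Subgroup (GL chevF4.Idx K) := Cfsg.Lie.twistedF4 K e

theorem val_gB (a b ab aab : Rt chevF4) (t u : K) :
    ((gB θ a b ab aab t u : GL chevF4.Idx K) : Matrix chevF4.Idx chevF4.Idx K) =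
      chevF4.wordMat K (b2ClassWord e a.val b.val ab.val aab.val t u) := by
  simp [gB, b2ClassWord, ChevalleyDatum.wordMat, Core.X_val, C.xI_eq_x, F.apply, pow_succ, pow_mul', mul_assoc]

theorem val_gP (r s : Rt chevF4) (t : K) :
    ((gP θ r s t : GL chevF4.Idx K) : Matrix chevF4.Idx chevF4.Idx K) =
      chevF4.wordMat K (f4PairWord e r.val s.val t) := by
  simp [gP, f4PairWord, ChevalleyDatum.wordMat, Core.X_val, C.xI_eq_x, F.apply]

theorem gB_mem (t u : K) : gB θ (R 27) (R 25) (R 28) (R 30) t u ∈ G K e ∧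
    gB θ (R 20) (R 22) (R 19) (R 17) t u ∈ G K e :=
  ⟨Subgroup.subset_closure ⟨_, Or.inr ⟨t, u, Or.inl rfl⟩, val_gB F _ _ _ _ t u⟩,
    Subgroup.subset_closure ⟨_, Or.inr ⟨t, u, Or.inr rfl⟩, val_gB F _ _ _ _ t u⟩⟩

theorem gP_mem (t : K) : gP θ (R 33) (R 24) t ∈ G K e ∧ gP θ (R 14) (R 23) t ∈ G K e :=
  ⟨Subgroup.subset_closure ⟨_, Or.inl ⟨t, Or.inl rfl⟩, val_gP F _ _ t⟩,
    Subgroup.subset_closure ⟨_, Or.inl ⟨t, Or.inr rfl⟩, val_gP F _ _ t⟩⟩

/-- Induction over the generators of the twisted group. -/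
theorem G_induction {p : GL chevF4.Idx K → Prop} (h1 : p 1)
    (hB : ∀ t u, p (gB θ (R 27) (R 25) (R 28) (R 30) t u) ∧ p (gB θ (R 20) (R 22) (R 19) (R 17) t u))
    (hP : ∀ t, p (gP θ (R 33) (R 24) t) ∧ p (gP θ (R 14) (R 23) t))
    (hmul : ∀ x ∈ G K e, ∀ y ∈ G K e, p x → p y → p (x * y)) (hinv : ∀ x ∈ G K e, p x → p x⁻¹)
    {g : GL chevF4.Idx K} (hg : g ∈ G K e) : p g := by
  induction hg using Subgroup.closure_induction with
  | mem x hx =>
    obtain ⟨w, (⟨t, rfl | rfl⟩ | ⟨t, u, rfl | rfl⟩), hx⟩ := hx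
    · exact (Units.ext (hx.trans (val_gP F (R 33) (R 24) t).symm) : x = _) ▸ (hP t).1
    · exact (Units.ext (hx.trans (val_gP F (R 14) (R 23) t).symm) : x = _) ▸ (hP t).2
    · exact (Units.ext (hx.trans (val_gB F (R 27) (R 25) (R 28) (R 30) t u).symm) : x = _) ▸ (hB t u).1
    · exact (Units.ext (hx.trans (val_gB F (R 20) (R 22) (R 19) (R 17) t u).symm) : x = _) ▸ (hB t u).2
  | one => exact h1
  | mul x y hx hy ihx ihy => exact hmul x hx y hy ihx ihy
  | inv x hx ihx => exact hinv x hx ihx

theorem G_le : G K e ≤ chevF4.group K := fun g hg => by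
  refine G_induction F (p := fun g => g ∈ chevF4.group K) (one_mem _) (fun t u => ?_) (fun t => ?_)
    (fun _ _ _ _ => mul_mem) (fun _ _ => inv_mem) hg
  · exact ⟨mul_mem (mul_mem (mul_mem (C.X_mem_group _ _) (C.X_mem_group _ _)) (C.X_mem_group _ _)) (C.X_mem_group _ _),
      mul_mem (mul_mem (mul_mem (C.X_mem_group _ _) (C.X_mem_group _ _)) (C.X_mem_group _ _)) (C.X_mem_group _ _)⟩
  · exact ⟨mul_mem (C.X_mem_group _ _) (C.X_mem_group _ _), mul_mem (C.X_mem_group _ _) (C.X_mem_group _ _)⟩

theorem G_fix : ∀ g ∈ G K e, τ F g = g := fun g hg => by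
  refine G_induction F (p := fun g => τ F g = g) (τ_one F)
    (fun t u => ⟨τ_gB F b2_pos t u, τ_gB F b2_neg t u⟩) (fun t => ⟨τ_gP F pair_pos t, τ_gP F pair_neg t⟩)
    (fun x hx y hy h h' => by rw [τ_mul F x (G_le F hx) y (G_le F hy), h, h'])
    (fun x hx h => by rw [τ_inv F (G_le F hx), h]) hg

/-! ### representatives of the twisted reflections -/

theorem nR_R (k : ℕ) (h : k < 48) (k' : ℕ) (h' : k' < 48) (hk : (R k h).rev = R k' h') (u : Kˣ) :
    C.nR K (R k h) u = C.X K (R k h) u * C.X K (R k' h') (↑u⁻¹ : K) * C.X K (R k h) u := by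
  rw [Core.nR, hk, F.neg]

/-- The representative of the reflection of the pair with a parameter. -/
theorem nPair_mem (u : Kˣ) :
    C.nR K (R 33) (Units.map (θ : K →* K) u) * C.nR K (R 24) u ∈ G K e := by
  have c1 : Com2 (R 33) (R 23) := by unfold Com2; decide +kernel
  have c2 : Com2 (R 14) (R 24) := by unfold Com2; decide +kernel
  have c3 := pair_pos.com
  have h : C.nR K (R 33) (Units.map (θ : K →* K) u) * C.nR K (R 24) u =
      gP θ (R 33) (R 24) u * gP θ (R 14) (R 23) (↑u⁻¹ : K) * gP θ (R 33) (R 24) u := by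
    rw [nR_R F 33 (by decide) 14 (by decide) (by decide), nR_R F 24 (by decide) 23 (by decide) (by decide), gP, gP,
      Units.coe_map, Units.val_inv_eq_inv_val, Units.val_inv_eq_inv_val]
    simp only [Units.coe_map, MonoidHom.coe_coe, map_inv₀]
    set A := C.X K (R 33) (θ (u : K))
    set B := C.X K (R 14) (θ (u : K))⁻¹
    set D := C.X K (R 24) (u : K)
    set E' := C.X K (R 23) (u : K)⁻¹
    have hAD : D * A = A * D := (commute_com F c3 _ _).symm.eq
    have hAE : E' * A = A * E' := (commute_com F c1 _ _).symm.eq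
    have hBD : D * B = B * D := (commute_com F c2 _ _).symm.eq
    calc A * B * A * (D * E' * D) = A * B * (A * D) * E' * D := by simp only [mul_assoc]
      _ = A * B * D * (A * E') * D := by rw [← hAD]; simp only [mul_assoc]
      _ = A * (B * D) * E' * A * D := by rw [← hAE]; simp only [mul_assoc]
      _ = A * D * (B * E') * (A * D) := by rw [← hBD]; simp only [mul_assoc]
  rw [h]
  exact mul_mem (mul_mem (gP_mem F _).1 (gP_mem F _).2) (gP_mem F _).1

theorem nO0_mem : C.wprod K [(⟨0, by decide⟩ : Fin chevF4.rank), ⟨3, by decide⟩] ∈ G K e := by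
  have h := nPair_mem F (1 : Kˣ)
  rw [map_one] at h
  show C.P K _ * (C.P K _ * 1) ∈ G K e
  rw [mul_one, Core.P, Core.P, p_eq, p_eq]
  exact h

theorem P_conj (i : Fin chevF4.rank) (r r' : Rt chevF4) (h : Data.F4.fast.actW [i.val] r.val = r'.val) :
    C.P K i * C.X K r 1 * C.P K i = C.X K r' 1 := by
  have hP : (C.P K i)⁻¹ = C.P K i := by
    rw [Core.P, C.nR_inv]
    exact congrArg _ (Units.ext (by simp [F.neg]))
  have hw : C.w i r = r' := Fin.ext <| by
    rw [← h, ← C.sref_apply, show C.sref i = C.pprod [i] from by simp [Core.pprod]]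
    exact Cert.F4.certified.actW_eq [i] r
  have := C.P_X_conj K i r 1
  rw [hP, hw] at this
  rw [this, mul_one]
  congr 1
  rcases C.η_one i r with h | h <;> simp [h, F.neg]

theorem nO1_mem :
    C.wprod K [(⟨2, by decide⟩ : Fin chevF4.rank), ⟨1, by decide⟩, ⟨2, by decide⟩, ⟨1, by decide⟩] ∈ G K e := by
  set i : Fin chevF4.rank := ⟨1, by decide⟩
  set j : Fin chevF4.rank := ⟨2, by decide⟩
  set na := C.P K i with hna
  set nb := C.P K j with hnb
  let O : Rt chevF4 → GL chevF4.Idx K := fun r => C.X K r 1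
  set A := O (R 27)
  set B := O (R 25)
  set Cc := O (R 28)
  set E' := O (R 30)
  set a' := O (R 20)
  set c' := O (R 19)
  set e' := O (R 17)
  have sq : ∀ r, O r * O r = 1 := fun r => X_sq F r 1
  have nR1 : ∀ k h k' h', (R k h).rev = R k' h' → C.nR K (R k h) 1 = O (R k h) * O (R k' h') * O (R k h) :=
    fun k h k' h' hk => by rw [nR_R F k h k' h' hk]; simp [O]
  have ena : na = A * a' * A := by
    rw [hna, Core.P, p_eq]; exact nR1 27 (by decide) 20 (by decide) (by decide)
  have enb : nb = B * O (R 22) * B := by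
    rw [hnb, Core.P, p_eq]; exact nR1 25 (by decide) 22 (by decide) (by decide)
  have sa : na * na = 1 := by
    rw [ena]
    calc A * a' * A * (A * a' * A) = A * a' * (A * A) * a' * A := by simp only [mul_assoc]
      _ = A * (a' * a') * A := by rw [sq]; simp only [mul_one, mul_assoc]
      _ = 1 := by rw [sq, mul_one, sq]
  have sb : nb * nb = 1 := by
    rw [enb]
    calc B * O (R 22) * B * (B * O (R 22) * B) = B * O (R 22) * (B * B) * O (R 22) * B := by simp only [mul_assoc]
      _ = B * (O (R 22) * O (R 22)) * B := by rw [sq]; simp only [mul_one, mul_assoc]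
      _ = 1 := by rw [sq, mul_one, sq]
  have cj : ∀ (k : Fin chevF4.rank) r r', Data.F4.fast.actW [k.val] r.val = r'.val →
      C.P K k * O r * C.P K k = O r' := fun k r r' h => P_conj F k r r' h
  have bA : nb * A * nb = Cc := cj j _ _ (by decide +kernel)
  have ba : nb * a' * nb = c' := cj j _ _ (by decide +kernel)
  have bC : nb * Cc * nb = A := cj j _ _ (by decide +kernel)
  have aC : na * Cc * na = Cc := cj i _ _ (by decide +kernel)
  have bB : nb * B * nb = O (R 22) := cj j _ _ (by decide +kernel)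
  have am : na * O (R 22) * na = e' := cj i _ _ (by decide +kernel)
  have be : nb * e' * nb = e' := cj j _ _ (by decide +kernel)
  have com : ∀ r s, Com2 r s → O r * O s = O s * O r := fun r s h => (commute_com F h 1 1).eq
  have AC : A * Cc = Cc * A := com _ _ b2_pos.com_a_ab
  have swAB : A * B = B * A * Cc * E' := by
    have := swap F b2_pos (1 : K) 1
    simpa [O] using this
  have eC : e' * Cc = Cc * e' * (a' * B) := by
    have h1 : (R 17) ≠ R 28 ∧ (R 17) ≠ (R 28).rev := by decide +kernel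
    have h2 : chevF4.commTerms 28 17 = [(20, 1, 1, 1), (25, 1, 2, 1)] := by decide +kernel
    have := comm.comm_X (R 28) (R 17) h1.1 h1.2 (1 : K) 1
    rw [show (R 28).val = 28 from rfl, show (R 17).val = 17 from rfl, h2] at this
    simp only [List.map_cons, List.map_nil, List.prod_cons, List.prod_nil, mul_one, Int.cast_one,
      F.neg, one_pow, Core.XN, dif_pos (show 20 < chevF4.nroots by decide),
      dif_pos (show 25 < chevF4.nroots by decide)] at this
    exact this
  have e17a : a' * e' = e' * a' := com _ _ (by unfold Com2; decide +kernel)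
  have e17B : B * e' = e' * B := com _ _ (by unfold Com2; decide +kernel)
  have eCe : e' * Cc * e' = Cc * a' * B := by
    calc e' * Cc * e' = Cc * e' * (a' * (B * e')) := by rw [eC]; simp only [mul_assoc]
      _ = Cc * e' * ((a' * e') * B) := by rw [e17B]; simp only [mul_assoc]
      _ = Cc * (e' * e') * a' * B := by rw [e17a]; simp only [mul_assoc]
      _ = Cc * a' * B := by rw [sq, mul_one]
  set w := nb * na * nb with hw
  have sw : w * w = 1 := by
    calc w * w = nb * na * (nb * nb) * na * nb := by rw [hw]; simp only [mul_assoc]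
      _ = nb * (na * na) * nb := by rw [sb]; simp only [mul_one, mul_assoc]
      _ = 1 := by rw [sa, mul_one, sb]
  have wA : w * A * w = A := by
    calc w * A * w = nb * (na * (nb * A * nb) * na) * nb := by rw [hw]; simp only [mul_assoc]
      _ = A := by rw [bA, aC, bC]
  have wB : w * B * w = e' := by
    calc w * B * w = nb * (na * (nb * B * nb) * na) * nb := by rw [hw]; simp only [mul_assoc]
      _ = e' := by rw [bB, am, be]
  have Cc' : Cc * c' = w * Cc := by
    calc Cc * c' = nb * A * (nb * nb) * a' * nb := by rw [← bA, ← ba]; simp only [mul_assoc]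
      _ = nb * (A * a') * nb := by rw [sb]; simp only [mul_one, mul_assoc]
      _ = nb * (na * A) * nb := by
          rw [ena]
          calc nb * (A * a') * nb = nb * (A * a' * (A * A)) * nb := by rw [sq, mul_one]
            _ = _ := by simp only [mul_assoc]
      _ = nb * na * (nb * nb) * A * nb := by rw [sb]; simp only [mul_one, mul_assoc]
      _ = w * (nb * A * nb) := by rw [hw]; simp only [mul_assoc]
      _ = w * Cc := by rw [bA]
  have ABw : A * B * w = w * A * e' := by
    calc A * B * w = w * (w * A * w) * (w * B * w) := by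
          calc A * B * w = w * w * A * (w * w) * B * w := by rw [sw]; simp only [one_mul, mul_one, mul_assoc]
            _ = _ := by simp only [mul_assoc]
      _ = w * A * e' := by rw [wA, wB]
  have CB : Cc * B = B * Cc := (com _ _ b2_pos.com_b_ab).symm
  have EA : E' * A = A * E' := (com _ _ b2_pos.com_a_aab).symm
  have EB : E' * B = B * E' := (com _ _ b2_pos.com_b_aab).symm
  have ABAB : A * B * A * B * E' = Cc := by
    calc A * B * A * B * E' = B * A * (Cc * (E' * A)) * B * E' := by rw [swAB]; simp only [mul_assoc]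
      _ = B * A * (Cc * A) * (E' * B) * E' := by rw [EA]; simp only [mul_assoc]
      _ = B * (A * A) * (Cc * B) * (E' * E') := by rw [← AC, EB]; simp only [mul_assoc]
      _ = (B * B) * Cc := by rw [sq, sq, CB]; simp only [mul_one, mul_assoc]
      _ = Cc := by rw [sq, one_mul]
  have key : A * B * Cc * (c' * e') * (A * B * E') = nb * na * nb * na := by
    calc A * B * Cc * (c' * e') * (A * B * E') = A * B * (Cc * c') * e' * (A * B * E') := by simp only [mul_assoc]
      _ = (A * B * w) * Cc * e' * (A * B * E') := by rw [Cc']; simp only [mul_assoc]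
      _ = w * A * (e' * Cc * e') * (A * B * E') := by rw [ABw]; simp only [mul_assoc]
      _ = w * (A * Cc) * a' * (A * A) * B * A * B * E' := by rw [eCe, sq]; simp only [mul_one, mul_assoc]
      _ = w * Cc * (A * a' * A) * (A * B * A * B * E') := by rw [AC]; simp only [mul_assoc]
      _ = w * Cc * na * Cc := by rw [ABAB, ← ena]
      _ = w * na * (na * Cc * na) * Cc := by
          calc w * Cc * na * Cc = w * (na * na) * Cc * na * Cc := by rw [sa, mul_one]
            _ = _ := by simp only [mul_assoc]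
      _ = w * na := by rw [aC, mul_assoc (w * na), sq, mul_one]
      _ = _ := by rw [hw]
  have e1 : C.wprod K [j, i, j, i] = gB θ (R 27) (R 25) (R 28) (R 30) 1 0 * gB θ (R 20) (R 22) (R 19) (R 17) 0 1 *
      gB θ (R 27) (R 25) (R 28) (R 30) 1 1 := by
    have hz : (1 : K) + 1 = 0 := F.add_self 1
    have g1 : gB θ (R 27) (R 25) (R 28) (R 30) (1 : K) 0 = A * B * Cc := by simp [gB, C.X_zero, A, B, Cc, O]
    have g2 : gB θ (R 20) (R 22) (R 19) (R 17) (0 : K) 1 = c' * e' := by simp [gB, C.X_zero, c', e', O]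
    have g3 : gB θ (R 27) (R 25) (R 28) (R 30) (1 : K) 1 = A * B * E' := by simp [gB, C.X_zero, hz, A, B, E', O]
    rw [g1, g2, g3, key]
    simp [Core.wprod, hna, hnb, mul_assoc]
  rw [e1]
  exact mul_mem (mul_mem (gB_mem F _ _).1 (gB_mem F _ _).2) (gB_mem F _ _).1

end Cfsg.Agent.Lib.LieTwisted.Twist.F4
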