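import Cfsg.Agent.Lib.LieTwisted.Twist.Orth
import Mathlib.LinearAlgebra.LinearIndependent.Basic
import Mathlib.FieldTheory.Fixed

/-!
Perfectness and faithfulness of the torus for twisted groups with orthogonal orbits.
-/

set_option autoImplicit false
set_option linter.unusedSectionVars false

namespace Cfsg.Agent.Lib.LieTwisted.Twist

open Cfsg.Lie ChevStructure
open scoped MatrixGroups commutatorElement

namespace Orth

variable {D : ChevalleyDatum} {C : Core D} {K : Type*} [Field K] (O : Orth C K)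

/-- Two roots whose root subgroups commute for the tabulated reason. -/
def Com (r r' : Rt D) : Prop := r' = r ∨ (r' ≠ r.rev ∧ D.commTerms r.val r'.val = [])

/-- The accumulated sign of a power of the endomorphism on a root subgroup. -/
def Eps : ℕ → Rt D → ℤ
  | 0, _ => 1
  | k + 1, r => O.ε ((O.π : _ → _)^[k] r) * Eps k r

/-- The data expressing a long root element as a commutator. -/
structure Seed where
  m1 : Fin O.nn
  moved : O.ρ (O.os m1) ≠ O.os m1
  b : Rt D
  r0 : Rt D
  c : ℤ
  c_sq : c * c = 1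
  π_b : (O.π : _ → _)^[O.n] b = b
  eps_b : O.Eps O.n b = 1
  π_r0 : O.π r0 = r0
  ε_r0 : O.ε r0 = 1
  ne_b : b ≠ C.p (O.os m1) ∧ b ≠ (C.p (O.os m1)).rev
  terms : D.commTerms (C.p (O.os m1)).val b.val = [(r0.val, c, 1, 1)]
  comAB : ∀ k, 0 < k → k < O.n → Com (C.p (O.os m1)) ((O.π : _ → _)^[k] b)
  comBB : ∀ k < O.n, ∀ l < O.n, Com ((O.π : _ → _)^[k] b) ((O.π : _ → _)^[l] b)
  comRA : ∀ k < O.n, Com r0 (C.p ((O.ρ : _ → _)^[k] (O.os m1)))
  comRB : ∀ k < O.n, Com r0 ((O.π : _ → _)^[k] b)
  reach : ∀ m : Fin O.nn, O.ρ (O.os m) = O.os m → ∀ s : Bool,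
    ∃ L : List (Fin O.nn), C.pprod (L.flatMap O.Jl) r0 = sd s (C.p (O.os m))

include O

theorem commute_of_com {r r' : Rt D} (h : Com r r') (t u : K) : Commute (C.X K r t) (C.X K r' u) := by
  rcases h with rfl | ⟨h1, h2⟩
  · show _ * _ = _ * _
    rw [C.X_add, C.X_add, add_comm]
  · by_cases e : r' = r
    · subst e
      show _ * _ = _ * _
      rw [C.X_add, C.X_add, add_comm]
    · have := O.comm.comm_X r r' e h1 t u
      rw [h2, List.map_nil, List.prod_nil, mul_one] at this
      exact this.symm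

theorem Θ_iter_mul (k : ℕ) (g h : GL D.Idx K) :
    (O.Θ : _ → _)^[k] (g * h) = (O.Θ : _ → _)^[k] g * (O.Θ : _ → _)^[k] h := iterate_map_mul O.Θ k g h

theorem Θ_iter_X (k : ℕ) (r : Rt D) (t : K) :
    (O.Θ : _ → _)^[k] (C.X K r t) = C.X K ((O.π : _ → _)^[k] r) ((O.Eps k r : K) * (O.φ : K → K)^[k] t) := by
  induction k with
  | zero => simp [Eps]
  | succ k ih =>
    rw [Function.iterate_succ_apply', ih, O.Θ_X, map_mul, map_intCast, Function.iterate_succ_apply',
      Function.iterate_succ_apply', Eps, Int.cast_mul]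
    ring_nf

theorem Θ_iter_p (k : ℕ) (i : Fin D.rank) (t : K) :
    (O.Θ : _ → _)^[k] (C.X K (C.p i) t) = C.X K (C.p ((O.ρ : _ → _)^[k] i)) ((O.φ : K → K)^[k] t) := by
  induction k with
  | zero => rfl
  | succ k ih =>
    rw [Function.iterate_succ_apply', ih, Function.iterate_succ_apply', Function.iterate_succ_apply']
    exact O.Θ_sd false _ _

theorem Θ_iter_fix (k : ℕ) {r : Rt D} (hπ : O.π r = r) (hε : O.ε r = 1) (t : K) :
    (O.Θ : _ → _)^[k] (C.X K r t) = C.X K r ((O.φ : K → K)^[k] t) := by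
  induction k with
  | zero => rfl
  | succ k ih => rw [Function.iterate_succ_apply', ih, O.Θ_X, hπ, hε, Function.iterate_succ_apply']; simp

theorem φu_val (u : Kˣ) (k : ℕ) :
    (((Units.map (O.φ : K →* K) : Kˣ → Kˣ)^[k] u : Kˣ) : K) = (O.φ : K → K)^[k] (u : K) := by
  induction k with
  | zero => rfl
  | succ k ih => rw [Function.iterate_succ_apply', Function.iterate_succ_apply', Units.coe_map, ih]; rfl

theorem prod_X (r : Rt D) : ∀ L : List K, (L.map fun t => C.X K r t).prod = C.X K r L.sum
  | [] => by simp [C.X_zero]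
  | t :: L => by rw [List.map_cons, List.prod_cons, prod_X r L, C.X_add, List.sum_cons]

/-- The derived group as matrices. -/
def D1 : Subgroup (GL D.Idx K) := (commutator ↥O.G1).map O.G1.subtype

theorem D1_conj {g x : GL D.Idx K} (hg : g ∈ O.G1) (hx : x ∈ O.D1) : g * x * g⁻¹ ∈ O.D1 := by
  obtain ⟨y, hy, rfl⟩ := hx
  exact ⟨(⟨g, hg⟩ : ↥O.G1) * y * (⟨g, hg⟩ : ↥O.G1)⁻¹,
    (inferInstance : (commutator ↥O.G1).Normal).conj_mem y hy _, by simp⟩

theorem D1_comm {g h : GL D.Idx K} (hg : g ∈ O.G1) (hh : h ∈ O.G1) : g * h * g⁻¹ * h⁻¹ ∈ O.D1 := by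
  refine ⟨⁅(⟨g, hg⟩ : ↥O.G1), ⟨h, hh⟩⁆, ?_, rfl⟩
  exact Subgroup.commutator_mem_commutator (Subgroup.mem_top _) (Subgroup.mem_top _)

section Finite

variable [Finite K]

/-- The torus element of an orbit scales the fixed root elements. -/
theorem exists_scale (m : Fin O.nn) {b : Kˣ} (hb : O.Valid (O.os m) b) (s : Bool) :
    ∃ h ∈ O.G1, ∀ t, h * O.xS s (O.os m) t * h⁻¹ =
      O.xS s (O.os m) (((b ^ (if s then (-2 : ℤ) else 2) : Kˣ) : K) * t) := by
  classical
  set i := O.os m
  set z : ℤ := if s then (-2 : ℤ) else 2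
  set φu : Kˣ → Kˣ := ⇑(Units.map (O.φ : K →* K)) with hφu
  set d : Fin D.rank → Kˣ := fun j => if O.idx j = m then φu^[(O.Jl m).idxOf j] b else 1 with hd
  have hd' : ∀ k < O.sz i, d ((O.ρ : _ → _)^[k] i) = φu^[k] b := by
    intro k hk
    have e : (O.Jl m).idxOf ((O.ρ : _ → _)^[k] i) = k := by
      have hk' : k < (O.Jl m).length := by rw [O.Jl_length]; exact hk
      have e2 : (O.Jl m)[k] = (O.ρ : _ → _)^[k] i := by simp [Jl, i]
      rw [← e2, (O.Jl_nodup m).idxOf_getElem]
    simp only [hd, O.idx_iterate, i, O.idx_os, if_pos]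
    rw [e]
  have hdf : O.τc d = d := by
    funext j
    obtain ⟨j, rfl⟩ := O.ρ.surjective j
    simp only [τc, Equiv.symm_apply_apply]
    by_cases hj : O.idx j = m
    · obtain ⟨k, hk, rfl⟩ := List.mem_map.1 ((O.mem_Jl j m).2 hj)
      rw [List.mem_range] at hk
      change k < O.sz i at hk
      change Units.map (O.φ : K →* K) (d ((O.ρ : _ → _)^[k] i)) = d (O.ρ ((O.ρ : _ → _)^[k] i))
      rw [hd' k hk, ← Function.iterate_succ_apply' (f := (O.ρ : _ → _)), Nat.succ_eq_add_one]
      by_cases hlast : k + 1 < O.sz i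
      · rw [hd' _ hlast, Function.iterate_succ_apply']
      · have e : k + 1 = O.sz i := by omega
        rw [e, O.ρ_sz, show d i = φu^[0] b from hd' 0 (O.sz_pos i)]
        change φu (φu^[k] b) = φu^[0] b
        rw [← Function.iterate_succ_apply' (f := φu), Nat.succ_eq_add_one, e]
        exact Units.ext ((O.φu_val b _).trans hb)
    · simp [hd, O.idx_ρ, hj]
  refine ⟨C.HT K d, O.HT_fixed_mem d hdf, fun t => ?_⟩
  have hzpow : ∀ k, (φu^[k] b) ^ z = φu^[k] (b ^ z) := by
    intro k
    induction k with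
    | zero => rfl
    | succ k ih => rw [Function.iterate_succ_apply', Function.iterate_succ_apply', ← ih, hφu, map_zpow]
  have hroot : ∀ k < O.sz i, C.HT K d * C.X K (sd s (C.p ((O.ρ : _ → _)^[k] i))) ((O.φ : K → K)^[k] t) * (C.HT K d)⁻¹
      = C.X K (sd s (C.p ((O.ρ : _ → _)^[k] i))) ((O.φ : K → K)^[k] (((b ^ z : Kˣ) : K) * t)) := by
    intro k hk
    rw [C.HT_X_conj, O.φ_iter_mul, ← O.φu_val, ← hzpow]
    congr 3
    set a := (O.ρ : _ → _)^[k] i with ha
    have haJ : a ∈ O.Jl m := List.mem_map.2 ⟨k, List.mem_range.2 hk, rfl⟩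
    rw [Core.chA, Finset.prod_eq_single a]
    · rw [hd' k hk]
      congr 1
      cases s
      · simp [sd, z, C.A_p]
      · simp [sd, z, C.A_rev, C.A_p]
    · intro j _ hja
      by_cases hj : O.idx j = m
      · have hA := O.A_orth ((O.mem_Jl j m).2 hj) haJ hja
        cases s
        · simp [sd, hA]
        · simp [sd, C.A_rev, hA]
      · simp [hd, hj]
    · simp
  simp only [xS, oprod]
  rw [show C.HT K d * _ * (C.HT K d)⁻¹ = MulAut.conj (C.HT K d) _ from (MulAut.conj_apply _ _).symm,
    map_list_prod, List.map_map]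
  exact congrArg List.prod (List.map_congr_left fun k hk => hroot k (List.mem_range.1 hk))

theorem moved_mem_D1 (m : Fin O.nn) (hm : O.ρ (O.os m) ≠ O.os m) (s : Bool) (t : K) :
    O.xS s (O.os m) t ∈ O.D1 := by
  classical
  have hsz : O.sz (O.os m) = O.n := if_neg hm
  have hvalid : ∀ t, O.Valid (O.os m) t := fun t => by unfold Valid; rw [hsz]; exact O.φ_pow t
  have := Fintype.ofFinite K
  obtain ⟨b, hb⟩ : ∃ b : Kˣ, b ^ (2 : ℕ) ≠ 1 := by
    by_contra hall
    push Not at hall
    have hsub : (Finset.univ : Finset K) ⊆ {0, 1, -1} := by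
      intro x _
      simp only [Finset.mem_insert, Finset.mem_singleton]
      by_cases hx : x = 0
      · exact Or.inl hx
      · have := congrArg Units.val (hall (Units.mk0 x hx))
        simp only [Units.val_one, sq] at this
        exact Or.inr (mul_self_eq_one_iff.1 this)
    have h := Finset.card_le_card hsub
    have h3 : ({0, 1, -1} : Finset K).card ≤ 3 := Finset.card_le_three
    rw [Finset.card_univ, ← Nat.card_eq_fintype_card, O.card_K] at h
    have hq : 1 < O.q := by
      by_contra hq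
      have h2 := O.card_K
      have h2' : 1 < Nat.card K := Finite.one_lt_card
      have : O.q ^ O.n ≤ 1 := (Nat.pow_le_one_iff (by have := O.two_le; omega)).2 (by omega) 
      omega
    have : 4 ≤ O.q ^ O.n := le_trans (by norm_num) ((Nat.pow_le_pow_left hq 2).trans (Nat.pow_le_pow_right (by omega) O.two_le))
    omega
  obtain ⟨h, hh, hconj⟩ := O.exists_scale m (b := b) (hvalid _) s
  set e : K := (((b ^ (if s then (-2 : ℤ) else 2) : Kˣ)) : K)
  have he : e - 1 ≠ 0 := by
    refine sub_ne_zero.2 fun he => hb ?_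
    have he' : (b ^ (if s then (-2 : ℤ) else 2) : Kˣ) = 1 := Units.ext he
    cases s
    · exact he'
    · rw [← inv_eq_one]; exact he'
  set u := t / (e - 1)
  have := O.D1_comm hh (O.xS_mem (s := s) (O.os m) (hvalid u))
  rw [hconj, O.xS_inv, O.xS_add] at this
  convert this using 2
  simp only [u]
  field_simp
  ring

theorem exists_trace_ne : ∃ x : K, ((List.range O.n).map fun k => (O.φ : K → K)^[k] x).sum ≠ 0 := by
  by_contra hall
  push Not at hall
  let f : Fin O.n → (K →* K) := fun k =>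
    { toFun := (O.φ : K → K)^[k.val]
      map_one' := O.φ_iter_one _
      map_mul' := O.φ_iter_mul _ }
  have hinj : Function.Injective f := by
    intro a b hab
    wlog hle : a.val ≤ b.val generalizing a b
    · exact (this hab.symm (by omega)).symm
    by_contra hne
    have hlt : a.val < b.val := lt_of_le_of_ne hle fun h => hne (Fin.ext h)
    obtain ⟨t, ht⟩ := O.φ_free (b.val - a.val) (by omega) (by omega)
    refine ht ((O.φ.injective.iterate a.val) ?_)
    rw [← Function.iterate_add_apply, show a.val + (b.val - a.val) = b.val by omega]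
    exact (DFunLike.congr_fun hab t).symm
  have hli := (linearIndependent_monoidHom K K).comp f hinj
  rw [Fintype.linearIndependent_iff] at hli
  have h0 := hli (fun _ => 1) (funext fun x => by
    simp only [Finset.sum_apply, Function.comp_apply, one_smul, Pi.zero_apply]
    rw [← hall x, ← List.map_coe_finRange_eq_range, List.map_map, ← Fin.sum_univ_def]
    rfl) ⟨0, by have := O.two_le; omega⟩
  exact one_ne_zero h0

theorem long_mem_D1 (S : O.Seed) {s : K} (hs : O.φ s = s) : C.X K S.r0 s ∈ O.D1 := by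
  classical
  obtain ⟨x0, hx0⟩ := O.exists_trace_ne
  set T0 := ((List.range O.n).map fun k => (O.φ : K → K)^[k] x0).sum with hT0
  have hT0f : O.φ T0 = T0 := by
    have hgen : ∀ n, ((List.range n).map fun k => (O.φ : K → K)^[k + 1] x0).sum + x0 =
        ((List.range n).map fun k => (O.φ : K → K)^[k] x0).sum + (O.φ : K → K)^[n] x0 := by
      intro n
      induction n with
      | zero => simp
      | succ n ih =>
        simp only [List.range_succ, List.map_append, List.map_singleton, List.sum_append, List.sum_singleton]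
        linear_combination ih
    have h := hgen O.n
    rw [O.φ_pow] at h
    rw [hT0, map_list_sum, List.map_map]
    refine Eq.trans (congrArg List.sum (List.map_congr_left fun k _ => ?_)) (add_right_cancel h)
    exact (Function.iterate_succ_apply' (f := (O.φ : K → K)) k x0).symm
  have hsT : ∀ k, (O.φ : K → K)^[k] (s / T0) = s / T0 := fun k =>
    Function.iterate_fixed (by rw [map_div₀, hs, hT0f]) k
  set x := (s / T0) * x0 with hx
  have hxs : ((List.range O.n).map fun k => (O.φ : K → K)^[k] x).sum = s := by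
    rw [List.map_congr_left fun k _ => show (O.φ : K → K)^[k] x = (s / T0) * (O.φ : K → K)^[k] x0 by
      rw [hx, O.φ_iter_mul, hsT], List.sum_map_mul_left, ← hT0, div_mul_cancel₀ s hx0]
  set t : K := -(x * (S.c : K)) with htdef
  set i := O.os S.m1
  have hsz : O.sz i = O.n := if_neg S.moved
  have hvalid : O.Valid i t := by unfold Valid; rw [hsz]; exact O.φ_pow t
  let A : ℕ → GL D.Idx K := fun k => (O.Θ : _ → _)^[k] (C.X K (C.p i) t)
  let B : ℕ → GL D.Idx K := fun k => (O.Θ : _ → _)^[k] (C.X K S.b 1)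
  let Z : ℕ → GL D.Idx K := fun k => (O.Θ : _ → _)^[k] (C.X K S.r0 x)
  have eA : ∀ k, A k = C.X K (C.p ((O.ρ : _ → _)^[k] i)) ((O.φ : K → K)^[k] t) := fun k => O.Θ_iter_p k i t
  have eB : ∀ k, B k = C.X K ((O.π : _ → _)^[k] S.b) (O.Eps k S.b : K) := fun k => by
    simp [B, O.Θ_iter_X, O.φ_iter_one]
  have eZ : ∀ k, Z k = C.X K S.r0 ((O.φ : K → K)^[k] x) := fun k => O.Θ_iter_fix k S.π_r0 S.ε_r0 x
  have hBn : B O.n = B 0 := by rw [eB, eB, S.π_b, S.eps_b]; simp [Eps]
  have hAn : A O.n = A 0 := by rw [eA, eA, O.ρ_pow, O.φ_pow]; rfl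
  have hAB0 : ∀ j, 0 < j → j < O.n → Commute (A 0) (B j) := fun j h1 h2 => by
    rw [eA, eB]; exact O.commute_of_com (S.comAB j h1 h2) _ _
  have hAB : ∀ a < O.n, ∀ b < O.n, a ≠ b → Commute (A a) (B b) := by
    intro a ha b hb hab
    have step : ∀ j, 0 < j → j < O.n → Commute (A a) (B (a + j)) := by
      intro j h1 h2
      have h3 : A 0 * B j = B j * A 0 := hAB0 j h1 h2
      have h4 := congrArg ((O.Θ : _ → _)^[a]) h3
      rw [O.Θ_iter_mul, O.Θ_iter_mul] at h4
      simp only [A, B, ← Function.iterate_add_apply, Nat.add_zero] at h4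
      exact h4
    rcases Nat.lt_or_gt_of_ne hab with h | h
    · have := step (b - a) (by omega) (by omega)
      rwa [show a + (b - a) = b by omega] at this
    · have := step (b + O.n - a) (by omega) (by omega)
      rw [show a + (b + O.n - a) = b + O.n by omega] at this
      have e : B (b + O.n) = B b := by
        simp only [B, Function.iterate_add_apply]
        exact congrArg ((O.Θ : _ → _)^[b]) (hBn.trans rfl)
      rwa [e] at this
  have hBA0 : B 0 * A 0 = A 0 * B 0 * Z 0 := by
    have := O.comm.comm_X (C.p i) S.b S.ne_b.1 S.ne_b.2 t (1 : K)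
    rw [S.terms] at this
    simp only [List.map_cons, List.map_nil, List.prod_cons, List.prod_nil, mul_one, pow_one, C.XN_fin] at this
    have hc : (S.c : K) * -t = x := by
      have h2 : (S.c : K) * S.c = 1 := by exact_mod_cast congrArg (Int.cast (R := K)) S.c_sq
      rw [htdef]; linear_combination x * h2
    rw [hc] at this
    exact this
  have hBA : ∀ k, B k * A k = A k * B k * Z k := by
    intro k
    have := congrArg ((O.Θ : _ → _)^[k]) hBA0
    simpa only [O.Θ_iter_mul, A, B, Z, ← Function.iterate_add_apply, Nat.add_zero] using this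
  have hBB : ∀ a < O.n, ∀ b < O.n, Commute (B a) (B b) := fun a ha b hb => by
    rw [eB, eB]; exact O.commute_of_com (S.comBB a ha b hb) _ _
  have hZA : ∀ a, ∀ b < O.n, Commute (Z a) (A b) := fun a b hb => by
    rw [eZ, eA]; exact O.commute_of_com (S.comRA b hb) _ _
  have hZB : ∀ a, ∀ b < O.n, Commute (Z a) (B b) := fun a b hb => by
    rw [eZ, eB]; exact O.commute_of_com (S.comRB b hb) _ _
  set L := List.range O.n with hL
  have hLn : L.Nodup := List.nodup_range
  have e1 : (L.map fun k => B k * A k).prod = (L.map B).prod * (L.map A).prod :=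
    prod_split L hLn B A fun a ha b hb hab => hAB a (List.mem_range.1 ha) b (List.mem_range.1 hb) hab
  have e2 : (L.map fun k => A k * (B k * Z k)).prod = (L.map A).prod * (L.map fun k => B k * Z k).prod :=
    prod_split L hLn A (fun k => B k * Z k) fun a ha b hb hab =>
      ((hAB b (List.mem_range.1 hb) a (List.mem_range.1 ha) hab.symm).symm).mul_left (hZA a b (List.mem_range.1 hb))
  have e3 : (L.map fun k => B k * Z k).prod = (L.map B).prod * (L.map Z).prod :=
    prod_split L hLn B Z fun a _ b hb _ => hZB a b (List.mem_range.1 hb)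
  have e4 : (L.map B).prod * (L.map A).prod = (L.map A).prod * ((L.map B).prod * (L.map Z).prod) := by
    rw [← e1, ← e3, ← e2]
    exact congrArg List.prod (List.map_congr_left fun k _ => by rw [hBA, mul_assoc])
  have hXA : (L.map A).prod = O.xS false i t := by
    rw [xS, oprod, hsz]
    exact congrArg List.prod (List.map_congr_left fun k _ => eA k)
  have hY : (L.map B).prod ∈ O.G1 := by
    refine O.tw.mem_W_iff.2 ⟨list_prod_mem fun g hg => ?_, ?_⟩
    · obtain ⟨k, -, rfl⟩ := List.mem_map.1 hg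
      rw [eB]; exact O.X_mem_group _ _
    · show O.Θ (L.map B).prod = _
      rw [map_list_prod, List.map_map]
      refine Eq.trans ?_ (prod_shift O.n B hBn hBB)
      exact congrArg List.prod (List.map_congr_left fun k _ => (Function.iterate_succ_apply' _ _ _).symm)
  have hA' : (L.map A).prod ∈ O.G1 := hXA ▸ O.xS_mem i hvalid
  have := O.D1_comm (inv_mem hY) (inv_mem hA')
  rw [inv_inv, inv_inv, show (L.map B).prod⁻¹ * (L.map A).prod⁻¹ * (L.map B).prod * (L.map A).prod =
    (L.map B).prod⁻¹ * (L.map A).prod⁻¹ * ((L.map B).prod * (L.map A).prod) by group, e4] at this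
  simp only [mul_assoc, inv_mul_cancel_left] at this
  rw [show (L.map Z).prod = ((L.map fun k => (O.φ : K → K)^[k] x).map fun u => C.X K S.r0 u).prod by
    rw [List.map_map]; exact congrArg List.prod (List.map_congr_left fun k _ => eZ k), O.prod_X, hxs] at this
  exact this

theorem fixed_mem_D1 (S : O.Seed) (m : Fin O.nn) (hm : O.ρ (O.os m) = O.os m) (s : Bool) {t : K}
    (ht : O.Valid (O.os m) t) : O.xS s (O.os m) t ∈ O.D1 := by
  have hsz : O.sz (O.os m) = 1 := if_pos hm
  have ht' : O.φ t = t := by unfold Valid at ht; rw [hsz] at ht; exact ht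
  have ex : ∀ t, O.xS s (O.os m) t = C.X K (sd s (C.p (O.os m))) t := fun t => by simp [xS, oprod, hsz]
  obtain ⟨L, hL⟩ := S.reach m hm s
  set n := C.wprod K (L.flatMap O.Jl)
  have hn : n ∈ O.G1 := by
    clear hL
    induction L with
    | nil => exact one_mem _
    | cons a L ih =>
      simp only [n, List.flatMap_cons] at ih ⊢
      rw [C.wprod_append]
      exact mul_mem (O.P_orbit_mem a) ih
  obtain ⟨e, he⟩ := C.acts_wprod K (L.flatMap O.Jl) S.r0
  have hfix : ∀ u : K, O.φ u = u → O.φ ((e : K) * u) = (e : K) * u := by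
    intro u hu
    have h1 : O.Θ (n * C.X K S.r0 u * n⁻¹) = n * C.X K S.r0 u * n⁻¹ := by
      rw [map_mul, map_mul, map_inv, O.G1_fix n hn, O.Θ_X, S.π_r0, S.ε_r0]
      simp [hu]
    rw [he, hL] at h1
    have h2 := O.Θ_sd s (O.os m) ((e : K) * u)
    rw [h1, hm] at h2
    have h3 : C.X K (sd s (C.p (O.os m))) ((e : K) * u - O.φ ((e : K) * u)) = 1 := by
      rw [sub_eq_add_neg, ← C.X_add, h2, C.X_add, add_neg_cancel, C.X_zero]
    exact (sub_eq_zero.1 (C.X_eq_one h3)).symm
  have he1 : O.φ (e : K) = e := by simpa using hfix 1 (map_one _)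
  have hu : O.φ ((e : K)⁻¹ * t) = (e : K)⁻¹ * t := by rw [map_mul, map_inv₀, he1, ht']
  have := O.D1_conj hn (O.long_mem_D1 S hu)
  rw [he, hL, mul_inv_cancel_left₀ e.ne_zero] at this
  rw [ex]
  exact this

/-- The twisted group is perfect. -/
theorem perfect (S : O.Seed) : commutator ↥O.G1 = ⊤ := by
  have hle : O.G1 ≤ O.D1 := by
    refine (Subgroup.closure_le _).2 ?_
    rintro g ⟨m, s, t, ht, rfl⟩
    by_cases hm : O.ρ (O.os m) = O.os m
    · exact O.fixed_mem_D1 S m hm s ht
    · exact O.moved_mem_D1 m hm s t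
  rw [eq_top_iff]
  rintro g -
  obtain ⟨x, hx, hxe⟩ := hle g.2
  exact (Subtype.ext hxe : x = g) ▸ hx

/-- `H¹` acts faithfully on the simple orbit groups. -/
theorem faithful : ∀ h ∈ D.diagonalSubgroup K, O.tw.τ h = h →
    (∀ m, ∀ u ∈ C.US K (C.inv' (O.tw.wO m)), O.tw.τ u = u → h * u = u * h) → h = 1 := by
  intro h hh _ hcomm
  obtain ⟨c, rfl⟩ := C.mem_diagonal_iff.1 hh
  have hA : ∀ i, C.chA c (C.p i) = 1 := by
    intro i
    obtain ⟨k, hk, hi⟩ := O.cycle i
    set m := O.idx i
    have hk' : k < O.sz (O.os m) := hk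
    have h1 := hcomm m (O.xS false (O.os m) 1) (O.oprod_mem m _) (O.Θ_xS (O.valid_one _))
    have h2 : C.HT K c * O.xS false (O.os m) 1 * (C.HT K c)⁻¹ = O.xS false (O.os m) 1 := by
      rw [h1, mul_inv_cancel_right]
    have h3 : C.HT K c * O.xS false (O.os m) 1 * (C.HT K c)⁻¹ =
        O.oprod false (O.os m) fun k => (C.chA c (C.p ((O.ρ : _ → _)^[k] (O.os m))) : K) := by
      rw [show C.HT K c * _ * (C.HT K c)⁻¹ = MulAut.conj (C.HT K c) _ from (MulAut.conj_apply _ _).symm,
        xS, oprod, oprod, map_list_prod, List.map_map]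
      refine congrArg List.prod (List.map_congr_left fun k _ => ?_)
      show C.HT K c * _ * (C.HT K c)⁻¹ = _
      rw [C.HT_X_conj, O.φ_iter_one, mul_one]
      rfl
    have h4 := O.oprod_inj m (h3.symm.trans h2) k hk'
    rw [O.φ_iter_one, hi] at h4
    exact Units.ext h4
  rw [C.HT_eq_T, show (fun m => C.chA c (C.p m)) = 1 from funext hA, Core.T]
  convert C.diag_one K using 2
  funext s
  simp [Core.chr]

end Finite

end Orth

end Cfsg.Agent.Lib.LieTwisted.Twist
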