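import Cfsg.Agent.Lib.LieTwisted.Twist.BN
import Mathlib.GroupTheory.Sylow
import Mathlib.FieldTheory.Finite.Basic

/-!
The Sylow subgroup U¹ of a twisted group, its normaliser, and automorphisms adapted to U¹ and V¹.
-/

set_option autoImplicit false
set_option linter.unusedSectionVars false

namespace Cfsg.Agent.Lib.LieTwisted.Twist

open Cfsg.Lie ChevStructure
open scoped MatrixGroups Pointwise

variable {D : ChevalleyDatum} {C : Core D} {K : Type*} [Field K]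

namespace Tw

variable (T : Tw C K)

/-- `U¹` inside `G¹`. -/
def U1 : Subgroup ↥T.W := (C.US K C.Pos).subgroupOf T.W

/-- `V¹` inside `G¹`. -/
def V1 : Subgroup ↥T.W := (C.US K C.Neg).subgroupOf T.W

/-- `H¹` inside `G¹`. -/
def H1 : Subgroup ↥T.W := (D.diagonalSubgroup K).subgroupOf T.W

include T

theorem mem_U1 {g : ↥T.W} : g ∈ T.U1 ↔ (g : GL D.Idx K) ∈ C.US K C.Pos := Subgroup.mem_subgroupOf

theorem mem_V1 {g : ↥T.W} : g ∈ T.V1 ↔ (g : GL D.Idx K) ∈ C.US K C.Neg := Subgroup.mem_subgroupOf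

theorem mem_H1 {g : ↥T.W} : g ∈ T.H1 ↔ (g : GL D.Idx K) ∈ D.diagonalSubgroup K := Subgroup.mem_subgroupOf

theorem U1_le_B1 : T.U1 ≤ T.B1 := fun _ hg => T.mem_B1.2 (C.posUS_le_borel (T.mem_U1.1 hg))

theorem H1_le_B1 : T.H1 ≤ T.B1 := fun _ hg => T.mem_B1.2 (C.diagonal_le_borel (T.mem_H1.1 hg))

theorem eq_one_of_B1_V1 {g : ↥T.W} (hB : g ∈ T.B1) (hV : g ∈ T.V1) : g = 1 := by
  have h : (g : GL D.Idx K) ∈ D.borelSubgroup K ⊓ C.US K C.Neg :=
    Subgroup.mem_inf.2 ⟨T.mem_B1.1 hB, T.mem_V1.1 hV⟩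
  rw [C.borel_inf_negUS, Subgroup.mem_bot] at h
  exact Subtype.ext h

theorem H1_normalizes {h : ↥T.W} (hh : h ∈ T.H1) :
    h ∈ Subgroup.normalizer (T.U1 : Set ↥T.W) ∧ h ∈ Subgroup.normalizer (T.V1 : Set ↥T.W) := by
  refine ⟨?_, ?_⟩ <;> rw [Subgroup.mem_normalizer_iff] <;> intro y
  · rw [T.mem_U1, T.mem_U1, Subgroup.coe_mul, Subgroup.coe_mul, Subgroup.coe_inv]
    exact Subgroup.mem_normalizer_iff.1 (C.diag_le_normalizer C.Pos (T.mem_H1.1 hh)) _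
  · rw [T.mem_V1, T.mem_V1, Subgroup.coe_mul, Subgroup.coe_mul, Subgroup.coe_inv]
    exact Subgroup.mem_normalizer_iff.1 (C.diag_le_normalizer C.Neg (T.mem_H1.1 hh)) _

theorem exists_UH {b : ↥T.W} (hb : b ∈ T.B1) [Finite K] : ∃ u ∈ T.U1, ∃ h ∈ T.H1, b = u * h := by
  obtain ⟨v, hv, k, hk, e, hfv, hfk⟩ := T.borel_fix (T.mem_B1.1 hb) (T.W_fix _ b.2)
  exact ⟨⟨v, T.posU_fix_le ⟨hv, C.US_le_group _ hv, hfv⟩⟩, T.mem_U1.2 hv,
    ⟨k, T.diag_mem k hk hfk⟩, T.mem_H1.2 hk, Subtype.ext e⟩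

theorem B1_le_normalizer [Finite K] : T.B1 ≤ Subgroup.normalizer (T.U1 : Set ↥T.W) := by
  intro b hb
  obtain ⟨u, hu, h, hh, rfl⟩ := T.exists_UH hb
  exact mul_mem (Subgroup.le_normalizer hu) (T.H1_normalizes hh).1

/-- An element of the twisted Weyl group sending a root of an orbit to a positive root sends the whole
orbit to positive roots. -/
theorem pos_of_orbit {σ : Equiv.Perm (Rt D)} (hσ : σ ∈ T.WT) {m : Fin T.nn} {i : Fin D.rank}
    (hm : T.idx i = m) (h : σ (C.p i) ∈ C.Pos) {r : Rt D} (hr : r ∈ C.inv' (T.wO m)) : σ r ∈ C.Pos := by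
  have hall : ∀ j, T.idx j = m → σ (C.p j) ∈ C.Pos := fun j hj => by
    by_contra hn
    exact (C.neg_iff_not_pos _).1 (T.descent_orbit hσ ((C.neg_iff_not_pos _).2 hn) (hm.trans hj.symm)) h
  by_contra hn
  obtain ⟨L, rfl⟩ := C.mem_WG_iff.1 (T.mem_WT.1 hσ).1
  refine C.v_ne_zero (C.pprod L r) (funext fun j => le_antisymm (C.v_nonpos ((C.neg_iff_not_pos _).2 hn) j) ?_)
  rw [C.pprod_v]
  refine Finset.sum_nonneg fun k _ => ?_
  by_cases hk : C.v r k = 0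
  · simp [hk]
  · exact mul_nonneg (C.v_nonneg hr.1 k) (C.v_nonneg (hall k (T.inv'_supp m hr hk)) j)

section Finite

variable [Finite K] (hq : 1 < T.q)

include hq in
theorem normalizer_U1 : Subgroup.normalizer (T.U1 : Set ↥T.W) = T.B1 := by
  refine le_antisymm ?_ T.B1_le_normalizer
  rintro ⟨g, hg⟩ hN
  obtain ⟨σ, hσ, h⟩ := T.exists_nf (T.W_le hg) (T.W_fix g hg)
  obtain ⟨n, hn, hnm, hna⟩ := T.exists_rep hσ
  obtain ⟨b, hb, hbf, u, hu, huf, e⟩ := h n hn hnm hna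
  have hbW := T.borel_fix_mem hb hbf
  have huW : u ∈ T.W := (T.U_spec hσ).1 ⟨hu, C.US_le_group _ hu, huf⟩
  have huB : (⟨u, huW⟩ : ↥T.W) ∈ T.B1 :=
    T.mem_B1.2 (C.posUS_le_borel (C.US_mono K (fun _ h => h.1) hu))
  have hbB : (⟨b, hbW⟩ : ↥T.W) ∈ T.B1 := T.mem_B1.2 hb
  have e' : (⟨g, hg⟩ : ↥T.W) = ⟨b, hbW⟩ * ⟨n, hn⟩ * ⟨u, huW⟩ := Subtype.ext e
  rw [e'] at hN ⊢
  have hnN : (⟨n, hn⟩ : ↥T.W) ∈ Subgroup.normalizer (T.U1 : Set ↥T.W) := by
    rwa [Subgroup.mul_mem_cancel_right _ (T.B1_le_normalizer huB),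
      Subgroup.mul_mem_cancel_left _ (T.B1_le_normalizer hbB)] at hN
  suffices σ = 1 by
    refine mul_mem (mul_mem hbB (T.H1_le_B1 (T.mem_H1.2 ?_))) huB
    exact C.mem_diagonal_of_acts_one hnm (this ▸ hna)
  by_contra hne
  obtain ⟨L, hL⟩ := C.mem_WG_iff.1 (T.mem_WT.1 hσ).1
  obtain ⟨i, hi⟩ := C.exists_descent (L := L) (by rwa [hL])
  rw [hL] at hi
  obtain ⟨x, hx, hxf, hx1⟩ := T.exists_base_ne hq (T.idx i)
  have hxW : x ∈ T.W := T.base_mem _ x hx hxf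
  have hxU : (⟨x, hxW⟩ : ↥T.W) ∈ T.U1 := T.mem_U1.2 (C.US_mono K (fun _ h => h.1) hx)
  have h1 : (⟨n, hn⟩ : ↥T.W) * ⟨x, hxW⟩ * (⟨n, hn⟩ : ↥T.W)⁻¹ = 1 := by
    refine T.eq_one_of_B1_V1 (T.U1_le_B1 ((Subgroup.mem_normalizer_iff.1 hnN _).1 hxU)) (T.mem_V1.2 ?_)
    refine C.conj_mem_US K hna (fun r hr => ?_) hx
    exact T.neg_of_simple (T.mem_WT.1 hσ).1 hr.1 fun j hj => T.descent_orbit hσ hi (T.inv'_supp _ hr hj)
  rw [conj_eq_one_iff] at h1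
  exact hx1 (congrArg Subtype.val h1)

variable {p f : ℕ} [Fact p.Prime]

include hq in
/-- `U¹` is a Sylow subgroup. -/
theorem U1_sylow (hT : T.q = p ^ f) [CharP K p] : IsPGroup p ↥T.U1 ∧ ¬ p ∣ T.U1.index := by
  classical
  have hf : f ≠ 0 := fun h => by rw [hT, h, pow_zero] at hq; exact lt_irrefl _ hq
  have hU : Nat.card ↥T.U1 = T.q ^ (D.nroots / 2 / T.d) := by
    rw [← T.card_posU, U1, ← Subgroup.inf_subgroupOf_right]
    exact Nat.card_congr (Subgroup.subgroupOfEquivOfLe inf_le_right).toEquiv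
  refine ⟨IsPGroup.of_card (n := f * (D.nroots / 2 / T.d)) (by rw [hU, hT, ← pow_mul]), fun hdvd => ?_⟩
  have : Finite (GL D.Idx K) := inferInstance
  let : Fintype T.WT := Fintype.ofFinite _
  have hW := T.card_W
  rw [T.card_borel] at hW
  have hidx := T.U1.card_mul_index
  rw [hU, hW, mul_assoc] at hidx
  have hidx' := Nat.eq_of_mul_eq_mul_left (pow_pos (by omega) _) hidx
  rw [hidx'] at hdvd
  rcases (Fact.out : p.Prime).dvd_mul.1 hdvd with h | h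
  · have hH : Nat.card ↥(D.diagonalSubgroup K ⊓ T.W) ∣ Nat.card (Fin D.rank → Kˣ) := by
      refine (Subgroup.card_dvd_of_le (inf_le_left : D.diagonalSubgroup K ⊓ T.W ≤ _)).trans ?_
      rw [C.diagonalSubgroup_eq]
      exact Subgroup.card_range_dvd _
    have h2 := h.trans hH
    rw [Nat.card_fun, Nat.card_units] at h2
    have h3 := (Fact.out : p.Prime).dvd_of_dvd_pow h2
    let := Fintype.ofFinite K
    obtain ⟨m, -, hm⟩ := FiniteField.card K p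
    rw [Nat.card_eq_fintype_card, hm] at h3
    have h4 : p ∣ p ^ (m : ℕ) := dvd_pow_self p m.ne_zero
    have h5 := Nat.dvd_sub h4 h3
    rw [Nat.sub_sub_self (Nat.one_le_pow _ _ (Fact.out : p.Prime).pos)] at h5
    exact (Fact.out : p.Prime).one_lt.ne' (Nat.dvd_one.1 h5)
  · rw [← Finset.add_sum_erase _ _ (Finset.mem_univ (1 : T.WT))] at h
    have h1 : T.q ^ (C.len ((1 : T.WT) : Equiv.Perm (Rt D)) / T.d) = 1 := by simp [C.len_one]
    have h2 : p ∣ ∑ σ ∈ (Finset.univ.erase (1 : T.WT)), T.q ^ (C.len (σ : Equiv.Perm (Rt D)) / T.d) := by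
      refine Finset.dvd_sum fun σ hσ => ?_
      have hne : (σ : Equiv.Perm (Rt D)) ≠ 1 := fun h => (Finset.mem_erase.1 hσ).1 (Subtype.ext h)
      obtain ⟨-, hd, -⟩ := T.U_spec σ.2
      have hl : C.len (σ : Equiv.Perm (Rt D)) ≠ 0 := fun h =>
        hne (C.eq_one_of_len_zero (T.mem_WT.1 σ.2).1 h)
      have hpos : C.len (σ : Equiv.Perm (Rt D)) / T.d ≠ 0 := fun h => hl (by
        rw [← Nat.div_mul_cancel hd, h, zero_mul])
      rw [hT, ← pow_mul]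
      exact dvd_pow_self p (Nat.mul_ne_zero hf hpos)
    rw [h1] at h
    exact (Fact.out : p.Prime).one_lt.ne' (Nat.dvd_one.1 ((Nat.dvd_add_left h2).1 h))

omit T in
/-- An automorphism stabilising `U¹` and `V¹`. -/
structure Adapted (T : Tw C K) (θ : MulAut ↥T.W) : Prop where
  U : ∀ y, θ y ∈ T.U1 ↔ y ∈ T.U1
  V : ∀ y, θ y ∈ T.V1 ↔ y ∈ T.V1

theorem Adapted.mul {θ θ' : MulAut ↥T.W} (h : T.Adapted θ) (h' : T.Adapted θ') : T.Adapted (θ * θ') :=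
  ⟨fun y => (h.U _).trans (h'.U y), fun y => (h.V _).trans (h'.V y)⟩

theorem Adapted.inv {θ : MulAut ↥T.W} (h : T.Adapted θ) : T.Adapted θ⁻¹ :=
  ⟨fun y => by rw [← h.U]; exact iff_of_eq (congrArg (· ∈ T.U1) (θ.apply_symm_apply y)),
    fun y => by rw [← h.V]; exact iff_of_eq (congrArg (· ∈ T.V1) (θ.apply_symm_apply y))⟩

theorem adapted_conj_H1 {h : ↥T.W} (hh : h ∈ T.H1) : T.Adapted (MulAut.conj h) :=
  ⟨fun y => (Subgroup.mem_normalizer_iff.1 (T.H1_normalizes hh).1 y).symm,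
    fun y => (Subgroup.mem_normalizer_iff.1 (T.H1_normalizes hh).2 y).symm⟩

include hq in
theorem Adapted.fix_B1 {θ : MulAut ↥T.W} (h : T.Adapted θ) (y : ↥T.W) : θ y ∈ T.B1 ↔ y ∈ T.B1 := by
  rw [← T.normalizer_U1 hq, Subgroup.mem_normalizer_iff, Subgroup.mem_normalizer_iff]
  constructor
  · intro hy z
    rw [← h.U z, ← h.U (y * z * y⁻¹), map_mul, map_mul, map_inv]
    exact hy _
  · intro hy z
    obtain ⟨z, rfl⟩ := θ.surjective z
    rw [← map_inv, ← map_mul, ← map_mul, h.U, h.U]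
    exact hy z

/-- A representative of the longest element exchanges `U¹` and `V¹`. -/
theorem exists_opp : ∃ n0 : ↥T.W, ∃ σ ∈ T.WT, (n0 : GL D.Idx K) ∈ D.monomialSubgroup K ∧
    C.Acts (n0 : GL D.Idx K) σ ∧ (∀ r ∈ C.Pos, σ r ∈ C.Neg) ∧ (∀ r ∈ C.Neg, σ r ∈ C.Pos) ∧
    (∀ y, n0 * y * n0⁻¹ ∈ T.V1 ↔ y ∈ T.U1) ∧ (∀ y, n0 * y * n0⁻¹ ∈ T.U1 ↔ y ∈ T.V1) := by
  obtain ⟨σ, hσ, hσP⟩ := T.exists_longest
  obtain ⟨n, hn, hnm, hna⟩ := T.exists_rep hσ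
  have hP : ∀ r ∈ C.Pos, σ r ∈ C.Neg := fun r hr => (hσP.symm ▸ hr : r ∈ C.inv' σ).2
  have hN : ∀ r ∈ C.Neg, σ r ∈ C.Pos := fun r hr => by
    have := C.rev_pos (hP _ (C.rev_pos hr))
    rwa [T.WT_rev hσ, C.rev_rev] at this
  refine ⟨⟨n, hn⟩, σ, hσ, hnm, hna, hP, hN, fun y => ?_, fun y => ?_⟩
  · rw [T.mem_V1, T.mem_U1]
    refine ⟨fun h => ?_, C.conj_mem_US K hna hP⟩
    have h2 := C.conj_mem_US K (C.acts_inv K hna) (T := C.Pos) (fun r hr => ?_) h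
    · simpa [mul_assoc] using h2
    · by_contra hc
      have := hN _ ((C.neg_iff_not_pos _).2 hc)
      rw [Equiv.Perm.coe_inv, Equiv.apply_symm_apply] at this
      exact (C.neg_iff_not_pos _).1 hr this
  · rw [T.mem_U1, T.mem_V1]
    refine ⟨fun h => ?_, C.conj_mem_US K hna hN⟩
    have h2 := C.conj_mem_US K (C.acts_inv K hna) (T := C.Neg) (fun r hr => ?_) h
    · simpa [mul_assoc] using h2
    · rw [C.neg_iff_not_pos]
      intro hc
      have := hP _ hc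
      rw [Equiv.Perm.coe_inv, Equiv.apply_symm_apply] at this
      exact (C.neg_iff_not_pos _).1 this hr

include hq in
theorem mem_H1_of_normalizes {g : ↥T.W} (hU : g ∈ Subgroup.normalizer (T.U1 : Set ↥T.W))
    (hV : g ∈ Subgroup.normalizer (T.V1 : Set ↥T.W)) : g ∈ T.H1 := by
  rw [T.normalizer_U1 hq] at hU
  obtain ⟨u, hu, h, hh, rfl⟩ := T.exists_UH hU
  rw [Subgroup.mul_mem_cancel_right _ (T.H1_normalizes hh).2] at hV
  obtain ⟨n0, -, -, -, -, -, -, hUV, hVU⟩ := T.exists_opp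
  suffices n0 * u * n0⁻¹ = 1 by
    rw [conj_eq_one_iff] at this
    rw [this, one_mul]
    exact hh
  refine T.eq_one_of_B1_V1 ?_ ((hUV u).2 hu)
  rw [← T.normalizer_U1 hq, Subgroup.mem_normalizer_iff]
  intro z
  have e : ∀ z, z ∈ T.U1 ↔ n0⁻¹ * z * n0 ∈ T.V1 := fun z => by
    rw [← hVU (n0⁻¹ * z * n0)]
    group
  rw [e z, e (n0 * u * n0⁻¹ * z * (n0 * u * n0⁻¹)⁻¹), Subgroup.mem_normalizer_iff.1 hV (n0⁻¹ * z * n0)]
  group

include hq in
/-- Every automorphism is an inner automorphism times an adapted one. -/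
theorem exists_adapted (hT : T.q = p ^ f) [CharP K p] (θ : MulAut ↥T.W) :
    ∃ g : ↥T.W, T.Adapted (MulAut.conj g * θ) := by
  have : Finite (GL D.Idx K) := inferInstance
  obtain ⟨hp, hi⟩ := T.U1_sylow hq hT
  let S := hp.toSylow hi
  have sylow : ∀ χ : MulAut ↥T.W, ∃ g : ↥T.W, ∀ y, g⁻¹ * χ y * g ∈ T.U1 ↔ y ∈ T.U1 := by
    intro χ
    have hp' : IsPGroup p ↥(T.U1.map χ.toMonoidHom) := hp.map _
    have hi' : ¬ p ∣ (T.U1.map χ.toMonoidHom).index := by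
      rw [MulEquiv.toMonoidHom_eq_coe, Subgroup.index_map_equiv]; exact hi
    obtain ⟨g, hg⟩ := MulAction.exists_smul_eq ↥T.W S (hp'.toSylow hi')
    have hg' : T.U1.map χ.toMonoidHom = T.U1.map (MulAut.conj g).toMonoidHom := by
      have := congrArg (fun P : Sylow p ↥T.W => (P : Subgroup ↥T.W)) hg
      exact this.symm
    refine ⟨g, fun y => ?_⟩
    rw [← Subgroup.mem_map_iff_mem (f := (MulAut.conj g).toMonoidHom) (MulEquiv.injective _),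
      ← Subgroup.mem_map_iff_mem (f := χ.toMonoidHom) χ.injective (x := y), hg']
    simp [MulAut.conj_apply, mul_assoc]
  obtain ⟨g, hg⟩ := sylow θ
  set ψ : MulAut ↥T.W := MulAut.conj g⁻¹ * θ with hψ
  have hψU : ∀ y, ψ y ∈ T.U1 ↔ y ∈ T.U1 := fun y => by
    rw [hψ, MulAut.mul_apply, MulAut.conj_apply, inv_inv]; exact hg y
  obtain ⟨n0, -, -, -, -, -, -, hUV, hVU⟩ := T.exists_opp
  obtain ⟨k, hk⟩ := sylow (ψ * MulAut.conj n0)
  have hkV : ∀ y, y ∈ T.V1 ↔ k⁻¹ * ψ y * k ∈ T.U1 := fun y => by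
    conv_lhs => rw [show y = n0 * (n0⁻¹ * y * n0) * n0⁻¹ by group, hUV]
    rw [← hk, MulAut.mul_apply, MulAut.conj_apply]
    group
  obtain ⟨σ, hσ, h⟩ := T.exists_nf (T.W_le k.2) (T.W_fix _ k.2)
  obtain ⟨n, hn, hnm, hna⟩ := T.exists_rep hσ
  obtain ⟨b, hb, hbf, u, hu, huf, e⟩ := h n hn hnm hna
  set b' : ↥T.W := ⟨b, T.borel_fix_mem hb hbf⟩
  set n' : ↥T.W := ⟨n, hn⟩
  set u' : ↥T.W := ⟨u, (T.U_spec hσ).1 ⟨hu, C.US_le_group _ hu, huf⟩⟩
  have huU : u' ∈ T.U1 := T.mem_U1.2 (C.US_mono K (fun _ h => h.1) hu)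
  have hbN : b' ∈ Subgroup.normalizer (T.U1 : Set ↥T.W) := T.B1_le_normalizer (T.mem_B1.2 hb)
  have ek : k = b' * n' * u' := Subtype.ext e
  have hR : ∀ y, y ∈ T.V1 ↔ n'⁻¹ * (b'⁻¹ * ψ y * b') * n' ∈ T.U1 := fun y => by
    rw [hkV, ek, show (b' * n' * u')⁻¹ * ψ y * (b' * n' * u') =
      u'⁻¹ * (n'⁻¹ * (b'⁻¹ * ψ y * b') * n') * u' by group,
      Subgroup.mul_mem_cancel_right _ huU, Subgroup.mul_mem_cancel_left _ (inv_mem huU)]
  have hbψ : ∀ y, b'⁻¹ * ψ y * b' ∈ T.U1 ↔ y ∈ T.U1 := fun y => by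
    rw [← hψU y]; exact (Subgroup.mem_normalizer_iff''.1 hbN _).symm
  -- the Weyl element of the second Sylow subgroup is the longest one
  have hall : ∀ r ∈ C.Pos, σ⁻¹ r ∈ C.Neg := by
    intro r hr
    refine T.neg_of_simple (inv_mem (T.mem_WT.1 hσ).1) hr fun j _ => ?_
    by_contra hj
    obtain ⟨x, hx, hxf, hx1⟩ := T.exists_base_ne hq (T.idx j)
    have hxW : x ∈ T.W := T.base_mem _ x hx hxf
    have hxU : (⟨x, hxW⟩ : ↥T.W) ∈ T.U1 := T.mem_U1.2 (C.US_mono K (fun _ h => h.1) hx)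
    have h2 : n'⁻¹ * ⟨x, hxW⟩ * n' ∈ T.U1 := by
      rw [T.mem_U1, Subgroup.coe_mul, Subgroup.coe_mul, Subgroup.coe_inv]
      have := C.conj_mem_US K (C.acts_inv K hna) (fun r hr =>
        T.pos_of_orbit (inv_mem hσ) rfl (not_not.1 fun h => hj ((C.neg_iff_not_pos _).2 h)) hr) hx
      rwa [inv_inv] at this
    obtain ⟨y, hy⟩ := ψ.surjective (b' * ⟨x, hxW⟩ * b'⁻¹)
    have hyx : b'⁻¹ * ψ y * b' = ⟨x, hxW⟩ := by rw [hy]; group
    have hyU : y ∈ T.U1 := by rw [← hbψ, hyx]; exact hxU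
    have hyV : y ∈ T.V1 := by rw [hR, hyx]; exact h2
    have hy1 := T.eq_one_of_B1_V1 (T.U1_le_B1 hyU) hyV
    rw [hy1, map_one] at hyx
    exact hx1 (by simpa using (congrArg Subtype.val hyx).symm)
  have hσN : ∀ r ∈ C.Neg, σ r ∈ C.Pos := fun r hr => by
    by_contra hc
    have := C.rev_pos (hall _ (C.rev_pos ((C.neg_iff_not_pos _).2 hc)))
    rw [T.WT_rev (inv_mem hσ), C.rev_rev, Equiv.Perm.coe_inv, Equiv.symm_apply_apply] at this
    exact (C.neg_iff_not_pos _).1 hr this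
  have hσP : ∀ r ∈ C.Pos, σ r ∈ C.Neg := fun r hr => by
    have := C.rev_neg (hσN _ (C.rev_neg hr))
    rwa [T.WT_rev hσ, C.rev_rev] at this
  have hn' : ∀ y, n'⁻¹ * y * n' ∈ T.U1 ↔ y ∈ T.V1 := fun y => by
    rw [T.mem_U1, T.mem_V1, Subgroup.coe_mul, Subgroup.coe_mul, Subgroup.coe_inv]
    show n⁻¹ * (y : GL D.Idx K) * n ∈ _ ↔ _
    constructor
    · intro h
      have := C.conj_mem_US K hna hσP h
      simpa [mul_assoc] using this
    · intro h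
      have := C.conj_mem_US K (C.acts_inv K hna) (T := C.Pos) (fun r hr => ?_) h
      · rwa [inv_inv] at this
      · by_contra hc
        have := hσN _ ((C.neg_iff_not_pos _).2 hc)
        rw [Equiv.Perm.coe_inv, Equiv.apply_symm_apply] at this
        exact (C.neg_iff_not_pos _).1 hr this
  refine ⟨b'⁻¹ * g⁻¹, ?_⟩
  rw [map_mul, mul_assoc, ← hψ]
  exact ⟨fun y => by rw [MulAut.mul_apply, MulAut.conj_apply, inv_inv]; exact hbψ y,
    fun y => by rw [MulAut.mul_apply, MulAut.conj_apply, inv_inv, ← hn', ← hR]⟩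

end Finite

end Tw

end Cfsg.Agent.Lib.LieTwisted.Twist
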