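import Cfsg.Agent.Lib.LieTwisted.Twist.TwRankOne
import Cfsg.Agent.Lib.BNPair.RankTwoFix

/-!
Elements commuting with a non-trivial unipotent element of a twisted group of rank two: their prime
orders divide the order of a proper parabolic subgroup.
-/

set_option autoImplicit false
set_option linter.unusedSectionVars false

namespace Cfsg.Agent.Lib.LieTwisted.Twist

open Cfsg.Lie ChevStructure
open scoped MatrixGroups Pointwise

variable {D : ChevalleyDatum} {C : Core D} {K : Type*} [Field K]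

namespace Tw

variable (T : Tw C K) [Finite K] (hq : 1 < T.q)
include T

include hq in
theorem up_of_ascent {n : ↥T.W} (hn : n ∈ T.N1) {σ : Equiv.Perm (Rt D)}
    (ha : C.Acts (n : GL D.Idx K) σ) {i : Fin D.rank} (hi : σ (C.p i) ∈ C.Pos) :
    BNPair.RankTwoFix.Up (T.bnPair hq) n (T.nS (T.idx i)) := by
  intro b hb
  set m := T.idx i with hm
  set g := n * b with hgdef
  have hσ := T.mem_WT_of_acts (T.mem_N1.1 hn) (T.W_fix _ n.2) ha
  obtain ⟨σ', hσ', h⟩ := T.exists_nf (T.W_le g.2) (T.W_fix _ g.2)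
  have hσσ : σ' = σ := by
    obtain ⟨r, hrW, hrN, hra⟩ := T.exists_rep hσ'
    obtain ⟨b', hb', -, u, hu, -, e⟩ := h r hrW hrN hra
    have huB : u ∈ D.borelSubgroup K := C.posUS_le_borel (C.US_mono K (fun _ h => h.1) hu)
    refine T.acts_eq_of_mem hrN hra ha (T.comm.bruhat_unique hrN (T.mem_N1.1 hn)
      hb' (mul_mem huB (inv_mem (T.mem_B1.1 hb))) ?_)
    calc (n : GL D.Idx K) = (g : GL D.Idx K) * (b : GL D.Idx K)⁻¹ := by simp [hgdef]
      _ = _ := by rw [e]; group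
  subst hσσ
  obtain ⟨b', hb', hbf, u, hu, huf, e⟩ := h n n.2 (T.mem_N1.1 hn) ha
  have huW : u ∈ T.W := (T.U_spec hσ').1 ⟨hu, C.US_le_group _ hu, huf⟩
  set u' : ↥T.W := (T.nS m)⁻¹ * ⟨u, huW⟩ * T.nS m with hu'
  have huU : u' ∈ T.B1 := by
    refine T.mem_B1.2 ?_
    have hacts := C.acts_inv K (T.nO_acts m)
    have h2 := C.conj_mem_US K hacts (T := C.Pos) (fun r hr => ?_) hu
    · refine C.posUS_le_borel ?_
      rw [hu', Subgroup.coe_mul, Subgroup.coe_mul, Subgroup.coe_inv]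
      simpa [nS] using h2
    · have hwi : (C.pprod (T.J m))⁻¹ = C.pprod (T.J m) := inv_eq_of_mul_eq_one_right (T.J_inv m)
      rw [hwi]
      show T.wO m r ∈ C.Pos
      by_contra hneg
      exact (C.neg_iff_not_pos _).1 hr.2
        (T.pos_of_orbit hσ' rfl hi ⟨hr.1, (C.neg_iff_not_pos _).2 hneg⟩)
  refine BNPair.Basic.mem_cell_iff.2 ⟨⟨b', T.borel_fix_mem hb' hbf⟩, T.mem_B1.2 hb', u', huU, ?_⟩
  have e' : n * b = ⟨b', T.borel_fix_mem hb' hbf⟩ * n * ⟨u, huW⟩ := Subtype.ext e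
  rw [show g = _ from hgdef.trans e', hu']
  group

include hq in
/-- An element of `U¹` fixes no chamber opposite to the base one unless it is trivial. -/
theorem not_opposite {a : ↥T.W} (haU : a ∈ T.U1) (ha1 : a ≠ 1) {g n : ↥T.W} (hn : n ∈ T.N1)
    (hg : g ∈ BNPair.Basic.cell (T.bnPair hq) n) (hag : g⁻¹ * a * g ∈ T.B1) :
    ∃ σ, C.Acts (n : GL D.Idx K) σ ∧ ∃ i, σ (C.p i) ∈ C.Pos := by
  obtain ⟨σ, hσG, hσ⟩ := C.exists_acts (T.mem_N1.1 hn)
  refine ⟨σ, hσ, ?_⟩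
  by_contra hcon
  push Not at hcon
  have hσT := T.mem_WT_of_acts (T.mem_N1.1 hn) (T.W_fix _ n.2) hσ
  have hP : ∀ r ∈ C.Pos, σ r ∈ C.Neg := fun r hr =>
    T.neg_of_simple hσG hr fun j _ => (C.neg_iff_not_pos _).2 (hcon j)
  obtain ⟨u, hu, v, hv, e⟩ := BNPair.Basic.mem_cell_iff.1 hg
  set a' := u⁻¹ * a * u with ha'
  have ha'U : a' ∈ T.U1 := by
    have := (Subgroup.mem_normalizer_iff''.1 (T.B1_le_normalizer hu) a).1 haU
    exact this
  have h1 : n⁻¹ * a' * n ∈ T.B1 := by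
    have h2 : v * (g⁻¹ * a * g) * v⁻¹ ∈ T.B1 := mul_mem (mul_mem hv hag) (inv_mem hv)
    rw [e, show v * ((u * n * v)⁻¹ * a * (u * n * v)) * v⁻¹ = n⁻¹ * (u⁻¹ * a * u) * n by group] at h2
    exact h2
  have h3 : n⁻¹ * a' * n ∈ T.V1 := by
    refine T.mem_V1.2 ?_
    rw [Subgroup.coe_mul, Subgroup.coe_mul, Subgroup.coe_inv]
    have := C.conj_mem_US K (C.acts_inv K hσ) (T := C.Neg) (fun r hr => ?_) (T.mem_U1.1 ha'U)
    · simpa using this
    · rw [C.neg_iff_not_pos]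
      intro hp
      have := hP _ hp
      rw [Equiv.Perm.coe_inv, Equiv.apply_symm_apply] at this
      exact (C.neg_iff_not_pos _).1 this hr
  have h4 := T.eq_one_of_B1_V1 h1 h3
  apply ha1
  have h5 : a' = 1 := by simpa using conj_eq_one_iff.1 (show n⁻¹ * a' * (n⁻¹)⁻¹ = 1 by rwa [inv_inv])
  simpa using conj_eq_one_iff.1 (show u⁻¹ * a * (u⁻¹)⁻¹ = 1 by rw [inv_inv]; exact h5)

include hq in
theorem card_Qm (m : Fin T.nn) :
    Nat.card ↥(T.Qm hq m) = Nat.card ↥T.B1 * (1 + T.q ^ (C.len (T.wO m) / T.d)) := by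
  classical
  have : Finite (GL D.Idx K) := inferInstance
  have hnB : T.nS m ∉ T.B1 := BNPair.Basic.not_mem_B (P := T.bnPair hq) ⟨m, rfl⟩
  let f : ↥T.B1 ⊕ (↥T.B1 × ↥(T.Xp m)) → ↥(T.Qm hq m) := fun x => x.elim
    (fun b => ⟨b.1, T.B1_le_Qm hq m b.2⟩)
    (fun y => ⟨y.1.1 * T.nS m * y.2.1, mul_mem (mul_mem (T.B1_le_Qm hq m y.1.2) (T.nS_mem_Qm hq m))
      (T.B1_le_Qm hq m (T.Xp_le_B1 m y.2.2))⟩)
  have hf : Function.Bijective f := by
    refine ⟨?_, ?_⟩
    · have hne : ∀ (b : ↥T.B1) (y : ↥T.B1 × ↥(T.Xp m)), (b : ↥T.W) ≠ y.1.1 * T.nS m * y.2.1 := fun b y h => by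
        apply hnB
        rw [show T.nS m = y.1.1⁻¹ * (y.1.1 * T.nS m * y.2.1) * y.2.1⁻¹ by group, ← h]
        exact mul_mem (mul_mem (inv_mem y.1.2) b.2) (inv_mem (T.Xp_le_B1 m y.2.2))
      rintro (b | y) (b' | y') h <;> have h' := congrArg Subtype.val h <;>
        simp only [f, Sum.elim_inl, Sum.elim_inr] at h'
      · exact congrArg Sum.inl (Subtype.ext h')
      · exact absurd h' (hne b y')
      · exact absurd h'.symm (hne b' y)
      · have hu : y.2.1 * y'.2.1⁻¹ ∈ T.Xp m := mul_mem y.2.2 (inv_mem y'.2.2)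
        have h6 : T.nS m * (y.2.1 * y'.2.1⁻¹) * (T.nS m)⁻¹ = y.1.1⁻¹ * y'.1.1 := by
          rw [show T.nS m * (y.2.1 * y'.2.1⁻¹) * (T.nS m)⁻¹ =
            y.1.1⁻¹ * (y.1.1 * T.nS m * y.2.1) * (y'.2.1⁻¹ * (T.nS m)⁻¹) by group, h']
          group
        have h7 : T.nS m * (y.2.1 * y'.2.1⁻¹) * (T.nS m)⁻¹ = 1 := by
          refine T.eq_one_of_B1_V1 (h6 ▸ mul_mem (inv_mem y.1.2) y'.1.2) (T.Xn_le_V1 m ?_)
          rw [← T.map_Xp]
          exact ⟨_, hu, by simp⟩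
        have h8 : y.2 = y'.2 := Subtype.ext (mul_inv_eq_one.1 (conj_eq_one_iff.1 h7))
        refine congrArg Sum.inr (Prod.ext (Subtype.ext ?_) h8)
        rw [h8] at h'
        exact mul_right_cancel (mul_right_cancel h')
    · rintro ⟨g, hg⟩
      rcases T.Qm_cases hq m hg with h | ⟨b, hb, u, hu, rfl⟩
      · exact ⟨Sum.inl ⟨g, h⟩, rfl⟩
      · exact ⟨Sum.inr (⟨b, hb⟩, ⟨u, hu⟩), rfl⟩
  rw [← Nat.card_eq_of_bijective f hf, Nat.card_sum, Nat.card_prod, T.card_Xp]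
  ring

variable {p f : ℕ} [Fact p.Prime] [CharP K p]

include hq in
/-- In rank two, the prime order of an element commuting with a non-trivial p-element divides the order
of a minimal parabolic subgroup. -/
theorem dvd_of_commute_unipotent (hT : T.q = p ^ f) {m0 m1 : Fin T.nn} (hne : m0 ≠ m1)
    (hall : ∀ m, m = m0 ∨ m = m1) {a b : ↥T.W} (ha : orderOf a = p) (hab : Commute a b) {r : ℕ}
    (hr : r.Prime) (hb : orderOf b = r) :
    r ∣ Nat.card ↥(T.Qm hq m0) ∨ r ∣ Nat.card ↥(T.Qm hq m1) := by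
  have : Finite (GL D.Idx K) := inferInstance
  obtain ⟨hp, hi⟩ := T.U1_sylow hq hT
  let S := hp.toSylow hi
  have hza : IsPGroup p ↥(Subgroup.zpowers a) :=
    IsPGroup.of_card (n := 1) (by rw [Nat.card_zpowers, ha, pow_one])
  obtain ⟨P, hP⟩ := hza.exists_le_sylow
  obtain ⟨g, hg⟩ := MulAction.exists_smul_eq ↥T.W P S
  have haS : MulAut.conj g a ∈ T.U1 := by
    have h1 : MulAut.conj g a ∈ ((g • P : Sylow p ↥T.W) : Subgroup ↥T.W) :=
      ⟨a, hP (Subgroup.mem_zpowers a), rfl⟩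
    rw [hg] at h1
    exact h1
  set e := MulAut.conj g
  have ha1 : e a ≠ 1 := fun h => by
    rw [EmbeddingLike.map_eq_one_iff] at h
    rw [h, orderOf_one] at ha
    exact (Fact.out : p.Prime).one_lt.ne ha
  have hS : (T.bnPair hq).S = {T.nS m0, T.nS m1} := by
    ext x
    constructor
    · rintro ⟨m, rfl⟩
      rcases hall m with rfl | rfl
      · exact Set.mem_insert _ _
      · exact Set.mem_insert_of_mem _ rfl
    · rintro (rfl | rfl) <;> exact ⟨_, rfl⟩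
  have hst : T.nS m0 ≠ T.nS m1 := fun h => hne (T.nS_inj (by rw [h, inv_mul_cancel]; exact one_mem _))
  refine BNPair.RankTwoFix.dvd_of_commute (P := T.bnPair hq) hst hS (T.U1_le_B1 haS) (fun x n hn hx hax => ?_)
    (hab.map e.toMonoidHom) hr (by rw [← hb]; exact orderOf_injective e.toMonoidHom e.injective b)
  obtain ⟨σ, hσ, i, hpos⟩ := T.not_opposite hq haS ha1 hn hx hax
  have hup := T.up_of_ascent hq hn hσ hpos
  rcases hall (T.idx i) with h | h
  · exact Or.inl (h ▸ hup)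
  · exact Or.inr (h ▸ hup)

end Tw

end Cfsg.Agent.Lib.LieTwisted.Twist
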