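import Cfsg.Agent.Lib.LieTwisted.Twist.OutSylow
import Mathlib.GroupTheory.Sylow

/-!
The normaliser of a subgroup of the torus of a twisted group acts on it through the twisted Weyl group.
-/

set_option autoImplicit false
set_option linter.unusedSectionVars false

namespace Cfsg.Agent.Lib.LieTwisted.Twist

open Cfsg.Lie ChevStructure
open scoped MatrixGroups Pointwise

variable {D : ChevalleyDatum} {C : Core D} {K : Type*} [Field K]

namespace Tw

variable (T : Tw C K) [Finite K]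
include T

theorem H1_comm {h k : ↥T.W} (hh : h ∈ T.H1) (hk : k ∈ T.H1) : h * k = k * h := by
  obtain ⟨c, hc⟩ := C.mem_diagonal_iff.1 (T.mem_H1.1 hh)
  obtain ⟨d, hd⟩ := C.mem_diagonal_iff.1 (T.mem_H1.1 hk)
  refine Subtype.ext ?_
  rw [Subgroup.coe_mul, Subgroup.coe_mul, hc, hd, C.HT_mul, C.HT_mul, mul_comm c d]

/-- The action of a normalising element is that of a representative of the twisted Weyl group. -/
theorem exists_monomial_of_normalizes {S : Subgroup ↥T.W} (hS : S ≤ T.H1) {g : ↥T.W}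
    (hg : ∀ s ∈ S, g * s * g⁻¹ ∈ S) :
    ∃ n : ↥T.W, ∃ σ ∈ T.WT, C.Acts (n : GL D.Idx K) σ ∧ n ∈ T.N1 ∧ ∀ s ∈ S, g * s * g⁻¹ = n * s * n⁻¹ := by
  obtain ⟨σ, hσ, h⟩ := T.exists_nf (T.W_le g.2) (T.W_fix _ g.2)
  obtain ⟨r, hrW, hrN, hra⟩ := T.exists_rep hσ
  obtain ⟨b, hb, hbf, u, hu, huf, e⟩ := h r hrW hrN hra
  obtain ⟨v, hv, k, hk, ebk, hvf, hkf⟩ := T.borel_fix hb hbf
  set n : ↥T.W := ⟨k * r, mul_mem (T.diag_mem k hk hkf) hrW⟩
  refine ⟨n, σ, hσ, by simpa [n] using C.acts_mul K (C.acts_diagonal hk) hra,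
    T.mem_N1.2 (mul_mem (Subgroup.mem_sup_left hk) hrN), fun s hs => ?_⟩
  set v' : ↥T.W := ⟨v, T.posU_fix_le ⟨hv, C.US_le_group _ hv, hvf⟩⟩
  set u' : ↥T.W := ⟨u, (T.U_spec hσ).1 ⟨hu, C.US_le_group _ hu, huf⟩⟩
  have eg : g = v' * n * u' := Subtype.ext (by
    show (g : GL D.Idx K) = v * (k * r) * u
    rw [e, ebk, mul_assoc v k r])
  set s' := g * s * g⁻¹ with hs'
  have hsH : s ∈ T.H1 := hS hs
  have hs'H : s' ∈ T.H1 := hS (hg s hs)
  have hnN : (n : GL D.Idx K) ∈ D.monomialSubgroup K := mul_mem (Subgroup.mem_sup_left hk) hrN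
  have hvU : v' ∈ T.U1 := T.mem_U1.2 hv
  have huU : u' ∈ T.U1 := T.mem_U1.2 (C.US_mono K (fun _ h => h.1) hu)
  set t := n * s * n⁻¹ with ht
  have htH : t ∈ T.H1 := T.mem_H1.2 (C.conj_diagonal hnN (T.mem_H1.1 hsH))
  -- the element `u` commutes with `s`
  have hus : u' = s⁻¹ * u' * s := by
    have e2 : v' * n * u' = s' * v' * n * u' * s⁻¹ := by
      rw [← eg, hs', eg]
      group
    have e3 : v' * n * u' = (s' * v' * t⁻¹) * n * (s * u' * s⁻¹) := by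
      rw [ht]
      calc v' * n * u' = s' * v' * n * u' * s⁻¹ := e2
        _ = _ := by group
    set b1 := s' * v' * t⁻¹
    have hb1 : b1 ∈ T.B1 := mul_mem (mul_mem (T.H1_le_B1 hs'H) (T.U1_le_B1 hvU)) (inv_mem (T.H1_le_B1 htH))
    have hw : n * (u' * (s * u' * s⁻¹)⁻¹) * n⁻¹ = v'⁻¹ * b1 := by
      rw [show n * (u' * (s * u' * s⁻¹)⁻¹) * n⁻¹ = v'⁻¹ * (v' * n * u') * (s * u' * s⁻¹)⁻¹ * n⁻¹ by group, e3]
      group
    have h1 : n * (u' * (s * u' * s⁻¹)⁻¹) * n⁻¹ = 1 := by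
      refine T.eq_one_of_B1_V1 (hw ▸ mul_mem (inv_mem (T.U1_le_B1 hvU)) hb1) (T.mem_V1.2 ?_)
      rw [Subgroup.coe_mul, Subgroup.coe_mul, Subgroup.coe_inv]
      refine C.conj_mem_US K (T := C.Neg) (by simpa [n] using C.acts_mul K (C.acts_diagonal hk) hra)
        (fun r hr => hr.2) (S := C.inv' σ) ?_
      rw [Subgroup.coe_mul, Subgroup.coe_inv, Subgroup.coe_mul, Subgroup.coe_mul, Subgroup.coe_inv]
      exact mul_mem hu (inv_mem ((Subgroup.mem_normalizer_iff.1 (C.diag_le_normalizer _ (T.mem_H1.1 hsH)) u).1 hu))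
    have h2 := mul_inv_eq_one.1 (conj_eq_one_iff.1 h1)
    calc u' = s⁻¹ * (s * u' * s⁻¹) * s := by group
      _ = _ := by rw [← h2]
  -- so the image of `s` is the conjugate by the monomial part, up to the unipotent part
  have h3 : v' * t = s' * v' := by
    have : g * s = v' * t * n * u' := by
      rw [eg, ht]
      calc v' * n * u' * s = v' * n * (s * (s⁻¹ * u' * s)) := by group
        _ = v' * n * (s * u') := by rw [← hus]
        _ = _ := by group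
    have h4 : g * s = s' * v' * n * u' := by rw [hs', eg]; group
    rw [h4] at this
    exact (mul_right_cancel (mul_right_cancel this)).symm
  have h5 : t * s'⁻¹ = v'⁻¹ * (s' * v' * s'⁻¹) := by
    calc t * s'⁻¹ = v'⁻¹ * (v' * t) * s'⁻¹ := by group
      _ = _ := by rw [h3]; group
  have h6 : t * s'⁻¹ = 1 := by
    have hU : t * s'⁻¹ ∈ T.U1 := by
      rw [h5]
      exact mul_mem (inv_mem hvU) ((Subgroup.mem_normalizer_iff.1 (T.H1_normalizes hs'H).1 v').1 hvU)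
    have hH : t * s'⁻¹ ∈ T.H1 := mul_mem htH (inv_mem hs'H)
    have : ((t * s'⁻¹ : ↥T.W) : GL D.Idx K) ∈ C.US K C.Pos ⊓ D.diagonalSubgroup K := ⟨T.mem_U1.1 hU, T.mem_H1.1 hH⟩
    rw [C.US_inf_diagonal, Subgroup.mem_bot] at this
    exact Subtype.ext this
  exact (mul_inv_eq_one.1 h6).symm

/-- A power of a normalising element by the order of the twisted Weyl group centralises. -/
theorem pow_card_WT_commute {S : Subgroup ↥T.W} (hS : S ≤ T.H1) {g : ↥T.W}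
    (hg : ∀ s ∈ S, g * s * g⁻¹ ∈ S) {s : ↥T.W} (hs : s ∈ S) : Commute (g ^ Nat.card ↥T.WT) s := by
  obtain ⟨n, σ, hσ, hna, hnN, hns⟩ := T.exists_monomial_of_normalizes hS hg
  have key : ∀ k : ℕ, ∀ s ∈ S, g ^ k * s * (g ^ k)⁻¹ = n ^ k * s * (n ^ k)⁻¹ ∧ g ^ k * s * (g ^ k)⁻¹ ∈ S := by
    intro k
    induction k with
    | zero => intro s hs; simpa using hs
    | succ k ih =>
      intro s hs
      obtain ⟨h1, h2⟩ := ih s hs
      rw [pow_succ', pow_succ', show g * g ^ k * s * (g * g ^ k)⁻¹ = g * (g ^ k * s * (g ^ k)⁻¹) * g⁻¹ by group]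
      refine ⟨?_, hg _ h2⟩
      rw [hns _ h2, h1]
      group
  have hacts : ∀ k : ℕ, C.Acts ((n ^ k : ↥T.W) : GL D.Idx K) (σ ^ k) := by
    intro k
    induction k with
    | zero => rw [pow_zero, pow_zero]; exact fun r => ⟨1, fun t => by simp⟩
    | succ k ih => rw [pow_succ, pow_succ, Subgroup.coe_mul]; exact C.acts_mul K ih hna
  have hm : σ ^ Nat.card ↥T.WT = 1 := by
    have h := congrArg Subtype.val (pow_card_eq_one' (x := (⟨σ, hσ⟩ : ↥T.WT)))
    rwa [SubgroupClass.coe_pow, Subgroup.coe_one] at h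
  have hH : n ^ Nat.card ↥T.WT ∈ T.H1 := T.mem_H1.2
    (C.mem_diagonal_of_acts_one (T.mem_N1.1 (pow_mem hnN _)) (hm ▸ hacts _))
  have h := (key (Nat.card ↥T.WT) s hs).1
  rw [T.H1_comm hH (hS hs), mul_inv_cancel_right] at h
  exact mul_inv_eq_iff_eq_mul.1 h

end Tw

/-- An element normalising a subgroup of an abelian Sylow subgroup acts on it as an element normalising
the Sylow subgroup. -/
theorem exists_normalizer_same_action {G : Type*} [Group G] [Finite G] {p : ℕ} [Fact p.Prime] (S : Sylow p G)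
    (hab : ∀ a ∈ (S : Subgroup G), ∀ b ∈ (S : Subgroup G), a * b = b * a) {P : Subgroup G}
    (hPS : P ≤ (S : Subgroup G)) {y : G} (hy : ∀ x ∈ P, y * x * y⁻¹ ∈ P) :
    ∃ g, (∀ s ∈ (S : Subgroup G), g * s * g⁻¹ ∈ (S : Subgroup G)) ∧ ∀ x ∈ P, g * x * g⁻¹ = y * x * y⁻¹ := by
  set Z := Subgroup.centralizer (P : Set G)
  have h1 : (S : Subgroup G) ≤ Z := fun s hs => Subgroup.mem_centralizer_iff.2 fun x hx => hab x (hPS hx) s hs
  have h2 : ((y⁻¹ • S : Sylow p G) : Subgroup G) ≤ Z := by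
    intro z hz
    refine Subgroup.mem_centralizer_iff.2 fun x hx => ?_
    obtain ⟨s, hs, rfl⟩ := hz
    have h3 := hab _ (hPS (hy x hx)) s hs
    simp only [MulDistribMulAction.toMonoidEnd_apply, MulDistribMulAction.toMonoidHom_apply, MulAut.smul_def,
      MulAut.conj_apply, inv_inv]
    calc x * (y⁻¹ * s * y) = y⁻¹ * (y * x * y⁻¹ * s) * y := by group
      _ = y⁻¹ * (s * (y * x * y⁻¹)) * y := by rw [h3]
      _ = _ := by group
  obtain ⟨z, hz⟩ := MulAction.exists_smul_eq ↥Z ((y⁻¹ • S).subtype h2) (S.subtype h1)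
  refine ⟨y * (z : G)⁻¹, fun s hs => ?_, fun x hx => ?_⟩
  · have h4 : (⟨s, h1 hs⟩ : ↥Z) ∈ ((z • (y⁻¹ • S).subtype h2 : Sylow p ↥Z) : Subgroup ↥Z) := by
      rw [hz]; exact hs
    obtain ⟨w, hw, e⟩ := h4
    obtain ⟨s', hs', e'⟩ := (hw : (w : G) ∈ ((y⁻¹ • S : Sylow p G) : Subgroup G))
    have e1 : (z : G) * (w : G) * (z : G)⁻¹ = s := congrArg Subtype.val e
    have e2 : y⁻¹ * s' * y = (w : G) := by simpa [MulAut.smul_def] using e'
    rw [show y * (z : G)⁻¹ * s * (y * (z : G)⁻¹)⁻¹ = y * ((z : G)⁻¹ * s * z) * y⁻¹ by group, ← e1,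
      show y * ((z : G)⁻¹ * ((z : G) * (w : G) * (z : G)⁻¹) * z) * y⁻¹ = y * (w : G) * y⁻¹ by group, ← e2,
      show y * (y⁻¹ * s' * y) * y⁻¹ = s' by group]
    exact hs'
  · have h5 := Subgroup.mem_centralizer_iff.1 z.2 x hx
    calc y * (z : G)⁻¹ * x * (y * (z : G)⁻¹)⁻¹ = y * ((z : G)⁻¹ * (x * z)) * y⁻¹ := by group
      _ = _ := by rw [h5, inv_mul_cancel_left]

/-- If the torus contains a Sylow `p`-subgroup, a power of an element normalising a `p`-subgroup by the order of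
the twisted Weyl group centralises it. -/
theorem Tw.pow_card_WT_fix {D : ChevalleyDatum} {C : Core D} {K : Type*} [Field K] [Finite K] (T : Tw C K)
    {p : ℕ} [Fact p.Prime] (hp : (Nat.card ↥T.W).factorization p = (Nat.card ↥T.H1).factorization p)
    {P : Subgroup ↥T.W} (hP : IsPGroup p ↥P) {y : ↥T.W} (hy : ∀ z ∈ P, y * z * y⁻¹ ∈ P) {x : ↥T.W} (hx : x ∈ P) :
    y ^ Nat.card ↥T.WT * x * (y ^ Nat.card ↥T.WT)⁻¹ = x := by
  let S0 : Sylow p ↥T.H1 := Classical.choice inferInstance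
  let S : Sylow p ↥T.W := Sylow.ofCard ((S0 : Subgroup ↥T.H1).map T.H1.subtype) (by
    rw [Subgroup.card_map_of_injective (Subgroup.subtype_injective _), S0.card_eq_multiplicity, hp])
  have hSle : (S : Subgroup ↥T.W) ≤ T.H1 := by
    rintro _ ⟨s, -, rfl⟩; exact s.2
  obtain ⟨Q, hQ⟩ := hP.exists_le_sylow
  obtain ⟨g, hg⟩ := MulAction.exists_smul_eq ↥T.W Q S
  set φ := MulAut.conj g with hφ
  have hPS : P.map φ.toMonoidHom ≤ (S : Subgroup ↥T.W) := by
    rintro _ ⟨p, hp, rfl⟩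
    rw [← hg]
    exact ⟨p, hQ hp, rfl⟩
  obtain ⟨n, hnS, hn⟩ := exists_normalizer_same_action S (fun a ha b hb => T.H1_comm (hSle ha) (hSle hb)) hPS
    (y := φ y) (fun z hz => by
      obtain ⟨p, hp, rfl⟩ := hz
      exact ⟨y * p * y⁻¹, hy p hp, by simp [map_mul]⟩)
  have hcomm : Commute (n ^ Nat.card ↥T.WT) (φ x) := T.pow_card_WT_commute hSle hnS (hPS ⟨x, hx, rfl⟩)
  have key : ∀ k : ℕ, n ^ k * φ x * (n ^ k)⁻¹ = φ (y ^ k * x * (y ^ k)⁻¹) ∧ y ^ k * x * (y ^ k)⁻¹ ∈ P := by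
    intro k
    induction k with
    | zero => exact ⟨by simp, by simpa using hx⟩
    | succ k ih =>
      obtain ⟨h1, h2⟩ := ih
      rw [pow_succ', pow_succ', show y * y ^ k * x * (y * y ^ k)⁻¹ = y * (y ^ k * x * (y ^ k)⁻¹) * y⁻¹ by group]
      refine ⟨?_, hy _ h2⟩
      rw [show n * n ^ k * φ x * (n * n ^ k)⁻¹ = n * (n ^ k * φ x * (n ^ k)⁻¹) * n⁻¹ by group, h1,
        (show n * φ (y ^ k * x * (y ^ k)⁻¹) * n⁻¹ = φ y * φ (y ^ k * x * (y ^ k)⁻¹) * (φ y)⁻¹ from hn _ ⟨_, h2, rfl⟩)]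
      simp [map_mul]
  refine φ.injective ?_
  rw [← (key _).1]
  exact mul_inv_eq_iff_eq_mul.2 hcomm.eq

end Cfsg.Agent.Lib.LieTwisted.Twist
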